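import Groth.Agent.AlgSt.K743.BC

/-!
# The comparison map `X ×_Z Y ⟶ X ×_T Y` and graphs are base changes of the diagonal
-/

set_option autoImplicit false
set_option backward.isDefEq.respectTransparency false
set_option backward.isDefEq.respectTransparency.types false

universe v₅ u₅ v₄ u₄ v₃ u₃ v₂ u₂ v u

open CategoryTheory CategoryTheory.Limits AlgebraicGeometry Opposite

namespace K743.DiagBC

open K743.BC

section

variable {C : Type u} [Category.{v} C] {𝒳 : BasedCategory.{v₂, u₂} C} {𝒴 : BasedCategory.{v₃, u₃} C}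
  {𝒵 : BasedCategory.{v₄, u₄} C} {𝒯 : BasedCategory.{v₅, u₅} C}
  (f : 𝒳 ⥤ᵇ 𝒵) (g : 𝒴 ⥤ᵇ 𝒵) (t : 𝒵 ⥤ᵇ 𝒯)
  (e : BasedFunctor.comp (FibCat.fpFst f g) (BasedFunctor.comp f t) ≅
      BasedFunctor.comp (FibCat.fpSnd f g) (BasedFunctor.comp g t))

/-- `X ×_T Y ⟶ Z ×_T Z`. -/
def cmpB : FibCat.fp (BasedFunctor.comp f t) (BasedFunctor.comp g t) ⥤ᵇ FibCat.fp t t :=
  FibCat.fpLift (BasedFunctor.comp (FibCat.fpFst (BasedFunctor.comp f t) (BasedFunctor.comp g t)) f)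
    (BasedFunctor.comp (FibCat.fpSnd (BasedFunctor.comp f t) (BasedFunctor.comp g t)) g)
    (FibCat.fpIso (BasedFunctor.comp f t) (BasedFunctor.comp g t))

variable (he : ∀ x, e.hom.toNatTrans.app x = t.map x.obj.iso.hom)

include he in
theorem cmpE_w (x : (FibCat.fp f g).obj) :
    t.map (𝟙 (f.obj x.obj.fst)) ≫ 𝟙 (t.obj (f.obj x.obj.fst)) =
      e.hom.toNatTrans.app x ≫ t.map x.obj.iso.inv := by
  rw [he]
  change _ = t.map x.obj.iso.hom ≫ t.map x.obj.iso.inv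
  rw [← Functor.map_comp, Iso.hom_inv_id]
  simp

/-- The 2-isomorphism of the comparison square. -/
def cmpE : BasedFunctor.comp (FibCat.fpLift (FibCat.fpFst f g) (FibCat.fpSnd f g) e) (cmpB f g t) ≅
    BasedFunctor.comp (BasedFunctor.comp (FibCat.fpFst f g) f) (FibCat.diag t) :=
  BasedNatIso.mkNatIso
    (NatIso.ofComponents (fun x => ObjectProperty.isoMk _
      (CategoricalPullback.mkIso (Iso.refl (f.obj x.obj.fst)) x.obj.iso.symm (cmpE_w f g t e he x)))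
      (fun {x x'} φ => by
        apply ObjectProperty.hom_ext
        apply CategoricalPullback.hom_ext
        · change f.map φ.hom.fst ≫ 𝟙 _ = 𝟙 _ ≫ f.map φ.hom.fst
          simp
        · change g.map φ.hom.snd ≫ x'.obj.iso.inv = x.obj.iso.inv ≫ f.map φ.hom.fst
          rw [Iso.eq_inv_comp, ← Category.assoc, ← φ.hom.w]
          simp))
    (fun x => by
      rw [← BasedFunctor.isHomLift_iff (FibCat.fpFst t t)]
      change 𝒵.p.IsHomLift (𝟙 (𝒳.p.obj x.obj.fst)) (𝟙 (f.obj x.obj.fst))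
      infer_instance)

theorem cmp_isCart : IsCart (FibCat.fpLift (FibCat.fpFst f g) (FibCat.fpSnd f g) e) (FibCat.diag t)
    (BasedFunctor.comp (FibCat.fpFst f g) f) (cmpB f g t) (cmpE f g t e he) where
  full := ⟨by
    intro x x' φ
    let α : x.obj.fst ⟶ x'.obj.fst := φ.hom.fst.hom.fst
    let β : x.obj.snd ⟶ x'.obj.snd := φ.hom.fst.hom.snd
    let γ : f.obj x.obj.fst ⟶ f.obj x'.obj.fst := φ.hom.snd
    have w := φ.hom.w
    have w1 : f.map α ≫ 𝟙 (f.obj x'.obj.fst) = 𝟙 (f.obj x.obj.fst) ≫ γ :=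
      congrArg (fun t => t.hom.fst) w
    have w2 : g.map β ≫ x'.obj.iso.inv = x.obj.iso.inv ≫ γ :=
      congrArg (fun t => t.hom.snd) w
    rw [Category.comp_id, Category.id_comp] at w1
    refine ⟨ObjectProperty.homMk { fst := α, snd := β, w := ?_ }, ?_⟩
    · rw [Iso.comp_inv_eq, Category.assoc, Iso.eq_inv_comp] at w2
      rw [w1, w2]
    · apply ObjectProperty.hom_ext
      apply CategoricalPullback.hom_ext
      · apply ObjectProperty.hom_ext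
        exact CategoricalPullback.hom_ext rfl rfl
      · exact w1⟩
  faithful := ⟨by
    intro x x' φ ψ h
    have h1 : φ.hom.fst = ψ.hom.fst := congrArg (fun t => t.hom.fst.hom.fst) h
    have h2 : φ.hom.snd = ψ.hom.snd := congrArg (fun t => t.hom.fst.hom.snd) h
    apply ObjectProperty.hom_ext
    exact CategoricalPullback.hom_ext h1 h2⟩
  surj := by
    intro ζ
    have hζ := ζ.property
    let μ₁ : f.obj ζ.obj.fst.obj.fst ≅ ζ.obj.snd := (FibCat.fpFst t t).mapIso ζ.obj.iso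
    let μ₂ : g.obj ζ.obj.fst.obj.snd ≅ ζ.obj.snd := (FibCat.fpSnd t t).mapIso ζ.obj.iso
    have hμ₁ : 𝒵.p.IsHomLift (𝟙 (𝒳.p.obj ζ.obj.fst.obj.fst)) μ₁.hom :=
      @BasedFunctor.preserves_isHomLift _ _ _ _ (FibCat.fpFst t t) _ _ _ _ _ ζ.obj.iso.hom hζ
    have hμ₂ : 𝒵.p.IsHomLift (𝟙 (𝒳.p.obj ζ.obj.fst.obj.fst)) μ₂.hom :=
      @BasedFunctor.preserves_isHomLift _ _ _ _ (FibCat.fpSnd t t) _ _ _ _ _ ζ.obj.iso.hom hζ
    have hμ₂' : 𝒵.p.IsHomLift (𝟙 (𝒳.p.obj ζ.obj.fst.obj.fst)) μ₂.inv := IsHomLift.lift_id_inv _ _ _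
    have w : t.map μ₁.hom ≫ 𝟙 (t.obj ζ.obj.snd) = ζ.obj.fst.obj.iso.hom ≫ t.map μ₂.hom := ζ.obj.iso.hom.hom.w
    rw [Category.comp_id] at w
    let θ : f.obj ζ.obj.fst.obj.fst ≅ g.obj ζ.obj.fst.obj.snd := μ₁ ≪≫ μ₂.symm
    have hθ : 𝒵.p.IsHomLift (𝟙 (𝒳.p.obj ζ.obj.fst.obj.fst)) θ.hom := by
      have : 𝒵.p.IsHomLift (𝟙 (𝒳.p.obj ζ.obj.fst.obj.fst) ≫ 𝟙 (𝒳.p.obj ζ.obj.fst.obj.fst)) (μ₁.hom ≫ μ₂.inv) := by
        infer_instance
      rwa [Category.comp_id] at this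
    let ξ : (FibCat.fp f g).obj := ⟨{ fst := ζ.obj.fst.obj.fst, snd := ζ.obj.fst.obj.snd, iso := θ }, hθ⟩
    have hξ : e.hom.toNatTrans.app ξ = ζ.obj.fst.obj.iso.hom := by
      rw [he]
      change t.map (μ₁.hom ≫ μ₂.inv) = _
      rw [Functor.map_comp, w, Category.assoc, ← Functor.map_comp, Iso.hom_inv_id, CategoryTheory.Functor.map_id]
      exact Category.comp_id _
    have key : t.map (f.map (𝟙 ζ.obj.fst.obj.fst)) ≫ ζ.obj.fst.obj.iso.hom =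
        e.hom.toNatTrans.app ξ ≫ t.map (g.map (𝟙 ζ.obj.fst.obj.snd)) := by
      rw [hξ]
      have h1 : t.map (f.map (𝟙 ζ.obj.fst.obj.fst)) = 𝟙 _ := by simp
      have h2 : t.map (g.map (𝟙 ζ.obj.fst.obj.snd)) = 𝟙 _ := by simp
      rw [h1, h2]
      exact (Category.id_comp _).trans (Category.comp_id _).symm
    let i₁ : (FibCat.fpLift (FibCat.fpFst f g) (FibCat.fpSnd f g) e).obj ξ ≅ ζ.obj.fst :=
      ObjectProperty.isoMk _ (CategoricalPullback.mkIso (Iso.refl ζ.obj.fst.obj.fst) (Iso.refl ζ.obj.fst.obj.snd) key)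
    refine ⟨ξ, ObjectProperty.isoMk _ (CategoricalPullback.mkIso i₁ μ₁ ?_), ?_⟩
    · apply ObjectProperty.hom_ext
      apply CategoricalPullback.hom_ext
      · change f.map (𝟙 _) ≫ μ₁.hom = 𝟙 _ ≫ μ₁.hom
        simp
      · change g.map (𝟙 _) ≫ μ₂.hom = (μ₂.hom ≫ μ₁.inv) ≫ μ₁.hom
        simp
    · rw [← BasedFunctor.isHomLift_iff (FibCat.fpFst (cmpB f g t) (FibCat.diag t))]
      rw [← BasedFunctor.isHomLift_iff (FibCat.fpFst (BasedFunctor.comp f t) (BasedFunctor.comp g t))]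
      change 𝒳.p.IsHomLift (𝟙 (𝒳.p.obj ζ.obj.fst.obj.fst)) (𝟙 ζ.obj.fst.obj.fst)
      exact IsHomLift.id rfl

end

section Graph

variable {C : Type u} [Category.{v} C] {𝒳 : BasedCategory.{v₂, u₂} C} {𝒴 : BasedCategory.{v₃, u₃} C}
  {𝒯 : BasedCategory.{v₄, u₄} C}
  (p : 𝒳 ⥤ᵇ 𝒯) (q : 𝒴 ⥤ᵇ 𝒯) (g : 𝒳 ⥤ᵇ 𝒴)
  (e : BasedFunctor.comp (BasedFunctor.id 𝒳) p ≅ BasedFunctor.comp g q)

/-- `X ×_T Y ⟶ Y ×_T Y` induced by `g`. -/
def graphB : FibCat.fp p q ⥤ᵇ FibCat.fp q q :=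
  FibCat.fpLift (BasedFunctor.comp (FibCat.fpFst p q) g) (FibCat.fpSnd p q)
    (whiskerLeftIso (FibCat.fpFst p q) e.symm ≪≫ FibCat.fpIso p q)

theorem e_inv_hom (x : 𝒳.obj) : e.inv.toNatTrans.app x ≫ e.hom.toNatTrans.app x = 𝟙 (q.obj (g.obj x)) := by
  have := congrArg (fun t => t.toNatTrans) e.inv_hom_id
  exact congrArg (fun t => t.app x) this

theorem e_hom_inv (x : 𝒳.obj) : e.hom.toNatTrans.app x ≫ e.inv.toNatTrans.app x = 𝟙 (p.obj x) := by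
  have := congrArg (fun t => t.toNatTrans) e.hom_inv_id
  exact congrArg (fun t => t.app x) this

theorem graphE_w (x : 𝒳.obj) :
    q.map (𝟙 (g.obj x)) ≫ 𝟙 (q.obj (g.obj x)) =
      (e.inv.toNatTrans.app x ≫ e.hom.toNatTrans.app x) ≫ q.map (𝟙 (g.obj x)) := by
  rw [e_inv_hom, CategoryTheory.Functor.map_id]

/-- The 2-isomorphism of the graph square. -/
def graphE : BasedFunctor.comp (FibCat.fpLift (BasedFunctor.id 𝒳) g e) (graphB p q g e) ≅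
    BasedFunctor.comp g (FibCat.diag q) :=
  BasedNatIso.mkNatIso
    (NatIso.ofComponents (fun x => ObjectProperty.isoMk _
      (CategoricalPullback.mkIso (Iso.refl (g.obj x)) (Iso.refl (g.obj x)) (graphE_w p q g e x)))
      (fun {x x'} φ => by
        apply ObjectProperty.hom_ext
        apply CategoricalPullback.hom_ext
        · change g.map φ ≫ 𝟙 _ = 𝟙 _ ≫ g.map φ
          simp
        · change g.map φ ≫ 𝟙 _ = 𝟙 _ ≫ g.map φ
          simp))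
    (fun x => by
      rw [← BasedFunctor.isHomLift_iff (FibCat.fpFst q q)]
      change 𝒴.p.IsHomLift (𝟙 (𝒳.p.obj x)) (𝟙 (g.obj x))
      infer_instance)

theorem graph_isCart : IsCart (FibCat.fpLift (BasedFunctor.id 𝒳) g e) (FibCat.diag q) g (graphB p q g e)
    (graphE p q g e) where
  full := ⟨by
    intro x x' φ
    let α : x ⟶ x' := φ.hom.fst.hom.fst
    let β : g.obj x ⟶ g.obj x' := φ.hom.fst.hom.snd
    let γ : g.obj x ⟶ g.obj x' := φ.hom.snd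
    have w := φ.hom.w
    have w1 : g.map α ≫ 𝟙 (g.obj x') = 𝟙 (g.obj x) ≫ γ := congrArg (fun t => t.hom.fst) w
    have w2 : β ≫ 𝟙 (g.obj x') = 𝟙 (g.obj x) ≫ γ := congrArg (fun t => t.hom.snd) w
    rw [Category.comp_id, Category.id_comp] at w1 w2
    refine ⟨α, ?_⟩
    apply ObjectProperty.hom_ext
    apply CategoricalPullback.hom_ext
    · apply ObjectProperty.hom_ext
      exact CategoricalPullback.hom_ext rfl (w1.trans w2.symm)
    · exact w1⟩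
  faithful := ⟨by
    intro x x' φ ψ h
    exact congrArg (fun t => t.hom.fst.hom.fst) h⟩
  surj := by
    intro ζ
    have hζ := ζ.property
    let μ₁ : g.obj ζ.obj.fst.obj.fst ≅ ζ.obj.snd := (FibCat.fpFst q q).mapIso ζ.obj.iso
    let μ₂ : ζ.obj.fst.obj.snd ≅ ζ.obj.snd := (FibCat.fpSnd q q).mapIso ζ.obj.iso
    have w : q.map μ₁.hom ≫ 𝟙 (q.obj ζ.obj.snd) =
      (e.inv.toNatTrans.app ζ.obj.fst.obj.fst ≫ ζ.obj.fst.obj.iso.hom) ≫ q.map μ₂.hom := ζ.obj.iso.hom.hom.w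
    rw [Category.comp_id] at w
    have key : p.map (𝟙 ζ.obj.fst.obj.fst) ≫ ζ.obj.fst.obj.iso.hom =
        e.hom.toNatTrans.app ζ.obj.fst.obj.fst ≫ q.map (μ₁.hom ≫ μ₂.inv) := by
      rw [CategoryTheory.Functor.map_comp, w, CategoryTheory.Functor.map_id, Category.assoc, Category.assoc,
        ← CategoryTheory.Functor.map_comp, Iso.hom_inv_id, CategoryTheory.Functor.map_id, Category.comp_id,
        ← Category.assoc, e_hom_inv]
    let i₁ : (FibCat.fpLift (BasedFunctor.id 𝒳) g e).obj ζ.obj.fst.obj.fst ≅ ζ.obj.fst :=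
      ObjectProperty.isoMk _ (CategoricalPullback.mkIso (Iso.refl ζ.obj.fst.obj.fst) (μ₁ ≪≫ μ₂.symm) key)
    refine ⟨ζ.obj.fst.obj.fst, ObjectProperty.isoMk _ (CategoricalPullback.mkIso i₁ μ₁ ?_), ?_⟩
    · apply ObjectProperty.hom_ext
      apply CategoricalPullback.hom_ext
      · change g.map (𝟙 _) ≫ μ₁.hom = 𝟙 _ ≫ μ₁.hom
        simp
      · change (μ₁.hom ≫ μ₂.inv) ≫ μ₂.hom = 𝟙 _ ≫ μ₁.hom
        simp
    · rw [← BasedFunctor.isHomLift_iff (FibCat.fpFst (graphB p q g e) (FibCat.diag q))]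
      rw [← BasedFunctor.isHomLift_iff (FibCat.fpFst p q)]
      change 𝒳.p.IsHomLift (𝟙 (𝒳.p.obj ζ.obj.fst.obj.fst)) (𝟙 ζ.obj.fst.obj.fst)
      exact IsHomLift.id rfl

end Graph

section Sp

variable {S : Scheme.{u}}

/-- The comparison map `X ×_Z Y ⟶ X ×_T Y` is a base change of the diagonal of `Z ⟶ T`. -/
theorem repByAlgSpWith_cmp {𝒳 𝒴 𝒵 𝒯 : AlgSt.Cat S} (f : 𝒳 ⥤ᵇ 𝒵) (g : 𝒴 ⥤ᵇ 𝒵) (t : 𝒵 ⥤ᵇ 𝒯)
    (e : BasedFunctor.comp (FibCat.fpFst f g) (BasedFunctor.comp f t) ≅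
      BasedFunctor.comp (FibCat.fpSnd f g) (BasedFunctor.comp g t))
    (he : ∀ x, e.hom.toNatTrans.app x = t.map x.obj.iso.hom)
    {P : MorphismProperty (AlgSp.Sp S)} (h : AlgSt.RepByAlgSpWith P (FibCat.diag t)) :
    AlgSt.RepByAlgSpWith P (FibCat.fpLift (FibCat.fpFst f g) (FibCat.fpSnd f g) e) :=
  (cmp_isCart f g t e he).repByAlgSpWith h

/-- The graph `X ⟶ X ×_T Y` of `g : X ⟶ Y` over `T` is a base change of the diagonal of `Y ⟶ T`. -/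
theorem repByAlgSpWith_graph {𝒳 𝒴 𝒯 : AlgSt.Cat S} (p : 𝒳 ⥤ᵇ 𝒯) (q : 𝒴 ⥤ᵇ 𝒯) (g : 𝒳 ⥤ᵇ 𝒴)
    (e : BasedFunctor.comp (BasedFunctor.id 𝒳) p ≅ BasedFunctor.comp g q)
    {P : MorphismProperty (AlgSp.Sp S)} (h : AlgSt.RepByAlgSpWith P (FibCat.diag q)) :
    AlgSt.RepByAlgSpWith P (FibCat.fpLift (BasedFunctor.id 𝒳) g e) :=
  (graph_isCart p q g e).repByAlgSpWith h

end Sp

end K743.DiagBC
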