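import Groth.Agent.AlgSt.K743.Pt
import Groth.Prelude.Def_AlgSt3

/-!
# Charts of 2-fibre products and the chart lemma for `LocQ`
-/

set_option autoImplicit false
set_option backward.isDefEq.respectTransparency false
set_option backward.isDefEq.respectTransparency.types false

universe v₄ u₄ v₃ u₃ v₂ u₂ v u

open CategoryTheory CategoryTheory.Limits AlgebraicGeometry Opposite

namespace K743.Chart

open AlgSt K735.Fib K735.Fp K735.Rep K735.Pts K743.Pt

variable {S : Scheme.{u}}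

/-- `overMap` is functorial up to 2-isomorphism. -/
def overMapComp {U V W : Over S} (g : U ⟶ V) (h : V ⟶ W) :
    BasedFunctor.comp (AlgSt.overMap g) (AlgSt.overMap h) ≅ AlgSt.overMap (g ≫ h) :=
  K735.Fib.mkIso (fun x => Over.isoMk (Iso.refl _) (by
      change 𝟙 _ ≫ x.hom ≫ g ≫ h = (x.hom ≫ g) ≫ h
      simp))
    (fun {x y} φ => by
      apply Over.OverMorphism.ext
      change φ.left ≫ 𝟙 _ = 𝟙 _ ≫ φ.left
      simp)
    (fun x => vert_of_map_eq rfl rfl)

def overMapSp {W T : Over S} (s : W ⟶ T) :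
    BasedFunctor.comp (AlgSt.ofOverCat W) (BasedFunctor.comp (AlgSt.ofSpMap ((AlgSp.yon S).map s))
      (AlgSt.toOverCat T)) ≅ AlgSt.overMap s :=
  K735.Fib.mkIso (fun x => Over.isoMk (Iso.refl _) (by
      change 𝟙 _ ≫ x.hom ≫ s = x.hom ≫ s
      simp))
    (fun {x y} φ => by
      apply Over.OverMorphism.ext
      change φ.left ≫ 𝟙 _ = 𝟙 _ ≫ φ.left
      simp)
    (fun x => vert_of_map_eq rfl rfl)

/-- Every functor between slices is 2-isomorphic to a composition functor; if it comes from a map of sheaves the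
underlying morphism is the expected one. -/
theorem exists_overMap_of_sp {W T : Over S} {F : AlgSp.Sp S} (p : (AlgSp.yon S).obj W ⟶ F)
    (Φ : AlgSt.ofSp F ⥤ᵇ FibCat.overCat T) :
    ∃ s : W ⟶ T, (AlgSp.yon S).map s = p ≫ AlgSt.spMapOfOver Φ ∧
      Nonempty (BasedFunctor.comp (AlgSt.ofOverCat W) (BasedFunctor.comp (AlgSt.ofSpMap p) Φ) ≅ AlgSt.overMap s) := by
  obtain ⟨s, hs⟩ := (AlgSp.yon S).map_surjective (p ≫ AlgSt.spMapOfOver Φ)
  obtain ⟨i⟩ := exists_iso_spMapOfOver (BasedFunctor.comp (AlgSt.ofSpMap p) Φ)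
  rw [spMapOfOver_comp_ofSpMap, ← hs] at i
  exact ⟨s, hs, ⟨K735.Fib.whiskerLeftIso (AlgSt.ofOverCat W) i ≪≫ overMapSp s⟩⟩

variable {𝒳 : BasedCategory.{v₂, u₂} (Over S)} {𝒴 : BasedCategory.{v₃, u₃} (Over S)}

/-- An etale surjective scheme chart of the 2-fibre product `T ×_𝒴 V`, with property `P` over `T` when
`V ⟶ 𝒴` has `LocP P`. -/
theorem exists_chart {P : MorphismProperty Scheme.{u}} {V T : Over S} (a : FibCat.overCat T ⥤ᵇ 𝒴)
    (y : 𝒳 ⥤ᵇ 𝒴) (hy : AlgSt.RepByAlgSpWith (AlgSp.LocP P) y) (q : FibCat.fp a y ⥤ᵇ FibCat.overCat V) :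
    ∃ (W : Over S) (s : W ⟶ T) (r : W ⟶ V) (E : FibCat.overCat W ⥤ᵇ FibCat.fp a y),
      Nonempty (BasedFunctor.comp E (FibCat.fpFst a y) ≅ AlgSt.overMap s) ∧
      Nonempty (BasedFunctor.comp E q ≅ AlgSt.overMap r) ∧
      P s.left ∧ Function.Surjective (Points.map E) := by
  obtain ⟨F, e, he, hP⟩ := hy T a
  obtain ⟨W, p, hp1, hp2⟩ := F.property.atlas
  obtain ⟨s, hs, ⟨i⟩⟩ := exists_overMap_of_sp p (BasedFunctor.comp e (FibCat.fpFst a y))
  obtain ⟨r, -, ⟨j⟩⟩ := exists_overMap_of_sp p (BasedFunctor.comp e q)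
  refine ⟨W, s, r, BasedFunctor.comp (AlgSt.ofOverCat W) (BasedFunctor.comp (AlgSt.ofSpMap p) e), ⟨i⟩, ⟨j⟩, ?_, ?_⟩
  · refine hP p (𝟙 _) s hp1 (AlgSp.repWith_id _ T) ?_
    rw [Category.comp_id]
    exact hs.symm
  · have h1 := (map_bijective_of_isEquivOver (isEquivOver_ofOverCat W)).surjective
    have h2 := surjective_map_ofSpMap p hp2
    have h3 := (map_bijective_of_isEquivOver he).surjective
    intro w
    obtain ⟨w1, rfl⟩ := h3 w
    obtain ⟨w2, rfl⟩ := h2 w1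
    obtain ⟨w3, rfl⟩ := h1 w2
    exact ⟨w3, by rw [map_comp, map_comp]⟩

/-- Chart lemma: if `f : 𝒳 ⟶ 𝒴` has `P` read on a smooth chart square, then over every scheme `T` with a
morphism `a` to `𝒴` there is a scheme `W` with a `P`-morphism to `T` and a lift to `𝒳`, whose image in `T` contains
all points of `T` mapping into the image of `|f|`. -/
theorem exists_lift_of_locQ {P : MorphismProperty Scheme.{u}} [P.IsStableUnderBaseChange]
    [P.IsStableUnderComposition] (hsm : ∀ ⦃X Y : Scheme.{u}⦄ (f : X ⟶ Y), Smooth f → P f) (h𝒳 : FibCat.IsFibGrpd 𝒳.p) (h𝒴 : FibCat.IsFibGrpd 𝒴.p)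
    {f : 𝒳 ⥤ᵇ 𝒴} (hf : AlgSt.LocQ (AlgSp.LocP P) f) {T : Over S} (a : FibCat.overCat T ⥤ᵇ 𝒴) :
    ∃ (W : Over S) (h : W ⟶ T) (w : FibCat.overCat W ⥤ᵇ 𝒳),
      Nonempty (BasedFunctor.comp w f ≅ BasedFunctor.comp (AlgSt.overMap h) a) ∧ P h.left ∧
      ∀ t : ↥T.left, Points.ofChart a t ∈ Set.range (Points.map f) → t ∈ Set.range h.left := by
  obtain ⟨U, V, x, y, h, α, -, hxs, hy, hP⟩ := hf
  have hP' : P h.left := AlgSp.locP_yon_map hP
  obtain ⟨W, s, r, E, ⟨i⟩, ⟨j⟩, hs, hE⟩ := exists_chart a y hy (FibCat.fpSnd a y)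
  have hW : IsPullback (pullback.fst r h).left (pullback.snd r h).left r.left h.left :=
    (IsPullback.of_hasPullback r h).map (Over.forget S)
  have hsq : pullback.fst r h ≫ r = pullback.snd r h ≫ h := pullback.condition
  refine ⟨pullback r h, pullback.fst r h ≫ s, BasedFunctor.comp (AlgSt.overMap (pullback.snd r h)) x, ⟨?_⟩, ?_, ?_⟩
  · have e1 : BasedFunctor.comp (BasedFunctor.comp (AlgSt.overMap (pullback.snd r h)) x) f ≅
        BasedFunctor.comp (BasedFunctor.comp (AlgSt.overMap (pullback.snd r h)) (AlgSt.overMap h)) y :=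
      K735.Fib.whiskerLeftIso (AlgSt.overMap (pullback.snd r h)) α
    have e2 : BasedFunctor.comp (AlgSt.overMap (pullback.snd r h)) (AlgSt.overMap h) ≅
        BasedFunctor.comp (AlgSt.overMap (pullback.fst r h)) (AlgSt.overMap r) :=
      overMapComp _ _ ≪≫ eqToIso (by rw [hsq]) ≪≫ (overMapComp _ _).symm
    have e3 : BasedFunctor.comp (AlgSt.overMap r) y ≅ BasedFunctor.comp (AlgSt.overMap s) a :=
      K735.Fib.whiskerRightIso j.symm y ≪≫
        (K735.Fib.whiskerLeftIso E (FibCat.fpIso a y)).symm ≪≫ K735.Fib.whiskerRightIso i a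
    exact e1 ≪≫ K735.Fib.whiskerRightIso e2 y ≪≫
      (K735.Fib.whiskerLeftIso (AlgSt.overMap (pullback.fst r h)) e3 :
        BasedFunctor.comp (BasedFunctor.comp (AlgSt.overMap (pullback.fst r h)) (AlgSt.overMap r)) y ≅
        BasedFunctor.comp (BasedFunctor.comp (AlgSt.overMap (pullback.fst r h)) (AlgSt.overMap s)) a) ≪≫
      K735.Fib.whiskerRightIso (overMapComp _ _) a
  · rw [Over.comp_left]
    exact P.comp_mem _ _ (P.of_isPullback hW.flip hP') (hsm _ hs)
  · rintro t ⟨q, hq⟩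
    obtain ⟨u', rfl⟩ := surjective_of_rep h𝒳 x hxs q
    obtain ⟨u, rfl⟩ : ∃ u, pt u = u' := ⟨toPt u', pt_toPt u'⟩
    have h1 : Points.map y (pt (h.left u)) = Points.map a (pt t) := by
      rw [← ofChart_eq a, ← hq, ← map_overMap_pt, ← map_comp, ← map_comp]
      exact (map_congr α (pt u)).symm
    obtain ⟨w, hw1, hw2⟩ := exists_fp (isFibGrpd_overCat V) (isFibGrpd_overCat T) h𝒴 a y (pt t) (pt (h.left u)) h1.symm
    obtain ⟨w', rfl⟩ := hE w
    obtain ⟨w', rfl⟩ : ∃ u, pt u = w' := ⟨toPt w', pt_toPt w'⟩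
    rw [← map_comp, map_congr i, map_overMap_pt] at hw1
    rw [← map_comp, map_congr j, map_overMap_pt] at hw2
    have hw1 := pt_injective hw1
    have hw2 := pt_injective hw2
    obtain ⟨z, hz1, hz2⟩ := Scheme.Pullback.exists_preimage_pullback w' u hw2
    have e := hW.isoPullback
    refine ⟨hW.isoPullback.inv z, ?_⟩
    have h3 : (hW.isoPullback.inv ≫ (pullback.fst r h).left) z = w' := by
      rw [hW.isoPullback_inv_fst]; exact hz1
    rw [Over.comp_left]
    change (hW.isoPullback.inv ≫ (pullback.fst r h).left ≫ s.left) z = t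
    rw [← Category.assoc, Scheme.Hom.comp_apply, h3]
    exact hw1

end K743.Chart
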