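import Groth.Agent.AlgSt.K743.Comp

/-!
# Charts with two properties; lifting objects along a jointly surjective flat finitely presented family
-/

set_option autoImplicit false
set_option backward.isDefEq.respectTransparency false
set_option backward.isDefEq.respectTransparency.types false

universe v₄ u₄ v₃ u₃ v₂ u₂ v u

open CategoryTheory CategoryTheory.Limits AlgebraicGeometry Opposite

namespace K743.FlatCover

open AlgSt K735.Fib K735.Fp K735.Rep K735.Pts K735.PtsSp K735.SpFp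

variable {S : Scheme.{u}} {𝒳 : BasedCategory.{v₂, u₂} (Over S)} {𝒴 : BasedCategory.{v₃, u₃} (Over S)}

/-- A morphism with `LocQ (LocP P)` and `LocQ (LocP Q)` has a smooth atlas of its source on which both properties hold
over the target. -/
theorem exists_atlas₂ {P Q : MorphismProperty Scheme.{u}} (hP : K597.EtLoc P) (hQ : K597.EtLoc Q)
    [P.IsStableUnderBaseChange] [P.IsStableUnderComposition]
    [Q.IsStableUnderBaseChange] [Q.IsStableUnderComposition]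
    (hPs : ∀ ⦃X Y : Scheme.{u}⦄ (f : X ⟶ Y), Smooth f → P f) (hQs : ∀ ⦃X Y : Scheme.{u}⦄ (f : X ⟶ Y), Smooth f → Q f)
    (h𝒳 : FibCat.IsFibGrpd 𝒳.p) {f : 𝒳 ⥤ᵇ 𝒴}
    (hf₁ : AlgSt.LocQ (AlgSp.LocP P) f) (hf₂ : AlgSt.LocQ (AlgSp.LocP Q) f) :
    ∃ (W : Over S) (w : FibCat.overCat W ⥤ᵇ 𝒳), Function.Surjective (Points.map w) ∧
      AlgSt.RepByAlgSpWith (AlgSp.LocP P) (BasedFunctor.comp w f) ∧
      AlgSt.RepByAlgSpWith (AlgSp.LocP Q) (BasedFunctor.comp w f) := by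
  obtain ⟨U₁, V₁, x₁, y₁, h₁, α₁, hx₁, hs₁, hy₁, hh₁⟩ := hf₁
  obtain ⟨U₂, V₂, x₂, y₂, h₂, α₂, hx₂, hs₂, hy₂, hh₂⟩ := hf₂
  obtain ⟨W, s, r, E, ⟨i⟩, ⟨j⟩, hs, hr, hE⟩ := K743.Comp.exists_chart₂ x₁ x₂ hx₂ hx₁
  have hP1 : P (s ≫ h₁).left := by
    rw [Over.comp_left]
    exact P.comp_mem _ _ (hPs _ hs) (AlgSp.locP_yon_map hh₁)
  have hQ1 : Q (r ≫ h₂).left := by
    rw [Over.comp_left]
    exact Q.comp_mem _ _ (hQs _ hr) (AlgSp.locP_yon_map hh₂)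
  have hy₁' := K735.Rep.AlgSt_RepByAlgSpWith_mono (P := AlgSp.LocP @Smooth) (Q := AlgSp.LocP P)
    (fun _ _ _ h => K597.locP_mono (fun _ _ f hf => hPs f hf) h) hy₁
  have hy₂' := K735.Rep.AlgSt_RepByAlgSpWith_mono (P := AlgSp.LocP @Smooth) (Q := AlgSp.LocP Q)
    (fun _ _ _ h => K597.locP_mono (fun _ _ f hf => hQs f hf) h) hy₂
  let w : FibCat.overCat W ⥤ᵇ 𝒳 := BasedFunctor.comp (AlgSt.overMap s) x₁
  have e1 : BasedFunctor.comp w f ≅ BasedFunctor.comp (AlgSt.overMap (s ≫ h₁)) y₁ :=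
    (K735.Fib.whiskerLeftIso (AlgSt.overMap s) α₁ :
      BasedFunctor.comp (AlgSt.overMap s) (BasedFunctor.comp x₁ f) ≅
      BasedFunctor.comp (AlgSt.overMap s) (BasedFunctor.comp (AlgSt.overMap h₁) y₁)) ≪≫
    (K735.Fib.whiskerRightIso (K743.Chart.overMapComp s h₁) y₁ :
      BasedFunctor.comp (BasedFunctor.comp (AlgSt.overMap s) (AlgSt.overMap h₁)) y₁ ≅ _)
  have e2 : w ≅ BasedFunctor.comp (AlgSt.overMap r) x₂ :=
    K735.Fib.whiskerRightIso i.symm x₁ ≪≫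
      (K735.Fib.whiskerLeftIso E (FibCat.fpIso x₁ x₂) :
        BasedFunctor.comp E (BasedFunctor.comp (FibCat.fpFst x₁ x₂) x₁) ≅
        BasedFunctor.comp E (BasedFunctor.comp (FibCat.fpSnd x₁ x₂) x₂)) ≪≫
      K735.Fib.whiskerRightIso j x₂
  have e3 : BasedFunctor.comp w f ≅ BasedFunctor.comp (AlgSt.overMap (r ≫ h₂)) y₂ :=
    K735.Fib.whiskerRightIso e2 f ≪≫
    (K735.Fib.whiskerLeftIso (AlgSt.overMap r) α₂ :
      BasedFunctor.comp (AlgSt.overMap r) (BasedFunctor.comp x₂ f) ≅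
      BasedFunctor.comp (AlgSt.overMap r) (BasedFunctor.comp (AlgSt.overMap h₂) y₂)) ≪≫
    (K735.Fib.whiskerRightIso (K743.Chart.overMapComp r h₂) y₂ :
      BasedFunctor.comp (BasedFunctor.comp (AlgSt.overMap r) (AlgSt.overMap h₂)) y₂ ≅ _)
  refine ⟨W, w, ?_, ?_, ?_⟩
  · intro q
    obtain ⟨u₁, rfl⟩ := K743.Pt.surjective_of_rep h𝒳 x₁ hs₁ q
    obtain ⟨u₂, hu₂⟩ := K743.Pt.surjective_of_rep h𝒳 x₂ hs₂ (Points.map x₁ u₁)
    obtain ⟨z, hz1, hz2⟩ := exists_fp (isFibGrpd_overCat U₂) (isFibGrpd_overCat U₁) h𝒳 x₁ x₂ u₁ u₂ hu₂.symm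
    obtain ⟨z, rfl⟩ := hE z
    refine ⟨z, ?_⟩
    rw [← hz1, map_comp, ← map_comp E, map_congr i]
  · exact repByAlgSpWith_of_iso _ e1.symm (K743.Comp.locP_overMap_comp hP _ hP1 y₁ hy₁')
  · exact repByAlgSpWith_of_iso _ e3.symm (K743.Comp.locP_overMap_comp hQ _ hQ1 y₂ hy₂')

theorem repByAlgSpWith_locP_inf {P Q : MorphismProperty Scheme.{u}} {f : 𝒳 ⥤ᵇ 𝒴}
    (h : AlgSt.RepByAlgSpWith (AlgSp.LocP P) f) (h' : AlgSt.RepByAlgSpWith (AlgSp.LocP Q) f) :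
    AlgSt.RepByAlgSpWith (AlgSp.LocP (P ⊓ Q)) f := by
  have := K735.Top.locP_respectsIso (S := S) Q
  exact K735.Rep.AlgSt_RepByAlgSpWith_mono (fun _ _ _ h => K597.locP_inf_iff.2 h) (K735.Top.repByAlgSpWith_inf h h')

/-- Lifting objects along a jointly surjective family of flat, locally finitely presented morphisms. -/
theorem exists_fppf_lift (h𝒳 : FibCat.IsFibGrpd 𝒳.p)
    {J : Type u} (𝒳' : J → BasedCategory.{v₃, u₃} (Over S)) (h𝒳' : ∀ j, FibCat.IsFibGrpd (𝒳' j).p)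
    (f : ∀ j, 𝒳' j ⥤ᵇ 𝒳)
    (hf₁ : ∀ j, AlgSt.LocQ (AlgSp.LocP @Flat) (f j)) (hf₂ : ∀ j, AlgSt.LocQ (AlgSp.LocP @LocallyOfFinitePresentation) (f j))
    (hf₃ : ∀ p : AlgSt.Points 𝒳, ∃ j, p ∈ Set.range (AlgSt.Points.map (f j)))
    (U : Over S) (x : FibCat.overCat U ⥤ᵇ 𝒳) :
    ∃ (V : J → Over S) (g : ∀ i, V i ⟶ U),
      (Presieve.ofArrows (fun i ↦ (V i).left) fun i ↦ (g i).left) ∈ Scheme.fppfPrecoverage U.left ∧
      ∀ i, ∃ x' : FibCat.overCat (V i) ⥤ᵇ 𝒳' i,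
        Nonempty (BasedFunctor.comp x' (f i) ≅ BasedFunctor.comp (AlgSt.overMap (g i)) x) := by
  have key : ∀ j, ∃ (V : Over S) (g : V ⟶ U) (x' : FibCat.overCat V ⥤ᵇ 𝒳' j),
      Nonempty (BasedFunctor.comp x' (f j) ≅ BasedFunctor.comp (AlgSt.overMap g) x) ∧
      (@Flat ⊓ @LocallyOfFinitePresentation : MorphismProperty Scheme.{u}) g.left ∧
      ∀ t : ↥U.left, Points.ofChart x t ∈ Set.range (Points.map (f j)) → t ∈ Set.range g.left := by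
    intro j
    obtain ⟨W, w, hw, h1, h2⟩ := exists_atlas₂ K597.etLoc_flat K597.etLoc_lfp
      (fun _ _ f _ => inferInstance) (fun _ _ f _ => inferInstance) (h𝒳' j) (hf₁ j) (hf₂ j)
    have h3 := repByAlgSpWith_locP_inf h1 h2
    obtain ⟨V, g, r, E, ⟨i⟩, ⟨k⟩, hg, hE⟩ := K743.Chart.exists_chart x (BasedFunctor.comp w (f j)) h3
      (FibCat.fpSnd x (BasedFunctor.comp w (f j)))
    refine ⟨V, g, BasedFunctor.comp (AlgSt.overMap r) w, ⟨?_⟩, hg, ?_⟩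
    · exact (K735.Fib.whiskerRightIso k.symm (BasedFunctor.comp w (f j)) :
        BasedFunctor.comp (AlgSt.overMap r) (BasedFunctor.comp w (f j)) ≅ _) ≪≫
        (K735.Fib.whiskerLeftIso E (FibCat.fpIso x (BasedFunctor.comp w (f j)))).symm ≪≫
        K735.Fib.whiskerRightIso i x
    · rintro t ⟨q, hq⟩
      obtain ⟨q, rfl⟩ := hw q
      obtain ⟨z, hz1, -⟩ := exists_fp (isFibGrpd_overCat W) (isFibGrpd_overCat U) h𝒳 x (BasedFunctor.comp w (f j))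
        (K743.Pt.pt t) q (by rw [map_comp, hq]; rfl)
      obtain ⟨z, rfl⟩ := hE z
      obtain ⟨z, rfl⟩ : ∃ u', K743.Pt.pt u' = z := ⟨K743.Pt.toPt z, K743.Pt.pt_toPt z⟩
      rw [← map_comp, map_congr i, K743.Pt.map_overMap_pt] at hz1
      exact ⟨z, K743.Pt.pt_injective hz1⟩
  choose V g x' hx' hg hs using key
  refine ⟨V, g, ?_, fun j => ⟨x' j, hx' j⟩⟩
  rw [Scheme.fppfPrecoverage, Scheme.ofArrows_mem_precoverage_iff]
  refine ⟨fun t => ?_, hg⟩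
  obtain ⟨j, hj⟩ := hf₃ (Points.ofChart x t)
  obtain ⟨v, hv⟩ := hs j t hj
  exact ⟨j, v, hv⟩

end K743.FlatCover
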