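import Groth.Agent.AlgSt.K742.RepComp
import Groth.Agent.AlgSt.K735.SpFp
import Groth.Agent.AlgSt.K735.Top
import Groth.Agent.AlgSt.K743.Chart
import Groth.Agent.AlgSp.K597.EtLoc
import Groth.Agent.AlgSp.K597.LocP
import Groth.Agent.AlgSp.K594.Fib

/-!
# Composition of a morphism of schemes with a chart; two-sided charts of 2-fibre products
-/

set_option autoImplicit false
set_option backward.isDefEq.respectTransparency false
set_option backward.isDefEq.respectTransparency.types false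

universe v₄ u₄ v₃ u₃ v₂ u₂ v u

open CategoryTheory CategoryTheory.Limits AlgebraicGeometry Opposite

namespace K743.Comp

open AlgSt K735.Fib K735.Fp K735.Rep K735.Pts K735.PtsSp K735.SpFp

variable {S : Scheme.{u}} {𝒳 : BasedCategory.{v₂, u₂} (Over S)} {𝒴 : BasedCategory.{v₃, u₃} (Over S)}

theorem locP_yon_map_of {P : MorphismProperty Scheme.{u}} (hP : K597.EtLoc P) {U V : Over S} (h : U ⟶ V)
    (hh : P h.left) : AlgSp.LocP P ((AlgSp.yon S).map h) :=
  K597.locP_of_chart hP ((AlgSp.yon S).map h) (𝟙 _) (𝟙 _) h (AlgSp.repWith_id _ U) (AlgSp.repWith_id _ U)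
    (AlgSp.repWith_id _ V) (by rw [Category.id_comp, Category.comp_id]) hh

/-- The 2-fibre product of a composite `(Sch/W) ⟶ (Sch/V) ⟶ 𝒳`, represented. -/
theorem repByAlgSpWith_overMap_comp {P Q R : MorphismProperty (AlgSp.Sp S)}
    (hbc : ∀ ⦃F G : AlgSp.Sp S⦄ ⦃W V : Over S⦄ (r : F ⟶ (AlgSp.yon S).obj V) (h : W ⟶ V) (fst : G ⟶ F)
      (snd : G ⟶ (AlgSp.yon S).obj W), AlgSp.IsAlgSpace F → IsPullback fst snd r ((AlgSp.yon S).map h) →
      P ((AlgSp.yon S).map h) → Q fst)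
    (hcomp : ∀ ⦃F G : AlgSp.Sp S⦄ ⦃T : Over S⦄ (a : G ⟶ F) (b : F ⟶ (AlgSp.yon S).obj T), AlgSp.IsAlgSpace F →
      AlgSp.IsAlgSpace G → Q a → R b → R (a ≫ b))
    {W V : Over S} (h : W ⟶ V) (hh : P ((AlgSp.yon S).map h))
    (y : FibCat.overCat V ⥤ᵇ 𝒳) (hy : AlgSt.RepByAlgSpWith R y) :
    AlgSt.RepByAlgSpWith R (BasedFunctor.comp (AlgSt.overMap h) y) := by
  intro T a
  obtain ⟨F, e, he, hq⟩ := hy T a
  obtain ⟨i⟩ := exists_iso_spMapOfOver (BasedFunctor.comp e (FibCat.fpSnd a y))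
  set r := AlgSt.spMapOfOver (BasedFunctor.comp e (FibCat.fpSnd a y)) with hr
  have sq := IsPullback.of_hasPullback r ((AlgSp.yon S).map h)
  have hG : AlgSp.IsAlgSpace (pullback r ((AlgSp.yon S).map h)) :=
    K594.Fib.isAlgSpace_of_isPullback (AlgSp.IsAlgSpace.yon_obj V).diag F.property (AlgSp.IsAlgSpace.yon_obj W) sq
  let k : FibCat.fp (AlgSt.ofSpMap r) (AlgSt.ofSpMap ((AlgSp.yon S).map h)) ⥤ᵇ
      FibCat.fp (FibCat.fpSnd a y) (AlgSt.overMap h) :=
    fpMap _ _ _ _ e (AlgSt.toOverCat W) (AlgSt.toOverCat V) i (Iso.refl _)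
  have hk : FibCat.IsEquivOver k :=
    isEquivOver_fpMap' _ _ _ _ _ _ _ _ _ he (isEquivOver_toOverCat W) (isEquivOver_toOverCat V)
  refine ⟨⟨_, hG⟩, BasedFunctor.comp (theta sq.w) (BasedFunctor.comp k (K742.RepComp.pasteComp a y (AlgSt.overMap h))),
    IsEquivOver.comp (isEquivOver_theta sq) (IsEquivOver.comp hk (K742.RepComp.isEquivOver_pasteComp _ _ _)), ?_⟩
  have key : AlgSt.spMapOfOver (BasedFunctor.comp (BasedFunctor.comp (theta sq.w)
      (BasedFunctor.comp k (K742.RepComp.pasteComp a y (AlgSt.overMap h))))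
        (FibCat.fpFst a (BasedFunctor.comp (AlgSt.overMap h) y))) =
      pullback.fst r ((AlgSp.yon S).map h) ≫ AlgSt.spMapOfOver (BasedFunctor.comp e (FibCat.fpFst a y)) :=
    spMapOfOver_comp_ofSpMap (pullback.fst r ((AlgSp.yon S).map h)) (BasedFunctor.comp e (FibCat.fpFst a y))
  rw [key]
  exact hcomp _ _ F.property hG (hbc r h _ _ F.property sq hh) hq

/-- Composition of a `P`-morphism of schemes with a chart having `LocP P`. -/
theorem locP_overMap_comp {P : MorphismProperty Scheme.{u}} (hP : K597.EtLoc P) [P.IsStableUnderBaseChange]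
    [P.IsStableUnderComposition] {W V : Over S} (h : W ⟶ V) (hh : P h.left)
    (y : FibCat.overCat V ⥤ᵇ 𝒳) (hy : AlgSt.RepByAlgSpWith (AlgSp.LocP P) y) :
    AlgSt.RepByAlgSpWith (AlgSp.LocP P) (BasedFunctor.comp (AlgSt.overMap h) y) := by
  refine repByAlgSpWith_overMap_comp (P := AlgSp.LocP P) (Q := AlgSp.LocP P) ?_ ?_ h (locP_yon_map_of hP h hh) y hy
  · intro F G W V r h fst snd hF sq hh
    exact K597.locP_bc hP sq.flip (AlgSp.IsAlgSpace.yon_obj W).hasAtlas (AlgSp.IsAlgSpace.yon_obj V).hasAtlas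
      hF.hasAtlas hh
  · intro F G T a b hF hG ha hb
    exact K597.locP_comp hP hG.hasAtlas hF.hasAtlas (AlgSp.IsAlgSpace.yon_obj T).hasAtlas ha hb

/-- The same for surjectivity. -/
theorem surjective_overMap_comp {W V : Over S} (h : W ⟶ V) (hh : Surjective h.left)
    (y : FibCat.overCat V ⥤ᵇ 𝒳) (hy : AlgSt.RepByAlgSpWith AlgSp.IsSurjectiveMor y) :
    AlgSt.RepByAlgSpWith AlgSp.IsSurjectiveMor (BasedFunctor.comp (AlgSt.overMap h) y) := by
  refine repByAlgSpWith_overMap_comp (P := AlgSp.RepWith @Surjective) (Q := AlgSp.IsSurjectiveMor) ?_ ?_ h ?_ y hy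
  · intro F G W V r h fst snd hF sq hh
    exact K609.Points.surjective_map_of_repWith_surjective
      ((AlgSp.RepWith @Surjective).of_isPullback sq.flip hh)
  · intro F G T a b hF hG ha hb x
    obtain ⟨x, rfl⟩ := hb x
    obtain ⟨x, rfl⟩ := ha x
    exact ⟨x, AlgSp.Points.map_comp _ _ _⟩
  · exact (AlgSp.repWith_yon_map_iff _ _).2 hh

/-- Charts of `T ×_𝒴 V` with properties over both sides. -/
theorem exists_chart₂ {P Q : MorphismProperty Scheme.{u}} {V T : Over S} (a : FibCat.overCat T ⥤ᵇ 𝒴)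
    (y : FibCat.overCat V ⥤ᵇ 𝒴) (hy : AlgSt.RepByAlgSpWith (AlgSp.LocP P) y)
    (ha : AlgSt.RepByAlgSpWith (AlgSp.LocP Q) a) :
    ∃ (W : Over S) (s : W ⟶ T) (r : W ⟶ V) (E : FibCat.overCat W ⥤ᵇ FibCat.fp a y),
      Nonempty (BasedFunctor.comp E (FibCat.fpFst a y) ≅ AlgSt.overMap s) ∧
      Nonempty (BasedFunctor.comp E (FibCat.fpSnd a y) ≅ AlgSt.overMap r) ∧
      P s.left ∧ Q r.left ∧ Function.Surjective (Points.map E) := by
  obtain ⟨F, e, he, hP⟩ := hy T a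
  have := K735.Top.locP_respectsIso (S := S) Q
  have hQ := (RepOver.of_rep (ha V y) (BasedFunctor.comp e (fpSwap a y))
    (IsEquivOver.comp he (isEquivOver_fpSwap a y))).2
  obtain ⟨W, p, hp1, hp2⟩ := F.property.atlas
  obtain ⟨s, hs, ⟨i⟩⟩ := K743.Chart.exists_overMap_of_sp p (BasedFunctor.comp e (FibCat.fpFst a y))
  obtain ⟨r, hr, ⟨j⟩⟩ := K743.Chart.exists_overMap_of_sp p (BasedFunctor.comp e (FibCat.fpSnd a y))
  refine ⟨W, s, r, BasedFunctor.comp (AlgSt.ofOverCat W) (BasedFunctor.comp (AlgSt.ofSpMap p) e), ⟨i⟩, ⟨j⟩, ?_, ?_, ?_⟩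
  · refine hP p (𝟙 _) s hp1 (AlgSp.repWith_id _ T) ?_
    rw [Category.comp_id]
    exact hs.symm
  · refine hQ p (𝟙 _) r hp1 (AlgSp.repWith_id _ V) ?_
    rw [Category.comp_id]
    exact hr.symm
  · have h1 := (map_bijective_of_isEquivOver (isEquivOver_ofOverCat W)).surjective
    have h2 := K743.Pt.surjective_map_ofSpMap p hp2
    have h3 := (map_bijective_of_isEquivOver he).surjective
    intro w
    obtain ⟨w1, rfl⟩ := h3 w
    obtain ⟨w2, rfl⟩ := h2 w1
    obtain ⟨w3, rfl⟩ := h1 w2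
    exact ⟨w3, by rw [map_comp, map_comp]⟩

end K743.Comp
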