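import Groth.Prelude.Def_AlgSt2

/-!
# Base change of `RepByAlgSpWith` along 2-cartesian squares (elementwise)
-/

set_option autoImplicit false
set_option backward.isDefEq.respectTransparency false
set_option backward.isDefEq.respectTransparency.types false

universe v₆ u₆ v₅ u₅ v₄ u₄ v₃ u₃ v₂ u₂ v u

open CategoryTheory CategoryTheory.Limits AlgebraicGeometry Opposite

namespace K743.BC

section Equiv

variable {C : Type u} [Category.{v} C] {𝒳 : BasedCategory.{v₂, u₂} C} {𝒴 : BasedCategory.{v₃, u₃} C}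
  {𝒵 : BasedCategory.{v₄, u₄} C}

/-- Every object of the target is isomorphic, over an identity, to one in the image. -/
def SurjOver (F : 𝒳 ⥤ᵇ 𝒴) : Prop :=
  ∀ η : 𝒴.obj, ∃ (ξ : 𝒳.obj) (e : F.obj ξ ≅ η), 𝒴.p.IsHomLift (𝟙 (𝒴.p.obj η)) e.hom

/-- A fully faithful functor over `C` that is essentially surjective over identities is an equivalence over `C`. -/
theorem isEquivOver_of_ff (F : 𝒳 ⥤ᵇ 𝒴) (hfull : F.toFunctor.Full) (hfaith : F.toFunctor.Faithful)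
    (hs : SurjOver F) : FibCat.IsEquivOver F := by
  choose r e he using hs
  have hp : ∀ η, 𝒳.p.obj (r η) = 𝒴.p.obj η := fun η => by
    have := he η
    exact (F.w_obj (r η)).symm.trans (IsHomLift.domain_eq 𝒴.p (𝟙 (𝒴.p.obj η)) (e η).hom)
  have hmap : ∀ {η η' : 𝒴.obj} (f : η ⟶ η'),
      𝒳.p.IsHomLift (𝒴.p.map f) (F.toFunctor.preimage ((e η).hom ≫ f ≫ (e η').inv)) := by
    intro η η' f
    have h1 := he η
    have h2 := he η'
    rw [← BasedFunctor.isHomLift_iff F]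
    rw [show F.map (F.toFunctor.preimage ((e η).hom ≫ f ≫ (e η').inv)) = (e η).hom ≫ f ≫ (e η').inv from
      F.toFunctor.map_preimage _]
    have h3 : 𝒴.p.IsHomLift (𝟙 (𝒴.p.obj η')) (e η').inv := IsHomLift.lift_id_inv _ _ _
    infer_instance
  let G : 𝒴 ⥤ᵇ 𝒳 :=
    { obj := r
      map := fun {η η'} f => F.toFunctor.preimage ((e η).hom ≫ f ≫ (e η').inv)
      map_id := fun η => F.toFunctor.map_injective (by simp)
      map_comp := fun f g => F.toFunctor.map_injective (by simp)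
      w := CategoryTheory.Functor.ext hp (fun η η' f => by
        have := hmap f
        exact IsHomLift.fac' 𝒳.p (𝒴.p.map f) (F.toFunctor.preimage ((e η).hom ≫ f ≫ (e η').inv))) }
  refine ⟨G, ⟨BasedNatIso.mkNatIso (NatIso.ofComponents (fun ξ => F.toFunctor.preimageIso (e (F.obj ξ))) ?_) ?_⟩,
    ⟨BasedNatIso.mkNatIso (NatIso.ofComponents (fun η => e η) ?_) ?_⟩⟩
  · intro ξ ξ' f
    apply F.toFunctor.map_injective
    change F.map (F.toFunctor.preimage ((e (F.obj ξ)).hom ≫ F.map f ≫ (e (F.obj ξ')).inv) ≫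
      F.toFunctor.preimage (e (F.obj ξ')).hom) = F.map (F.toFunctor.preimage (e (F.obj ξ)).hom ≫ f)
    simp
  · intro ξ
    change 𝒳.p.IsHomLift (𝟙 (𝒳.p.obj ξ)) (F.toFunctor.preimage (e (F.obj ξ)).hom)
    rw [← BasedFunctor.isHomLift_iff F]
    rw [show F.map (F.toFunctor.preimage (e (F.obj ξ)).hom) = (e (F.obj ξ)).hom from F.toFunctor.map_preimage _]
    have := he (F.obj ξ)
    rwa [F.w_obj ξ] at this
  · intro η η' f
    change F.map (F.toFunctor.preimage ((e η).hom ≫ f ≫ (e η').inv)) ≫ (e η').hom = (e η).hom ≫ f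
    rw [show F.map (F.toFunctor.preimage ((e η).hom ≫ f ≫ (e η').inv)) = (e η).hom ≫ f ≫ (e η').inv from
      F.toFunctor.map_preimage _]
    simp
  · intro η
    exact he η

end Equiv

section Equiv2

variable {C : Type u} [Category.{v} C] {𝒳 : BasedCategory.{v₂, u₂} C} {𝒴 : BasedCategory.{v₃, u₃} C}
  {𝒵 : BasedCategory.{v₄, u₄} C}

/-- Left whiskering of a 2-isomorphism. -/
def whiskerLeftIso (F : 𝒳 ⥤ᵇ 𝒴) {G H : 𝒴 ⥤ᵇ 𝒵} (α : G ≅ H) :
    BasedFunctor.comp F G ≅ BasedFunctor.comp F H where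
  hom := BasedCategory.whiskerLeft F α.hom
  inv := BasedCategory.whiskerLeft F α.inv
  hom_inv_id := by
    apply BasedNatTrans.homCategory.ext
    have := congrArg (fun x => x.toNatTrans) α.hom_inv_id
    ext a
    exact congrArg (fun x => x.app (F.obj a)) this
  inv_hom_id := by
    apply BasedNatTrans.homCategory.ext
    have := congrArg (fun x => x.toNatTrans) α.inv_hom_id
    ext a
    exact congrArg (fun x => x.app (F.obj a)) this

/-- Right whiskering of a 2-isomorphism. -/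
def whiskerRightIso {F G : 𝒳 ⥤ᵇ 𝒴} (α : F ≅ G) (H : 𝒴 ⥤ᵇ 𝒵) :
    BasedFunctor.comp F H ≅ BasedFunctor.comp G H where
  hom := BasedCategory.whiskerRight α.hom H
  inv := BasedCategory.whiskerRight α.inv H
  hom_inv_id := by
    apply BasedNatTrans.homCategory.ext
    have h1 := congrArg (fun x => x.toNatTrans) α.hom_inv_id
    ext a
    have h2 := congrArg (fun x => H.map (x.app a)) h1
    exact ((H.toFunctor.map_comp _ _).symm.trans h2).trans (H.toFunctor.map_id _)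
  inv_hom_id := by
    apply BasedNatTrans.homCategory.ext
    have h1 := congrArg (fun x => x.toNatTrans) α.inv_hom_id
    ext a
    have h2 := congrArg (fun x => H.map (x.app a)) h1
    exact ((H.toFunctor.map_comp _ _).symm.trans h2).trans (H.toFunctor.map_id _)

theorem isEquivOver_comp {F : 𝒳 ⥤ᵇ 𝒴} {G : 𝒴 ⥤ᵇ 𝒵} (hF : FibCat.IsEquivOver F) (hG : FibCat.IsEquivOver G) :
    FibCat.IsEquivOver (BasedFunctor.comp F G) := by
  obtain ⟨F', ⟨a⟩, ⟨b⟩⟩ := hF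
  obtain ⟨G', ⟨c⟩, ⟨d⟩⟩ := hG
  refine ⟨BasedFunctor.comp G' F', ⟨?_⟩, ⟨?_⟩⟩
  · exact (whiskerLeftIso F (whiskerRightIso c F')).trans a
  · exact (whiskerLeftIso G' (whiskerRightIso b G)).trans d

theorem isEquivOver_inv {F : 𝒳 ⥤ᵇ 𝒴} {G : 𝒴 ⥤ᵇ 𝒳} (a : BasedFunctor.comp F G ≅ BasedFunctor.id 𝒳)
    (b : BasedFunctor.comp G F ≅ BasedFunctor.id 𝒴) : FibCat.IsEquivOver G := ⟨F, ⟨b⟩, ⟨a⟩⟩

end Equiv2

section Square

variable {C : Type u} [Category.{v} C] {𝒜 : BasedCategory.{v₂, u₂} C} {ℬ : BasedCategory.{v₃, u₃} C}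
  {𝒞 : BasedCategory.{v₄, u₄} C} {𝒟 : BasedCategory.{v₅, u₅} C} {𝒰 : BasedCategory.{v₆, u₆} C}

/-- The comparison functor `fp y F ⟶ fp (y ⋙ b) G` of a 2-commutative square `e : F ⋙ b ≅ a ⋙ G`. -/
def cmp (F : 𝒜 ⥤ᵇ ℬ) (G : 𝒞 ⥤ᵇ 𝒟) (a : 𝒜 ⥤ᵇ 𝒞) (b : ℬ ⥤ᵇ 𝒟)
    (e : BasedFunctor.comp F b ≅ BasedFunctor.comp a G) (y : 𝒰 ⥤ᵇ ℬ) :
    FibCat.fp y F ⥤ᵇ FibCat.fp (BasedFunctor.comp y b) G :=
  FibCat.fpLift (FibCat.fpFst y F) (BasedFunctor.comp (FibCat.fpSnd y F) a)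
    (whiskerRightIso (FibCat.fpIso y F) b ≪≫ whiskerLeftIso (FibCat.fpSnd y F) e)

variable {F : 𝒜 ⥤ᵇ ℬ} {G : 𝒞 ⥤ᵇ 𝒟} {a : 𝒜 ⥤ᵇ 𝒞} {b : ℬ ⥤ᵇ 𝒟}
    {e : BasedFunctor.comp F b ≅ BasedFunctor.comp a G} {y : 𝒰 ⥤ᵇ ℬ}

theorem cmp_fst : BasedFunctor.comp (cmp F G a b e y) (FibCat.fpFst _ _) = FibCat.fpFst y F := rfl

/-- The square is 2-cartesian, in the elementary form: the functor to the 2-fibre product is fully faithful and
essentially surjective over identities. -/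
structure IsCart (F : 𝒜 ⥤ᵇ ℬ) (G : 𝒞 ⥤ᵇ 𝒟) (a : 𝒜 ⥤ᵇ 𝒞) (b : ℬ ⥤ᵇ 𝒟)
    (e : BasedFunctor.comp F b ≅ BasedFunctor.comp a G) : Prop where
  full : (FibCat.fpLift F a e).toFunctor.Full
  faithful : (FibCat.fpLift F a e).toFunctor.Faithful
  surj : SurjOver (FibCat.fpLift F a e)

theorem cmp_faithful (h : (FibCat.fpLift F a e).toFunctor.Faithful) : (cmp F G a b e y).toFunctor.Faithful where
  map_injective := by
    intro x x' f g hfg
    have h1 : f.hom.fst = g.hom.fst := congrArg (fun t => t.hom.fst) hfg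
    have h2 : a.map f.hom.snd = a.map g.hom.snd := congrArg (fun t => t.hom.snd) hfg
    have h3 : F.map f.hom.snd = F.map g.hom.snd := by
      have e1 := f.hom.w
      have e2 := g.hom.w
      rw [h1] at e1
      exact (cancel_epi x.obj.iso.hom).1 (e1.symm.trans e2)
    have h4 : f.hom.snd = g.hom.snd := by
      apply h.map_injective
      apply ObjectProperty.hom_ext
      exact CategoricalPullback.hom_ext h3 h2
    apply ObjectProperty.hom_ext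
    exact CategoricalPullback.hom_ext h1 h4

theorem cmp_full (h : (FibCat.fpLift F a e).toFunctor.Full) : (cmp F G a b e y).toFunctor.Full where
  map_surjective := by
    intro x x' f
    have w : b.map (y.map f.hom.fst) ≫ (b.map x'.obj.iso.hom ≫ e.hom.toNatTrans.app x'.obj.snd) =
        (b.map x.obj.iso.hom ≫ e.hom.toNatTrans.app x.obj.snd) ≫ G.map f.hom.snd := f.hom.w
    let δ : F.obj x.obj.snd ⟶ F.obj x'.obj.snd := x.obj.iso.inv ≫ y.map f.hom.fst ≫ x'.obj.iso.hom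
    have hδ : b.map δ ≫ e.hom.toNatTrans.app x'.obj.snd = e.hom.toNatTrans.app x.obj.snd ≫ G.map f.hom.snd := by
      rw [← cancel_epi (b.map x.obj.iso.hom), ← Category.assoc, ← Category.assoc, ← Functor.map_comp]
      simp only [δ, Iso.hom_inv_id_assoc, Functor.map_comp, Category.assoc]
      simpa only [Category.assoc] using w
    obtain ⟨β, hβ⟩ := h.map_surjective (X := x.obj.snd) (Y := x'.obj.snd)
      (ObjectProperty.homMk { fst := δ, snd := f.hom.snd, w := hδ })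
    have hβ1 : F.map β = δ := congrArg (fun t => t.hom.fst) hβ
    have hβ2 : a.map β = f.hom.snd := congrArg (fun t => t.hom.snd) hβ
    refine ⟨ObjectProperty.homMk { fst := f.hom.fst, snd := β, w := ?_ }, ?_⟩
    · rw [hβ1]
      simp only [δ, Iso.hom_inv_id_assoc]
    · apply ObjectProperty.hom_ext
      exact CategoricalPullback.hom_ext rfl hβ2

theorem cmp_surj (h : SurjOver (FibCat.fpLift F a e)) : SurjOver (cmp F G a b e y) := by
  intro η
  have hη : 𝒟.p.IsHomLift (𝟙 (𝒰.p.obj η.obj.fst)) η.obj.iso.hom := η.property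
  let ζ : (FibCat.fp b G).obj := ⟨{ fst := y.obj η.obj.fst, snd := η.obj.snd, iso := η.obj.iso }, by
    change 𝒟.p.IsHomLift (𝟙 (ℬ.p.obj (y.obj η.obj.fst))) η.obj.iso.hom
    rw [y.w_obj]
    exact hη⟩
  obtain ⟨ξ, θ, hθ⟩ := h ζ
  let θ1 : F.obj ξ ≅ y.obj η.obj.fst := (FibCat.fpFst b G).mapIso θ
  let θ2 : a.obj ξ ≅ η.obj.snd := (FibCat.fpSnd b G).mapIso θ
  have hp : (FibCat.fp b G).p.obj ζ = 𝒰.p.obj η.obj.fst := y.w_obj η.obj.fst
  rw [hp] at hθ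
  have hθ1 : ℬ.p.IsHomLift (𝟙 (𝒰.p.obj η.obj.fst)) θ1.hom :=
    BasedFunctor.preserves_isHomLift (FibCat.fpFst b G) _ θ.hom
  have hθ2 : 𝒞.p.IsHomLift (𝟙 (𝒰.p.obj η.obj.fst)) θ2.hom :=
    BasedFunctor.preserves_isHomLift (FibCat.fpSnd b G) _ θ.hom
  have hθ1' : ℬ.p.IsHomLift (𝟙 (𝒰.p.obj η.obj.fst)) θ1.inv := IsHomLift.lift_id_inv _ _ _
  let ξ' : (FibCat.fp y F).obj := ⟨{ fst := η.obj.fst, snd := ξ, iso := θ1.symm }, hθ1'⟩
  have w : b.map θ1.hom ≫ η.obj.iso.hom = e.hom.toNatTrans.app ξ ≫ G.map θ2.hom := θ.hom.hom.w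
  have w' : b.map (y.map (𝟙 η.obj.fst)) ≫ η.obj.iso.hom =
      (b.map θ1.inv ≫ e.hom.toNatTrans.app ξ) ≫ G.map θ2.hom := by
    rw [Category.assoc, ← w, ← Category.assoc, ← Functor.map_comp, Iso.inv_hom_id]
    simp
  refine ⟨ξ', ObjectProperty.isoMk _ (CategoricalPullback.mkIso (Iso.refl _) θ2 w'), ?_⟩
  rw [← BasedFunctor.isHomLift_iff (FibCat.fpFst (BasedFunctor.comp y b) G)]
  change 𝒰.p.IsHomLift (𝟙 (𝒰.p.obj η.obj.fst)) (𝟙 η.obj.fst)
  exact IsHomLift.id rfl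

/-- The comparison functor of a 2-cartesian square is an equivalence over the base. -/
theorem IsCart.cmp_isEquivOver (h : IsCart F G a b e) (y : 𝒰 ⥤ᵇ ℬ) : FibCat.IsEquivOver (cmp F G a b e y) :=
  isEquivOver_of_ff _ (cmp_full h.full) (cmp_faithful h.faithful) (cmp_surj h.surj)

end Square

section Sp

variable {S : Scheme.{u}}

theorem secHom_congr {F : AlgSp.Sp S} {U : Over S} {Φ Ψ : AlgSt.ofSp F ⥤ᵇ FibCat.overCat U} (α : Φ ≅ Ψ)
    (a : (AlgSt.ofSp F).obj) : AlgSt.secHom Φ a = AlgSt.secHom Ψ a := by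
  have h1 := α.hom.isHomLift' a
  have h2 : (α.hom.toNatTrans.app a).left = eqToHom (Φ.w_obj a) ≫ 𝟙 _ ≫ eqToHom (Ψ.w_obj a).symm :=
    IsHomLift.fac' (FibCat.overCat U).p (𝟙 ((AlgSt.ofSp F).p.obj a)) (α.hom.toNatTrans.app a)
  have h3 : (α.hom.toNatTrans.app a).left ≫ (Ψ.obj a).hom = (Φ.obj a).hom := Over.w (α.hom.toNatTrans.app a)
  rw [AlgSt.secHom, AlgSt.secHom, ← h3, h2]
  simp

/-- `spMapOfOver` only depends on the 2-isomorphism class. -/
theorem spMapOfOver_congr {F : AlgSp.Sp S} {U : Over S} {Φ Ψ : AlgSt.ofSp F ⥤ᵇ FibCat.overCat U} (α : Φ ≅ Ψ) :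
    AlgSt.spMapOfOver Φ = AlgSt.spMapOfOver Ψ := by
  apply ObjectProperty.hom_ext
  ext T x
  change (AlgSt.spMapOfOver Φ).hom.app (op T.unop) x = (AlgSt.spMapOfOver Ψ).hom.app (op T.unop) x
  rw [AlgSt.spMapOfOver_app, AlgSt.spMapOfOver_app, secHom_congr α]

variable {𝒜 : BasedCategory.{v₂, u₂} (Over S)} {ℬ : BasedCategory.{v₃, u₃} (Over S)}
  {𝒞 : BasedCategory.{v₄, u₄} (Over S)} {𝒟 : BasedCategory.{v₅, u₅} (Over S)} {F : 𝒜 ⥤ᵇ ℬ} {G : 𝒞 ⥤ᵇ 𝒟} {a : 𝒜 ⥤ᵇ 𝒞} {b : ℬ ⥤ᵇ 𝒟}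
    {e : BasedFunctor.comp F b ≅ BasedFunctor.comp a G}

/-- `RepByAlgSpWith P` is stable under base change along 2-cartesian squares, for every `P`. -/
theorem IsCart.repByAlgSpWith {P : MorphismProperty (AlgSp.Sp S)} (h : IsCart F G a b e)
    (hG : AlgSt.RepByAlgSpWith P G) : AlgSt.RepByAlgSpWith P F := by
  intro U y
  obtain ⟨X, ε, hε, hP⟩ := hG U (BasedFunctor.comp y b)
  obtain ⟨Θ, ⟨α⟩, ⟨β⟩⟩ := h.cmp_isEquivOver y
  refine ⟨X, BasedFunctor.comp ε Θ, isEquivOver_comp hε (isEquivOver_inv α β), ?_⟩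
  have key : BasedFunctor.comp (BasedFunctor.comp ε Θ) (FibCat.fpFst y F) ≅
      BasedFunctor.comp ε (FibCat.fpFst (BasedFunctor.comp y b) G) :=
    whiskerLeftIso ε (whiskerRightIso β (FibCat.fpFst (BasedFunctor.comp y b) G))
  rw [spMapOfOver_congr key]
  exact hP

theorem IsCart.repByAlgSp1 (h : IsCart F G a b e) (hG : AlgSt.RepByAlgSp1 G) : AlgSt.RepByAlgSp1 F := by
  intro U y
  obtain ⟨X, ε, hε⟩ := hG U (BasedFunctor.comp y b)
  obtain ⟨Θ, ⟨α⟩, ⟨β⟩⟩ := h.cmp_isEquivOver y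
  exact ⟨X, BasedFunctor.comp ε Θ, isEquivOver_comp hε (isEquivOver_inv α β)⟩

end Sp

end K743.BC
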