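import Groth.Agent.AlgSt.K735.Pts

/-!
# Points of `(Sch/U)` and of categories of sheaves; surjectivity on points from representable surjectivity
-/

set_option autoImplicit false
set_option backward.isDefEq.respectTransparency false
set_option backward.isDefEq.respectTransparency.types false

universe v₄ u₄ v₃ u₃ v₂ u₂ v u

open CategoryTheory CategoryTheory.Limits AlgebraicGeometry Opposite

namespace K743.Pt

open AlgSt K735.Fib K735.Fp K735.Rep K735.Pts

variable {S : Scheme.{u}}

/-- The point of `(Sch/U)` given by a point of `U`. -/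
noncomputable abbrev pt {U : Over S} (t : ↥U.left) : Points (FibCat.overCat U) :=
  Points.ofChart (BasedFunctor.id (FibCat.overCat U)) t

theorem ofChart_eq {𝒳 : BasedCategory.{v₂, u₂} (Over S)} {U : Over S} (x : FibCat.overCat U ⥤ᵇ 𝒳) (t : ↥U.left) :
    Points.ofChart x t = Points.map x (pt t) := rfl

/-- The morphism of schemes over `S` underlying a field-valued point of `(Sch/U)`. -/
noncomputable def fptHom {U : Over S} (p : FPt (FibCat.overCat U)) : (Over.mk p.str : Over S) ⟶ U :=
  eqToHom p.lies.symm ≫ p.obj.hom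

theorem fptHom_eq {U : Over S} {p q : FPt (FibCat.overCat U)} (a : p.obj ⟶ q.obj) :
    fptHom p = (eqToHom p.lies.symm ≫ (FibCat.overCat U).p.map a ≫ eqToHom q.lies) ≫ fptHom q := by
  have h : (FibCat.overCat U).p.map a ≫ q.obj.hom = p.obj.hom := Over.w a
  simp only [fptHom, Category.assoc, eqToHom_trans_assoc, eqToHom_refl]
  rw [← h]
  congr 2

theorem spec_map_closedPoint {K L : Type u} [Field K] [Field L]
    (g : Spec (CommRingCat.of K) ⟶ Spec (CommRingCat.of L)) :
    g (IsLocalRing.closedPoint K) = IsLocalRing.closedPoint L :=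
  Subsingleton.elim (α := PrimeSpectrum L) _ _

theorem over_left_closedPoint {K L : Type u} [Field K] [Field L] {str : Spec (CommRingCat.of K) ⟶ S}
    {str' : Spec (CommRingCat.of L) ⟶ S} {U : Over S} (g : (Over.mk str : Over S) ⟶ Over.mk str')
    (m : (Over.mk str' : Over S) ⟶ U) :
    (g ≫ m).left (IsLocalRing.closedPoint K) = m.left (IsLocalRing.closedPoint L) := by
  rw [Over.comp_left, Scheme.Hom.comp_apply]
  congr 1
  exact spec_map_closedPoint (K := K) (L := L) g.left

/-- The point of `U` attached to a point of `(Sch/U)`. -/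
noncomputable def toPt {U : Over S} : Points (FibCat.overCat U) → ↥U.left :=
  Quot.lift (fun p => (fptHom p).left (IsLocalRing.closedPoint p.K)) (by
    rintro p q ⟨r, a, b, -⟩
    have key : ∀ (p q : FPt (FibCat.overCat U)) (a : p.obj ⟶ q.obj),
        (fptHom p).left (IsLocalRing.closedPoint p.K) = (fptHom q).left (IsLocalRing.closedPoint q.K) := by
      intro p q a
      rw [fptHom_eq a]
      exact over_left_closedPoint _ _
    exact (key r p a).symm.trans (key r q b))

theorem toPt_mk {U : Over S} (p : FPt (FibCat.overCat U)) :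
    toPt (Points.mk p) = (fptHom p).left (IsLocalRing.closedPoint p.K) := rfl

/-- A field-valued point of `(Sch/U)` in terms of the morphism `Spec K ⟶ U`. -/
noncomputable def fptOf {U : Over S} {K : Type u} [Field K] {str : Spec (CommRingCat.of K) ⟶ S}
    (m : (Over.mk str : Over S) ⟶ U) : FPt (FibCat.overCat U) where
  K := K
  str := str
  obj := Over.mk m
  lies := rfl

theorem fptHom_fptOf {U : Over S} {K : Type u} [Field K] {str : Spec (CommRingCat.of K) ⟶ S}
    (m : (Over.mk str : Over S) ⟶ U) : fptHom (fptOf m) = m := Category.id_comp m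

theorem toPt_fptOf {U : Over S} {K : Type u} [Field K] {str : Spec (CommRingCat.of K) ⟶ S}
    (m : (Over.mk str : Over S) ⟶ U) :
    toPt (Points.mk (fptOf m)) = m.left (IsLocalRing.closedPoint K) := by
  rw [toPt_mk, fptHom_fptOf]
  rfl

/-- The residue field point of `t`. -/
noncomputable abbrev resHom {U : Over S} (t : ↥U.left) :
    (Over.mk (U.left.fromSpecResidueField t ≫ U.hom) : Over S) ⟶ U :=
  Over.homMk (U.left.fromSpecResidueField t) rfl

theorem pt_eq {U : Over S} (t : ↥U.left) :
    pt t = Points.mk (fptOf (K := ↥(U.left.residueField t)) (resHom t)) := rfl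

@[simp] theorem toPt_pt {U : Over S} (t : ↥U.left) : toPt (pt t) = t := by
  rw [pt_eq, toPt_fptOf]
  exact Scheme.fromSpecResidueField_apply _ _

theorem exists_factor_residueField {X : Scheme.{u}} {K : Type u} [Field K] (m : Spec (.of K) ⟶ X) :
    ∃ g : Spec (.of K) ⟶ Spec (X.residueField (m (IsLocalRing.closedPoint K))),
      g ≫ X.fromSpecResidueField (m (IsLocalRing.closedPoint K)) = m :=
  ⟨Spec.map (X.descResidueField (K := K) (Scheme.stalkClosedPointTo m)),
    Scheme.descResidueField_stalkClosedPointTo_fromSpecResidueField K X m⟩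

theorem mk_fptOf {U : Over S} {K : Type u} [Field K] {str : Spec (CommRingCat.of K) ⟶ S}
    (m : (Over.mk str : Over S) ⟶ U) : Points.mk (fptOf m) = pt (m.left (IsLocalRing.closedPoint K)) := by
  obtain ⟨g, hg⟩ := exists_factor_residueField (X := U.left) (K := K) m.left
  rw [pt_eq]
  refine mk_eq_of_hom (p := fptOf m) ?_
  let g' : (Over.mk str : Over S) ⟶
      Over.mk (U.left.fromSpecResidueField (m.left (IsLocalRing.closedPoint K)) ≫ U.hom) :=
    Over.homMk g (((Category.assoc _ _ _).symm.trans (congrArg (· ≫ U.hom) hg)).trans (Over.w m))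
  have hg' : g' ≫ resHom (m.left (IsLocalRing.closedPoint K)) = m := Over.OverMorphism.ext hg
  exact Over.homMk (U := Over.mk m) (V := Over.mk (resHom (m.left (IsLocalRing.closedPoint K)))) g' hg'

theorem exists_fptOf {U : Over S} (p : FPt (FibCat.overCat U)) :
    Points.mk p = Points.mk (fptOf (fptHom p)) := by
  refine mk_eq_of_hom ?_
  exact Over.homMk (U := p.obj) (V := Over.mk (fptHom p)) (eqToHom p.lies) (by simp [fptHom])

@[simp] theorem pt_toPt {U : Over S} (p : Points (FibCat.overCat U)) : pt (toPt p) = p := by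
  obtain ⟨p, rfl⟩ := Points.mk_surjective p
  rw [exists_fptOf, mk_fptOf, toPt_pt]

theorem pt_injective {U : Over S} : Function.Injective (pt (U := U)) :=
  Function.LeftInverse.injective (g := toPt) toPt_pt

theorem map_overMap_pt {U V : Over S} (h : U ⟶ V) (t : ↥U.left) :
    Points.map (AlgSt.overMap h) (pt t) = pt (h.left t) := by
  have h1 : Points.map (AlgSt.overMap h) (pt t) =
      Points.mk (fptOf (K := ↥(U.left.residueField t)) (resHom t ≫ h)) := rfl
  rw [h1, mk_fptOf]
  congr 1
  rw [Over.comp_left, Scheme.Hom.comp_apply]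
  congr 1
  exact Scheme.fromSpecResidueField_apply _ _

section Sheaf

/-- A field-valued point of the category of a sheaf. -/
noncomputable def spFpt {F : AlgSp.Sp S} {K : Type u} [Field K] {str : Spec (CommRingCat.of K) ⟶ S}
    (s : F.obj.obj (op (Over.mk str))) : FPt (AlgSt.ofSp F) where
  K := K
  str := str
  obj := ⟨Over.mk str, s⟩
  lies := rfl

theorem exists_spFpt {F : AlgSp.Sp S} (q : FPt (AlgSt.ofSp F)) :
    ∃ (K : Type u) (_ : Field K) (str : Spec (CommRingCat.of K) ⟶ S) (s : F.obj.obj (op (Over.mk str))),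
      q = spFpt s := by
  obtain ⟨K, str, ⟨base, sec⟩, lies⟩ := q
  change base = Over.mk str at lies
  subst lies
  exact ⟨K, inferInstance, str, sec, rfl⟩

theorem mk_spFpt_restrict {F : AlgSp.Sp S} {K L : Type u} [Field K] [Field L]
    {str : Spec (CommRingCat.of K) ⟶ S} {str' : Spec (CommRingCat.of L) ⟶ S}
    (g : (Over.mk str' : Over S) ⟶ Over.mk str) (s : F.obj.obj (op (Over.mk str))) :
    Points.mk (spFpt (F.obj.map g.op s)) = Points.mk (spFpt s) :=
  mk_eq_of_hom (p := spFpt (F.obj.map g.op s)) (q := spFpt s) ⟨g, rfl⟩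

/-- A representable surjective map of sheaves is surjective on points of the associated categories. -/
theorem surjective_map_ofSpMap {F G : AlgSp.Sp S} (p : G ⟶ F) (hp : AlgSp.RepWith @Surjective p) :
    Function.Surjective (Points.map (AlgSt.ofSpMap p)) := by
  intro q
  obtain ⟨q, rfl⟩ := Points.mk_surjective q
  obtain ⟨K, _, str, s, rfl⟩ := exists_spFpt q
  let s' : (AlgSp.yon S).obj (Over.mk str) ⟶ F := (AlgSp.J S).uliftYonedaEquiv.symm s
  obtain ⟨Z, snd, fst, hsq⟩ := hp.1 s'
  have hs : Surjective snd.left := hp.2 s' fst snd hsq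
  obtain ⟨z, hz⟩ := hs.surj (IsLocalRing.closedPoint K)
  let t : (Over.mk (Z.left.fromSpecResidueField z ≫ Z.hom) : Over S) ⟶ Z := resHom z
  refine ⟨Points.map (AlgSt.ofSpMap fst) (Points.mk (spFpt (K := ↥(Z.left.residueField z))
    (⟨t⟩ : ULift (_ ⟶ Z)))), ?_⟩
  have h1 : p.hom.app _ (fst.hom.app (op (Over.mk (Z.left.fromSpecResidueField z ≫ Z.hom))) ⟨t⟩) =
      F.obj.map (t ≫ snd).op s := by
    have h2 := congrArg (fun k => k.hom.app (op (Over.mk (Z.left.fromSpecResidueField z ≫ Z.hom))) ⟨t⟩) hsq.w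
    exact h2.trans (GrothendieckTopology.uliftYonedaEquiv_symm_app_apply.{u + 1} _ _ _ (t ≫ snd))
  refine Eq.trans ?_ (mk_spFpt_restrict (t ≫ snd) s)
  exact congrArg (fun k => Points.mk (spFpt (K := ↥(Z.left.residueField z)) k)) h1

end Sheaf

section Surj

variable {𝒳 : BasedCategory.{v₂, u₂} (Over S)} {𝒵 : BasedCategory.{v₃, u₃} (Over S)}

instance subsingleton_overField {K : Type u} [Field K] {str : Spec (CommRingCat.of K) ⟶ S} :
    Subsingleton (Points (FibCat.overCat (Over.mk str))) := by
  refine ⟨fun a b => ?_⟩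
  rw [← pt_toPt a, ← pt_toPt b]
  congr 1
  exact Subsingleton.elim (α := PrimeSpectrum K) _ _

/-- A point of `𝒳` given by an object over `Spec K` is the image of the point of `(Sch/Spec K)`. -/
theorem mk_eq_map_yonF (h𝒳 : FibCat.IsFibGrpd 𝒳.p) (q : FPt 𝒳) (w : Points (FibCat.overCat (Over.mk q.str))) :
    Points.map (yonF h𝒳 q.obj q.lies) w = Points.mk q := by
  have h1 : w = Points.mk (fptOf (K := q.K) (𝟙 (Over.mk q.str))) := Subsingleton.elim _ _
  rw [h1]
  exact mk_eq_of_hom (p := (fptOf (K := q.K) (𝟙 (Over.mk q.str))).map (yonF h𝒳 q.obj q.lies))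
    (yonFIso h𝒳 q.obj q.lies).hom

/-- A functor which is representable by algebraic spaces and surjective is surjective on points. -/
theorem surjective_of_rep (h𝒳 : FibCat.IsFibGrpd 𝒳.p) (f : 𝒵 ⥤ᵇ 𝒳)
    (hf : AlgSt.RepByAlgSpWith AlgSp.IsSurjectiveMor f) : Function.Surjective (Points.map f) := by
  intro q
  obtain ⟨q, rfl⟩ := Points.mk_surjective q
  obtain ⟨F, e, he, hs⟩ := hf (Over.mk q.str) (yonF h𝒳 q.obj q.lies)
  obtain ⟨ξ, -⟩ := hs (AlgSp.Points.ofScheme (Over.mk q.str) (IsLocalRing.closedPoint q.K))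
  obtain ⟨ξ, rfl⟩ := AlgSp.Points.mk_surjective ξ
  let w := Points.map e (Points.mk (spFpt (K := ξ.K) ξ.val))
  refine ⟨Points.map (FibCat.fpSnd _ f) w, ?_⟩
  rw [← mk_eq_map_yonF h𝒳 q (Points.map (FibCat.fpFst _ f) w), ← map_comp, ← map_comp]
  exact (map_congr (FibCat.fpIso _ f) w).symm

end Surj

end K743.Pt
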