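import Groth.Agent.AlgSt.K747.Trans
import Groth.Agent.AlgSt.K747.Rep
import Groth.Agent.AlgSt.K747.Top
import Groth.Agent.AlgSt.K739.Diag
import Groth.Agent.AlgSp.K609.Points
import Groth.Agent.AlgSp.K597.EtLoc
import Groth.Agent.AlgSp.K597.LocP
import Groth.Agent.S9874

/-!
# `K747.Sc.P`, `K747.Sc.I`, `K747.Sc.isPullback_mul` for categories over `(Sch/S)` with morphisms in `Type (u + 1)`

(The categories of torsors given as sheaves live in this universe.)
-/

set_option autoImplicit false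
set_option backward.isDefEq.respectTransparency false
set_option backward.isDefEq.respectTransparency.types false
universe w v₂ u₂ v u

open CategoryTheory Opposite K734.Fib AlgebraicGeometry Limits K747 K747.Sc

namespace K743.PrU

variable {S : Scheme.{u}} {𝒳 : BasedCategory.{u + 1, w} (Over S)} (h𝒳 : FibCat.IsFibGrpd 𝒳.p)
variable {T U : Over S} (x : FibCat.overCat T ⥤ᵇ 𝒳) (z : FibCat.overCat U ⥤ᵇ 𝒳)

/-- the presheaf of sections of a fibre product, in the universe of algebraic spaces -/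
noncomputable abbrev P : AlgSp.PSp S := psh.{u + 1} h𝒳 x z

/-- the presheaf of isomorphisms, in the universe of algebraic spaces -/
noncomputable abbrev I (x x' : FibCat.overCat T ⥤ᵇ 𝒳) : AlgSp.PSp S := isoPsh.{u + 1} h𝒳 x x'

/-- first projection -/
noncomputable def prT : P h𝒳 x z ⟶ (AlgSp.pyon S).obj T where
  app V := ↾fun s => ⟨s.down.t⟩
  naturality V V' g := by
    ext s
    exact congrArg ULift.up (isRes_res h𝒳 g.unop s.down).ht.symm

/-- second projection -/
noncomputable def prU : P h𝒳 x z ⟶ (AlgSp.pyon S).obj U where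
  app V := ↾fun s => ⟨s.down.u⟩
  naturality V V' g := by
    ext s
    exact congrArg ULift.up (isRes_res h𝒳 g.unop s.down).hu.symm

/-- projection of the presheaf of isomorphisms -/
noncomputable def prI (x x' : FibCat.overCat T ⥤ᵇ 𝒳) : I h𝒳 x x' ⟶ (AlgSp.pyon S).obj T where
  app V := ↾fun s => ⟨s.1.down.t⟩
  naturality V V' g := by
    ext s
    exact congrArg ULift.up (isRes_res h𝒳 g.unop s.1.down).ht.symm

theorem pMap_toFp_fst : Rep.pMap (BasedFunctor.comp (toFp.{u + 1} h𝒳 x z) (FibCat.fpFst x z)) = prT h𝒳 x z := by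
  ext V s
  refine congrArg ULift.up ?_
  change eqToHom _ ≫ s.down.t = s.down.t
  simp

theorem pMap_toFp_snd : Rep.pMap (BasedFunctor.comp (toFp.{u + 1} h𝒳 x z) (FibCat.fpSnd x z)) = prU h𝒳 x z := by
  ext V s
  refine congrArg ULift.up ?_
  change eqToHom _ ≫ s.down.u = s.down.u
  simp

variable {x z} in
/-- `P` has a property of algebraic spaces over `h_T` -/
theorem repByAlgSpWith_psh (Q : MorphismProperty (AlgSp.Sp S)) [Q.RespectsIso] (hz : AlgSt.RepByAlgSpWith Q z) :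
    ∃ h : Presheaf.IsSheaf (AlgSp.J S) (P h𝒳 x z), AlgSp.IsAlgSpace (⟨P h𝒳 x z, h⟩ : AlgSp.Sp S) ∧
      Q (ObjectProperty.homMk (prT h𝒳 x z) : (⟨P h𝒳 x z, h⟩ : AlgSp.Sp S) ⟶ (AlgSp.yon S).obj T) := by
  obtain ⟨h, h1, h2⟩ := (Rep.with_iff Q (FibCat.fpFst x z) (toFp_isEquivOver.{u + 1} h𝒳 x z)).1 (hz T x)
  refine ⟨h, h1, ?_⟩
  rw [← pMap_toFp_fst]
  exact h2


/-- both projections -/
noncomputable def prTU : P h𝒳 x z ⟶ (AlgSp.pyon S).obj (T ⨯ U) where
  app V := ↾fun s => ⟨prod.lift s.down.t s.down.u⟩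
  naturality V V' g := by
    ext s
    refine congrArg ULift.up ?_
    have h := isRes_res h𝒳 g.unop s.down
    change prod.lift (res h𝒳 g.unop s.down).t (res h𝒳 g.unop s.down).u = g.unop ≫ prod.lift s.down.t s.down.u
    rw [prod.comp_lift, h.ht, h.hu]

theorem app_eq {F G H K : AlgSp.PSp S} {a : F ⟶ G} {b : F ⟶ H} {c : G ⟶ K} {d : H ⟶ K} (h : a ≫ c = b ≫ d)
    {V : (Over S)ᵒᵖ} (n : F.obj V) : c.app V (a.app V n) = d.app V (b.app V n) := by
  have := ConcreteCategory.congr_hom (NatTrans.congr_app h V) n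
  simpa using this

theorem exists_of_isPullback {F G H K : AlgSp.PSp S} {a : F ⟶ G} {b : F ⟶ H} {c : G ⟶ K} {d : H ⟶ K}
    (h : IsPullback a b c d) {V : (Over S)ᵒᵖ} (g : G.obj V) (k : H.obj V) (e : c.app V g = d.app V k) :
    ∃ n : F.obj V, a.app V n = g ∧ b.app V n = k := by
  have h1 := h.map ((evaluation (Over S)ᵒᵖ (Type (u+1))).obj V)
  rw [Types.isPullback_iff] at h1
  exact h1.2.2 g k e

theorem ext_of_isPullback {F G H K : AlgSp.PSp S} {a : F ⟶ G} {b : F ⟶ H} {c : G ⟶ K} {d : H ⟶ K}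
    (h : IsPullback a b c d) {V : (Over S)ᵒᵖ} (n n' : F.obj V) (e1 : a.app V n = a.app V n')
    (e2 : b.app V n = b.app V n') : n = n' := by
  have h1 := h.map ((evaluation (Over S)ᵒᵖ (Type (u+1))).obj V)
  rw [Types.isPullback_iff] at h1
  exact h1.2.1 n n' ⟨e1, e2⟩

variable {h𝒳}
variable {x₁ x₂ : FibCat.overCat T ⥤ᵇ 𝒳} {z}
variable {N : AlgSp.PSp S} {a : N ⟶ I h𝒳 x₁ x₂} {b : N ⟶ P h𝒳 x₂ z}

theorem mul_cond (sq : IsPullback a b (prI h𝒳 x₁ x₂) (prT h𝒳 x₂ z)) {V : (Over S)ᵒᵖ} (n : N.obj V) :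
    (a.app V n).1.down.u = (b.app V n).down.t :=
  (a.app V n).2.symm.trans (congrArg ULift.down (app_eq sq.w n))

/-- composition of an isomorphism and a section -/
noncomputable def mul (sq : IsPullback a b (prI h𝒳 x₁ x₂) (prT h𝒳 x₂ z)) : N ⟶ P h𝒳 x₁ z where
  app V := ↾fun n => ⟨(a.app V n).1.down.trans (b.app V n).down (mul_cond sq n)⟩
  naturality V V' g := by
    ext n
    refine Eq.symm ((psh_map_eq_iff.{u+1} h𝒳).2 ?_)
    exact IsRes.trans ((isoPsh_map_eq_iff.{u+1} h𝒳).1 (NatTrans.naturality_apply a g n).symm)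
      ((psh_map_eq_iff.{u+1} h𝒳).1 (NatTrans.naturality_apply b g n).symm) (mul_cond sq n) (mul_cond sq _)

theorem mul_app (sq : IsPullback a b (prI h𝒳 x₁ x₂) (prT h𝒳 x₂ z)) {V : (Over S)ᵒᵖ} (n : N.obj V) :
    (mul sq).app V n = ⟨(a.app V n).1.down.trans (b.app V n).down (mul_cond sq n)⟩ := rfl

theorem lift_eq_iff {V T U : Over S} {t t' : V ⟶ T} {u u' : V ⟶ U} : prod.lift t u = prod.lift t' u' ↔ t = t' ∧ u = u' := by
  constructor
  · intro h
    exact ⟨by simpa using congrArg (· ≫ Limits.prod.fst) h, by simpa using congrArg (· ≫ Limits.prod.snd) h⟩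
  · rintro ⟨rfl, rfl⟩; rfl

theorem isPullback_mul (sq : IsPullback a b (prI h𝒳 x₁ x₂) (prT h𝒳 x₂ z)) :
    IsPullback (mul sq) b (prTU h𝒳 x₁ z) (prTU h𝒳 x₂ z) := by
  refine K739.Diag.isPullback_psh _ _ _ _ ?_ ?_ ?_
  · intro V n
    refine congrArg ULift.up ?_
    change prod.lift (a.app _ n).1.down.t (b.app _ n).down.u = prod.lift (b.app _ n).down.t (b.app _ n).down.u
    rw [lift_eq_iff]
    exact ⟨congrArg ULift.down (app_eq sq.w n), rfl⟩
  · intro V n n' h1 h2
    refine ext_of_isPullback sq n n' ?_ h2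
    rw [mul_app, mul_app] at h1
    have h1' := congrArg ULift.down h1
    dsimp only at h1'
    have k1 := Sec.trans_trans_symm h𝒳 (a.app _ n).1.down (b.app _ n).down (mul_cond sq n) rfl
    have k2 := Sec.trans_trans_symm h𝒳 (a.app _ n').1.down (b.app _ n').down (mul_cond sq n') rfl
    apply Subtype.ext
    apply ULift.ext
    rw [← k1, ← k2]
    congr 1
    rw [h2]
  · intro V s s' e
    obtain ⟨e1, e2⟩ := lift_eq_iff.1 (congrArg ULift.down e)
    let r : Sec x₁ x₂ V := s.down.trans (s'.down.symm h𝒳) e2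
    have hr : r.t = r.u := e1
    obtain ⟨n, hn1, hn2⟩ := exists_of_isPullback sq (V := op V) (⟨⟨r⟩, hr⟩ : (I h𝒳 x₁ x₂).obj (op V)) s' (congrArg ULift.up e1)
    refine ⟨n, ?_, hn2⟩
    rw [mul_app]
    apply ULift.ext
    have k := Sec.trans_symm_trans h𝒳 s.down s'.down e2 rfl
    refine Eq.trans ?_ k
    dsimp only
    congr 1
    · rw [hn1]
    · rw [hn2]


end K743.PrU
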