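import Groth.Agent.AlgSt.K745.SpMap
import Groth.Agent.AlgSt.K734.Atlas
import Groth.Agent.AlgSt.K743.PrU

/-!
# fppf descent of "algebraic space with `P`" and the diagonal of a prestack with a locally surjective map from a slice

* `K743.FppfDesc.descend`: a sheaf over `h_T` which becomes an algebraic space over an fppf covering `V ⟶ T` is one
  (`h104` is the statement of S10104).
* `K743.FppfDesc.diag_with`: for a prestack `𝒳` with `z : (Sch/U) ⟶ 𝒳`, `U` terminal, representable with `P`, and such that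
  `z` is fppf-locally surjective, the diagonal has `P`.
-/

set_option autoImplicit false
set_option backward.isDefEq.respectTransparency false
set_option backward.isDefEq.respectTransparency.types false

universe w v u

open CategoryTheory CategoryTheory.Limits AlgebraicGeometry Opposite
open AlgSt AlgSp K747 K747.Sc K743.PrU

namespace K743.FppfDesc

variable {S : Scheme.{u}}

/-- the statement of S10104 -/
def H104 (S : Scheme.{u}) : Prop := ∀ (F : Sp S) (U : Space S) (p : U.obj ⟶ F),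
      RepBySpWith (IsSurjectiveMor ⊓ LocP @Flat ⊓ LocP @LocallyOfFinitePresentation) p.hom → IsAlgSpace F

theorem descend (h104 : H104 S) {I : Sp S} {T V : Over S} {π : I ⟶ (yon S).obj T} {p : V ⟶ T}
    (hf : Flat p.left) (hp : LocallyOfFinitePresentation p.left) (hs : Surjective p.left)
    {Q : Sp S} {a : Q ⟶ I} {b : Q ⟶ (yon S).obj V} (sq : IsPullback a b π ((yon S).map p)) (hQ : IsAlgSpace Q) :
    IsAlgSpace I := by
  have key : ∀ (P : MorphismProperty Scheme.{u}) [P.IsStableUnderBaseChange] (_ : P p.left), RepWith P a := by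
    intro P _ hP
    exact MorphismProperty.of_isPullback sq.flip ((repWith_yon_map_iff P p).2 hP)
  refine h104 I ⟨_, hQ⟩ a ((repBySpWith_hom_iff _ a).2 fun T ξ F' fst snd sqT => ⟨?_, ⟨?_, ?_⟩, ?_⟩)
  · exact ((repBySp_hom_iff a).1 (Representable.repBySp (key @Flat hf).1)) ξ fst snd sqT
  · exact (K609.Points.repWith_surjective_iff (MorphismProperty.of_isPullback sqT (key @Surjective hs)).1).1
      (MorphismProperty.of_isPullback sqT (key @Surjective hs))
  · exact K597.locP_of_repWith K597.etLoc_flat.precomp (MorphismProperty.of_isPullback sqT (key @Flat hf))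
  · exact K597.locP_of_repWith K597.etLoc_lfp.precomp
      (MorphismProperty.of_isPullback sqT (key @LocallyOfFinitePresentation hp))

theorem prop_descend {P : MorphismProperty (Sp S)} (hloc : IsLocalOnBase IsFppfCover P) (h104 : H104 S)
    {I : Sp S} {T V : Over S} {π : I ⟶ (yon S).obj T} {p : V ⟶ T}
    (hf : Flat p.left) (hp : LocallyOfFinitePresentation p.left) (hs : Surjective p.left)
    {Q : Sp S} {a : Q ⟶ I} {b : Q ⟶ (yon S).obj V} (sq : IsPullback a b π ((yon S).map p)) (hQ : IsAlgSpace Q)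
    (h : P b) : P π :=
  (hloc (fun _ : PUnit.{u + 1} => (yon S).obj V) (fun _ => (yon S).map p) (IsAlgSpace.yon_obj _)
    (fun _ => IsAlgSpace.yon_obj _) (K745.SpMap.isFppfCover_yon p hf hp hs) π
    (descend h104 hf hp hs sq hQ) (fun _ => Q) (fun _ => b) (fun _ => a) (fun _ => hQ) (fun _ => sq)).2 fun _ => h

variable {𝒳 : BasedCategory.{u + 1, w} (Over S)}

theorem isSheaf_I (hs : Stk.IsPrestack (AlgSp.J S) 𝒳) {T : Over S} (x₁ x₂ : FibCat.overCat T ⥤ᵇ 𝒳) :
    Presheaf.IsSheaf (AlgSp.J S) (I hs.1 x₁ x₂) := by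
  rw [isSheaf_iff_isSheaf_of_type]
  intro V R hR
  exact isSheafFor_isoPsh.{u + 1} hs.1 R (hs.2 R hR) (K747.Top.isSheafFor_yoneda Scheme.fppfPrecoverage T V R hR)

/-- the section of `P` as a map from `h_V` -/
noncomputable def secMap (h𝒳 : FibCat.IsFibGrpd 𝒳.p) {T U V : Over S} {x : FibCat.overCat T ⥤ᵇ 𝒳} {z : FibCat.overCat U ⥤ᵇ 𝒳}
    (s : Sec x z V) : (AlgSp.pyon S).obj V ⟶ P h𝒳 x z where
  app W := ↾fun g => ⟨res h𝒳 g.down s⟩
  naturality W W' g := by
    ext k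
    refine Eq.symm ((psh_map_eq_iff.{u+1} h𝒳).2 ?_)
    have h1 := isRes_res h𝒳 k.down s
    have h2 := isRes_res h𝒳 (g.unop ≫ k.down) s
    have h3 := h1.comp (isRes_res h𝒳 g.unop (res h𝒳 k.down s))
    have h4 := h2.unique h𝒳 h3
    change IsRes g.unop (res h𝒳 k.down s) (res h𝒳 (g.unop ≫ k.down) s)
    rw [h4]
    exact isRes_res h𝒳 g.unop (res h𝒳 k.down s)

theorem secMap_prT (h𝒳 : FibCat.IsFibGrpd 𝒳.p) {T U V : Over S} {x : FibCat.overCat T ⥤ᵇ 𝒳} {z : FibCat.overCat U ⥤ᵇ 𝒳}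
    (s : Sec x z V) : secMap h𝒳 s ≫ prT h𝒳 x z = (AlgSp.pyon S).map s.t := by
  ext W g
  exact congrArg ULift.up (isRes_res h𝒳 g.down s).ht.symm

/-- for `U` terminal the product with `U` does nothing -/
theorem isPullback_mul_terminal {h𝒳 : FibCat.IsFibGrpd 𝒳.p} {T U : Over S} (hU : ∀ V : Over S, Subsingleton (V ⟶ U))
    {x₁ x₂ : FibCat.overCat T ⥤ᵇ 𝒳} {z : FibCat.overCat U ⥤ᵇ 𝒳} {N : AlgSp.PSp S} {a : N ⟶ I h𝒳 x₁ x₂}
    {b : N ⟶ P h𝒳 x₂ z} (sq : IsPullback a b (prI h𝒳 x₁ x₂) (prT h𝒳 x₂ z)) :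
    IsPullback (PrU.mul sq) b (prT h𝒳 x₁ z) (prT h𝒳 x₂ z) := by
  have h := PrU.isPullback_mul sq
  refine K739.Diag.isPullback_psh _ _ _ _ ?_ ?_ ?_
  · intro V n
    refine congrArg ULift.up ?_
    change (a.app _ n).1.down.t = (b.app _ n).down.t
    exact congrArg ULift.down (app_eq sq.w n)
  · intro V n n' h1 h2
    exact ext_of_isPullback h n n' h1 h2
  · intro V s s' e
    refine exists_of_isPullback h s s' ?_
    refine congrArg ULift.up ?_
    have := hU V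
    exact lift_eq_iff.2 ⟨congrArg ULift.down e, Subsingleton.elim _ _⟩

variable {P : MorphismProperty (Sp S)} [P.IsStableUnderBaseChange]

theorem diag_with (h104 : H104 S) (hloc : IsLocalOnBase IsFppfCover P) (hs : Stk.IsPrestack (AlgSp.J S) 𝒳)
    {U : Over S} (hU : ∀ V : Over S, Subsingleton (V ⟶ U)) {z : FibCat.overCat U ⥤ᵇ 𝒳} (hz : RepByAlgSpWith P z)
    (hsec : ∀ (T : Over S) (x : FibCat.overCat T ⥤ᵇ 𝒳), ∃ (V : Over S) (s : Sec x z V), Flat s.t.left ∧
      LocallyOfFinitePresentation s.t.left ∧ Surjective s.t.left) :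
    RepByAlgSpWith P (FibCat.diag (FibCat.toSelf 𝒳)) := by
  intro T y
  refine (Rep.with_iff P _ (toDiag_isEquivOver.{u + 1} hs.1 y)).2 ?_
  have hI := isSheaf_I hs (y1 y) (y2 y)
  obtain ⟨h1, hA1, hP1⟩ := repByAlgSpWith_psh (x := y1 y) hs.1 P hz
  obtain ⟨V, s, hf, hp, hsj⟩ := hsec T (y2 y)
  have sq := IsPullback.of_hasPullback (prI hs.1 (y1 y) (y2 y)) (prT hs.1 (y2 y) z)
  have sq2 := isPullback_mul_terminal hU sq
  have sq3 := IsPullback.of_hasPullback (pullback.snd (prI hs.1 (y1 y) (y2 y)) (prT hs.1 (y2 y) z)) (secMap hs.1 s)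
  have sq4 := sq3.paste_horiz sq
  have sq5 := sq3.paste_horiz sq2
  rw [secMap_prT] at sq4 sq5
  have hQ : Presheaf.IsSheaf (AlgSp.J S) (pullback (pullback.snd (prI hs.1 (y1 y) (y2 y)) (prT hs.1 (y2 y) z)) (secMap hs.1 s)) :=
    AlgSp.isSheaf_of_isPullback (F := ⟨_, h1⟩) (G := (AlgSp.yon S).obj T) (H := (AlgSp.yon S).obj V) sq5
  have sq4' : IsPullback (ObjectProperty.homMk (pullback.fst _ _ ≫ pullback.fst _ _) : (⟨_, hQ⟩ : AlgSp.Sp S) ⟶ ⟨_, hI⟩)
      (ObjectProperty.homMk (pullback.snd _ _) : (⟨_, hQ⟩ : AlgSp.Sp S) ⟶ (AlgSp.yon S).obj V)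
      (ObjectProperty.homMk (prI hs.1 (y1 y) (y2 y)) : (⟨_, hI⟩ : AlgSp.Sp S) ⟶ (AlgSp.yon S).obj T)
      ((AlgSp.yon S).map s.t) :=
    IsPullback.of_map_of_faithful (sheafToPresheaf (AlgSp.J S) (Type (u + 1))) sq4
  have sq5' : IsPullback (ObjectProperty.homMk (pullback.fst _ _ ≫ PrU.mul sq) : (⟨_, hQ⟩ : AlgSp.Sp S) ⟶ ⟨_, h1⟩)
      (ObjectProperty.homMk (pullback.snd _ _) : (⟨_, hQ⟩ : AlgSp.Sp S) ⟶ (AlgSp.yon S).obj V)
      (ObjectProperty.homMk (prT hs.1 (y1 y) z) : (⟨_, h1⟩ : AlgSp.Sp S) ⟶ (AlgSp.yon S).obj T)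
      ((AlgSp.yon S).map s.t) :=
    IsPullback.of_map_of_faithful (sheafToPresheaf (AlgSp.J S) (Type (u + 1))) sq5
  have hQA : AlgSp.IsAlgSpace (⟨_, hQ⟩ : AlgSp.Sp S) :=
    K608.Comp.isAlgSpace_of_isPullback sq5' hA1 (IsAlgSpace.yon_obj V) (IsAlgSpace.yon_obj T)
  refine ⟨hI, descend h104 hf hp hsj sq4' hQA, ?_⟩
  exact prop_descend hloc h104 hf hp hsj sq4' hQA (MorphismProperty.of_isPullback sq5' hP1)

end K743.FppfDesc
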