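import Groth.Agent.AlgSt.K735.Top
import Groth.Agent.AlgSt.K743.Chart
import Groth.Agent.S2121

/-!
# Closure of the image of a quasi-compact morphism of algebraic stacks
-/

set_option autoImplicit false
set_option backward.isDefEq.respectTransparency false
set_option backward.isDefEq.respectTransparency.types false

universe v₄ u₄ v₃ u₃ v₂ u₂ v u

open CategoryTheory CategoryTheory.Limits AlgebraicGeometry Opposite

namespace K743.QC

open AlgSt K735.Fib K735.Fp K735.Rep K735.Pts K735.PtsSp K735.SpFp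

variable {S : Scheme.{u}} {𝒳 : BasedCategory.{v₂, u₂} (Over S)} {𝒴 : BasedCategory.{v₃, u₃} (Over S)}

/-- The identity chart of an affine scheme. -/
theorem isQuasiCompact_overCat (T : Over S) [IsAffine T.left] : AlgSt.IsQuasiCompact (FibCat.overCat T) := by
  refine ⟨T, BasedFunctor.id _, inferInstance, ?_, ?_⟩
  · have h2 : AlgSt.RepByAlgSpWith (AlgSp.LocP @Smooth) (chart (𝟙 ((AlgSp.yon S).obj T))) :=
      K735.Top.repByAlgSpWith_smooth_chart (AlgSp.repWith_id _ T)
    exact repByAlgSpWith_of_sq _ (chart (𝟙 ((AlgSp.yon S).obj T))) (BasedFunctor.id (FibCat.overCat T))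
      (BasedFunctor.id _) (AlgSt.ofOverCat T) isEquivOver_id (isEquivOver_ofOverCat T)
      (eqToIso (by
        change _ = BasedFunctor.comp (AlgSt.ofOverCat T) (AlgSt.ofSpMap (𝟙 _))
        rfl)) h2
  · have := K735.Top.isSurjectiveMor_respectsIso (S := S)
    have h2 : AlgSt.RepByAlgSpWith AlgSp.IsSurjectiveMor (chart (𝟙 ((AlgSp.yon S).obj T))) :=
      K735.Top.repByAlgSpWith_surjective_chart (AlgSp.repWith_id _ T)
    exact repByAlgSpWith_of_sq _ (chart (𝟙 ((AlgSp.yon S).obj T))) (BasedFunctor.id (FibCat.overCat T))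
      (BasedFunctor.id _) (AlgSt.ofOverCat T) isEquivOver_id (isEquivOver_ofOverCat T)
      (eqToIso (by
        change _ = BasedFunctor.comp (AlgSt.ofOverCat T) (AlgSt.ofSpMap (𝟙 _))
        rfl)) h2

/-- An affine neighbourhood of a point, in smooth charts. -/
theorem mem_closure_of_smooth_chart {K : Precoverage Scheme.{u}} (h𝒴 : AlgSt.IsAlgStack K 𝒴) {V : Over S}
    (v : FibCat.overCat V ⥤ᵇ 𝒴) (hv : AlgSt.RepByAlgSpWith (AlgSp.LocP @Smooth) v) (t : ↥V.left)
    {Z : Set (Points 𝒴)} (ht : Points.ofChart v t ∈ closure Z) : t ∈ closure (Points.ofChart v ⁻¹' Z) := by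
  have ho : IsOpenMap (AlgSt.Points.ofChart v) := K735.Top.isOpenMap_ofChart v
    (K735.Top.isOpenMap_map K735.Top.isOpenMap_of_smooth h𝒴.isStack.1 (isFibGrpd_overCat V)
      (K735.Top.chartCont_overCat V) hv)
  exact ho.preimage_closure_subset_closure_preimage ht

/-- Valuation ring witness for points in the closure of the image of a quasi-compact morphism. -/
theorem exists_valuationRing {K : Precoverage Scheme.{u}} (h𝒳 : FibCat.IsFibGrpd 𝒳.p)
    (h𝒴 : AlgSt.IsAlgStack K 𝒴) (f : 𝒳 ⥤ᵇ 𝒴)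
    (hf : ∀ (T : Over S), IsAffine T.left → ∀ a : FibCat.overCat T ⥤ᵇ 𝒴, AlgSt.IsQuasiCompact (FibCat.fp a f))
    (y : AlgSt.Points 𝒴) (hy : y ∈ closure (Set.range (AlgSt.Points.map f))) :
    ∃ (A : Type u) (_ : CommRing A) (_ : IsDomain A) (_ : ValuationRing A) (sA : Spec (CommRingCat.of A) ⟶ S)
      (a : FibCat.overCat (Over.mk sA) ⥤ᵇ 𝒴)
      (x : FibCat.overCat (Over.mk (Spec.map (CommRingCat.ofHom (algebraMap A (FractionRing A))) ≫ sA)) ⥤ᵇ 𝒳),
      Nonempty (BasedFunctor.comp x f ≅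
        BasedFunctor.comp (AlgSt.overMap (Over.homMk (Spec.map (CommRingCat.ofHom (algebraMap A (FractionRing A)))) rfl :
          Over.mk (Spec.map (CommRingCat.ofHom (algebraMap A (FractionRing A))) ≫ sA) ⟶ Over.mk sA)) a) ∧
      AlgSt.Points.ofChart a (IsLocalRing.closedPoint A) = y := by
  obtain ⟨V, v, hv, hvs⟩ := h𝒴.atlas
  have hvs' := K735.Top.surjective_of_repByAlgSpWith h𝒴.isStack.1 (isFibGrpd_overCat V) hvs
  rw [surjective_map_iff_surjective_ofChart] at hvs'
  obtain ⟨t₀, rfl⟩ := hvs' y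
  have ht₀ := mem_closure_of_smooth_chart h𝒴 v hv t₀ hy
  -- an affine open neighbourhood of `t₀`
  obtain ⟨_, ⟨(O : V.left.Opens), hO, rfl⟩, htO, -⟩ := (Scheme.isBasis_affineOpens V.left).exists_subset_of_mem_open
    (Set.mem_univ t₀) isOpen_univ
  replace hO : IsAffineOpen O := hO
  let T : Over S := Over.mk (O.ι ≫ V.hom)
  let j : T ⟶ V := Over.homMk O.ι rfl
  have hT : IsAffine T.left := hO
  let t : ↥T.left := ⟨t₀, htO⟩
  have hjt : j.left t = t₀ := rfl
  let a : FibCat.overCat T ⥤ᵇ 𝒴 := BasedFunctor.comp (AlgSt.overMap j) v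
  have hpre : Points.ofChart a ⁻¹' (Set.range (Points.map f)) =
      j.left ⁻¹' (Points.ofChart v ⁻¹' (Set.range (Points.map f))) := by
    ext s
    simp only [Set.mem_preimage]
    rw [← ofChart_overMap]
  have ht : t ∈ closure (Points.ofChart a ⁻¹' (Set.range (Points.map f))) := by
    rw [hpre]
    have : IsOpenMap j.left := O.ι.isOpenEmbedding.isOpenMap
    exact this.preimage_closure_subset_closure_preimage ht₀
  obtain ⟨U, x, hU, hx, hxs⟩ := hf T hT a
  obtain ⟨h, ⟨i⟩⟩ := K735.Top.exists_iso_overMap (BasedFunctor.comp x (FibCat.fpFst a f))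
  have hfp : FibCat.IsFibGrpd (FibCat.fp a f).p := isFibGrpd_fp (isFibGrpd_overCat T) h𝒳 h𝒴.isStack.1 a f
  have hxs' := K735.Top.surjective_of_repByAlgSpWith hfp (isFibGrpd_overCat U) hxs
  have hsub : Points.ofChart a ⁻¹' (Set.range (Points.map f)) ⊆ Set.range h.left := by
    rintro s ⟨q, hq⟩
    obtain ⟨w, hw1, -⟩ := exists_fp h𝒳 (isFibGrpd_overCat T) h𝒴.isStack.1 a f (K743.Pt.pt s) q
      (by rw [hq]; rfl)
    obtain ⟨u, rfl⟩ := hxs' w
    obtain ⟨u, rfl⟩ : ∃ u', K743.Pt.pt u' = u := ⟨K743.Pt.toPt u, K743.Pt.pt_toPt u⟩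
    rw [← map_comp, map_congr i, K743.Pt.map_overMap_pt] at hw1
    exact ⟨u, K743.Pt.pt_injective hw1⟩
  have hcl : t ∈ closure (Set.range h.left) := closure_mono hsub ht
  have hqc : QuasiCompact h.left := by
    have : IsAffine U.left := hU
    infer_instance
  obtain ⟨A, _, _, _, n, m, hnm, hm⟩ := Groth.Agent.S2121.result h.left t hcl
  let sA : Spec (CommRingCat.of A) ⟶ S := m ≫ T.hom
  let m' : Over.mk sA ⟶ T := Over.homMk m rfl
  let ι : Over.mk (Spec.map (CommRingCat.ofHom (algebraMap A (FractionRing A))) ≫ sA) ⟶ Over.mk sA :=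
    Over.homMk (Spec.map (CommRingCat.ofHom (algebraMap A (FractionRing A)))) rfl
  let n' : Over.mk (Spec.map (CommRingCat.ofHom (algebraMap A (FractionRing A))) ≫ sA) ⟶ U :=
    Over.homMk n (by
      change n ≫ U.hom = Spec.map (CommRingCat.ofHom (algebraMap A (FractionRing A))) ≫ m ≫ T.hom
      rw [← Over.w h, reassoc_of% hnm])
  have hn' : n' ≫ h = ι ≫ m' := Over.OverMorphism.ext hnm
  refine ⟨A, inferInstance, inferInstance, inferInstance, sA, BasedFunctor.comp (AlgSt.overMap m') a,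
    BasedFunctor.comp (AlgSt.overMap n') (BasedFunctor.comp x (FibCat.fpSnd a f)), ⟨?_⟩, ?_⟩
  · have e1 : BasedFunctor.comp (BasedFunctor.comp x (FibCat.fpSnd a f)) f ≅
        BasedFunctor.comp (AlgSt.overMap h) a :=
      (K735.Fib.whiskerLeftIso x (FibCat.fpIso a f)).symm ≪≫ K735.Fib.whiskerRightIso i a
    exact K735.Fib.whiskerLeftIso (AlgSt.overMap n') e1 ≪≫
      (K735.Fib.whiskerRightIso (K743.Chart.overMapComp n' h ≪≫ eqToIso (by rw [hn']) ≪≫
        (K743.Chart.overMapComp ι m').symm) a :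
        BasedFunctor.comp (BasedFunctor.comp (AlgSt.overMap n') (AlgSt.overMap h)) a ≅
        BasedFunctor.comp (BasedFunctor.comp (AlgSt.overMap ι) (AlgSt.overMap m')) a)
  · rw [ofChart_overMap]
    have h1 : m'.left (IsLocalRing.closedPoint A) = t := hm
    rw [h1]
    exact ofChart_overMap j v t

end K743.QC
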