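import Groth.Agent.AlgSt.K743.Comp

/-!
# Scheme charts of `V ×_𝒴 𝒳` built from charts of `𝒳` and `𝒴`
-/

set_option autoImplicit false
set_option backward.isDefEq.respectTransparency false
set_option backward.isDefEq.respectTransparency.types false

universe v₄ u₄ v₃ u₃ v₂ u₂ v u

open CategoryTheory CategoryTheory.Limits AlgebraicGeometry Opposite

namespace K743.FpChart

open AlgSt K735.Fib K735.Fp K735.Rep K735.Pts K735.PtsSp K735.SpFp

variable {S : Scheme.{u}} {𝒳 : BasedCategory.{v₂, u₂} (Over S)} {𝒴 : BasedCategory.{v₃, u₃} (Over S)}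
  {𝒵 : BasedCategory.{v₄, u₄} (Over S)}

/-- Composition of a map of algebraic spaces with a functor representable by algebraic spaces. -/
theorem repByAlgSpWith_ofSpMap_comp {P Q R : MorphismProperty (AlgSp.Sp S)}
    (hbc : ∀ ⦃F F' G G' : AlgSp.Sp S⦄ (r : F' ⟶ F) (p : G ⟶ F) (fst : G' ⟶ F')
      (snd : G' ⟶ G), AlgSp.IsAlgSpace F → AlgSp.IsAlgSpace F' → AlgSp.IsAlgSpace G →
      IsPullback fst snd r p → P p → Q fst)
    (hcomp : ∀ ⦃F G : AlgSp.Sp S⦄ ⦃T : Over S⦄ (a : G ⟶ F) (b : F ⟶ (AlgSp.yon S).obj T), AlgSp.IsAlgSpace F →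
      AlgSp.IsAlgSpace G → Q a → R b → R (a ≫ b))
    {F G : AlgSp.Sp S} (hF : AlgSp.IsAlgSpace F) (hG : AlgSp.IsAlgSpace G) (p : G ⟶ F) (hp : P p)
    (y : AlgSt.ofSp F ⥤ᵇ 𝒳) (hy : AlgSt.RepByAlgSpWith R y) :
    AlgSt.RepByAlgSpWith R (BasedFunctor.comp (AlgSt.ofSpMap p) y) := by
  intro T a
  obtain ⟨F', e, he, hq⟩ := hy T a
  obtain ⟨i⟩ := exists_iso_spMap (BasedFunctor.comp e (FibCat.fpSnd a y))
  set r := spMap (BasedFunctor.comp e (FibCat.fpSnd a y)) with hr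
  have sq := IsPullback.of_hasPullback r p
  have hG' : AlgSp.IsAlgSpace (pullback r p) :=
    K594.Fib.isAlgSpace_of_isPullback hF.diag F'.property hG sq
  let k : FibCat.fp (AlgSt.ofSpMap r) (AlgSt.ofSpMap p) ⥤ᵇ
      FibCat.fp (FibCat.fpSnd a y) (AlgSt.ofSpMap p) :=
    fpMap _ _ _ _ e (BasedFunctor.id _) (BasedFunctor.id _) i (Iso.refl _)
  have hk : FibCat.IsEquivOver k :=
    isEquivOver_fpMap' _ _ _ _ _ _ _ _ _ he isEquivOver_id isEquivOver_id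
  refine ⟨⟨_, hG'⟩, BasedFunctor.comp (theta sq.w) (BasedFunctor.comp k (K742.RepComp.pasteComp a y (AlgSt.ofSpMap p))),
    IsEquivOver.comp (isEquivOver_theta sq) (IsEquivOver.comp hk (K742.RepComp.isEquivOver_pasteComp _ _ _)), ?_⟩
  have key : AlgSt.spMapOfOver (BasedFunctor.comp (BasedFunctor.comp (theta sq.w)
      (BasedFunctor.comp k (K742.RepComp.pasteComp a y (AlgSt.ofSpMap p))))
        (FibCat.fpFst a (BasedFunctor.comp (AlgSt.ofSpMap p) y))) =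
      pullback.fst r p ≫ AlgSt.spMapOfOver (BasedFunctor.comp e (FibCat.fpFst a y)) :=
    spMapOfOver_comp_ofSpMap (pullback.fst r p) (BasedFunctor.comp e (FibCat.fpFst a y))
  rw [key]
  exact hcomp _ _ F'.property hG' (hbc r p _ _ hF F'.property hG sq hp) hq

/-- Composition for `LocP P`. -/
theorem locP_ofSpMap_comp {P : MorphismProperty Scheme.{u}} (hP : K597.EtLoc P) [P.IsStableUnderBaseChange]
    [P.IsStableUnderComposition] {F G : AlgSp.Sp S} (hF : AlgSp.IsAlgSpace F) (hG : AlgSp.IsAlgSpace G)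
    (p : G ⟶ F) (hp : AlgSp.LocP P p) (y : AlgSt.ofSp F ⥤ᵇ 𝒳) (hy : AlgSt.RepByAlgSpWith (AlgSp.LocP P) y) :
    AlgSt.RepByAlgSpWith (AlgSp.LocP P) (BasedFunctor.comp (AlgSt.ofSpMap p) y) := by
  refine repByAlgSpWith_ofSpMap_comp (P := AlgSp.LocP P) (Q := AlgSp.LocP P) ?_ ?_ hF hG p hp y hy
  · intro F F' G G' r p fst snd hF hF' hG sq hh
    exact K597.locP_bc hP sq.flip hG.hasAtlas hF.hasAtlas hF'.hasAtlas hh
  · intro F G T a b hF hG ha hb
    exact K597.locP_comp hP hG.hasAtlas hF.hasAtlas (AlgSp.IsAlgSpace.yon_obj T).hasAtlas ha hb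

/-- Etale charts of an algebraic space composed with a functor having `LocP P`. -/
theorem locP_chart_comp {P : MorphismProperty Scheme.{u}} (hP : K597.EtLoc P) [P.IsStableUnderBaseChange]
    [P.IsStableUnderComposition] (hPs : ∀ ⦃X Y : Scheme.{u}⦄ (f : X ⟶ Y), Etale f → P f)
    {F : AlgSp.Sp S} (hF : AlgSp.IsAlgSpace F) {W : Over S}
    (p : (AlgSp.yon S).obj W ⟶ F) (hp : AlgSp.RepWith @Etale p) (y : AlgSt.ofSp F ⥤ᵇ 𝒳)
    (hy : AlgSt.RepByAlgSpWith (AlgSp.LocP P) y) :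
    AlgSt.RepByAlgSpWith (AlgSp.LocP P)
      (BasedFunctor.comp (AlgSt.ofOverCat W) (BasedFunctor.comp (AlgSt.ofSpMap p) y)) := by
  refine repByAlgSpWith_of_sq _ (BasedFunctor.comp (AlgSt.ofSpMap p) y) _ (AlgSt.ofOverCat W) (BasedFunctor.id _)
    (isEquivOver_ofOverCat W) isEquivOver_id (Iso.refl _)
    (locP_ofSpMap_comp hP hF (AlgSp.IsAlgSpace.yon_obj W) p ?_ y hy)
  exact K597.locP_mono hPs (K597.locP_of_repWith K597.etLoc_etale.precomp hp)

/-- Charts of `V ×_𝒴 𝒳` from a chart `u` of `𝒳` and a chart `v` of `𝒴`. -/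
theorem exists_chart_fp {P : MorphismProperty Scheme.{u}} (hP : K597.EtLoc P) [P.IsStableUnderBaseChange]
    [P.IsStableUnderComposition] (hPs : ∀ ⦃X Y : Scheme.{u}⦄ (f : X ⟶ Y), Etale f → P f)
    (h𝒳 : FibCat.IsFibGrpd 𝒳.p) (h𝒴 : FibCat.IsFibGrpd 𝒴.p) (f : 𝒳 ⥤ᵇ 𝒴) {U V : Over S} (u : FibCat.overCat U ⥤ᵇ 𝒳)
    (hu : AlgSt.RepByAlgSpWith (AlgSp.LocP P) u) (v : FibCat.overCat V ⥤ᵇ 𝒴) {Q : MorphismProperty Scheme.{u}}
    (hv : AlgSt.RepByAlgSpWith (AlgSp.LocP Q) v) :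
    ∃ (W : Over S) (s : W ⟶ U) (r : W ⟶ V) (ω : FibCat.overCat W ⥤ᵇ FibCat.fp v f),
      AlgSt.RepByAlgSpWith (AlgSp.LocP P) ω ∧
      Nonempty (BasedFunctor.comp ω (FibCat.fpFst v f) ≅ AlgSt.overMap r) ∧
      Nonempty (BasedFunctor.comp ω (FibCat.fpSnd v f) ≅ BasedFunctor.comp (AlgSt.overMap s) u) ∧
      Q s.left ∧
      (∀ R : MorphismProperty Scheme.{u}, AlgSt.RepByAlgSpWith (AlgSp.LocP R) (BasedFunctor.comp u f) → R r.left) ∧
      ∀ z : Points (FibCat.fp v f), Points.map (FibCat.fpSnd v f) z ∈ Set.range (Points.map u) →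
        z ∈ Set.range (Points.map ω) := by
  obtain ⟨F, e, he, hq⟩ := hv U (BasedFunctor.comp u f)
  obtain ⟨k, hk, ⟨k₁⟩, ⟨k₂⟩⟩ := IsEquivOver.exists_inv (K742.RepComp.isEquivOver_pasteComp v f u)
  let e₁ : AlgSt.ofSp F.obj ⥤ᵇ FibCat.fp v (BasedFunctor.comp u f) :=
    BasedFunctor.comp e (fpSwap (BasedFunctor.comp u f) v)
  have he₁ : FibCat.IsEquivOver e₁ := IsEquivOver.comp he (isEquivOver_fpSwap _ _)
  let e' : AlgSt.ofSp F.obj ⥤ᵇ FibCat.fp (FibCat.fpSnd v f) u := BasedFunctor.comp e₁ k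
  have he' : FibCat.IsEquivOver e' := IsEquivOver.comp he₁ hk
  -- `e' ⋙ pasteComp ≅ e₁`
  have c₁ : BasedFunctor.comp e' (K742.RepComp.pasteComp v f u) ≅ e₁ := K735.Fib.whiskerLeftIso e₁ k₂
  let y : AlgSt.ofSp F.obj ⥤ᵇ FibCat.fp v f := BasedFunctor.comp e' (FibCat.fpFst (FibCat.fpSnd v f) u)
  have hy : AlgSt.RepByAlgSpWith (AlgSp.LocP P) y :=
    repByAlgSpWith_of_sq _ (FibCat.fpFst (FibCat.fpSnd v f) u) y e' (BasedFunctor.id _) he' isEquivOver_id (Iso.refl _)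
      (K742.RepComp.repByAlgSpWith_fpFst _ _ hu)
  obtain ⟨W, p, hp1, hp2⟩ := F.property.atlas
  obtain ⟨s, hs, ⟨i⟩⟩ := K743.Chart.exists_overMap_of_sp p (BasedFunctor.comp e (FibCat.fpFst (BasedFunctor.comp u f) v))
  obtain ⟨r, hr, ⟨j⟩⟩ := K743.Chart.exists_overMap_of_sp p (BasedFunctor.comp e (FibCat.fpSnd (BasedFunctor.comp u f) v))
  let P₀ : FibCat.overCat W ⥤ᵇ AlgSt.ofSp F.obj := BasedFunctor.comp (AlgSt.ofOverCat W) (AlgSt.ofSpMap p)
  have i' : BasedFunctor.comp P₀ (BasedFunctor.comp e (FibCat.fpFst (BasedFunctor.comp u f) v)) ≅ AlgSt.overMap s := i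
  have j' : BasedFunctor.comp P₀ (BasedFunctor.comp e (FibCat.fpSnd (BasedFunctor.comp u f) v)) ≅ AlgSt.overMap r := j
  let ω : FibCat.overCat W ⥤ᵇ FibCat.fp v f := BasedFunctor.comp P₀ y
  refine ⟨W, s, r, ω, locP_chart_comp hP hPs F.property p hp1 y hy, ⟨?_⟩, ⟨?_⟩, ?_, ?_, ?_⟩
  · -- first projection
    exact (K735.Fib.whiskerLeftIso P₀ (K735.Fib.whiskerRightIso c₁ (FibCat.fpFst v (BasedFunctor.comp u f))) :
      BasedFunctor.comp P₀ (BasedFunctor.comp (BasedFunctor.comp e' (K742.RepComp.pasteComp v f u))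
        (FibCat.fpFst v (BasedFunctor.comp u f))) ≅ BasedFunctor.comp P₀ (BasedFunctor.comp e₁
        (FibCat.fpFst v (BasedFunctor.comp u f)))) ≪≫ j'
  · -- second projection
    have c₂ : BasedFunctor.comp e' (FibCat.fpSnd (FibCat.fpSnd v f) u) ≅
        BasedFunctor.comp e (FibCat.fpFst (BasedFunctor.comp u f) v) :=
      (K735.Fib.whiskerRightIso c₁ (FibCat.fpSnd v (BasedFunctor.comp u f)) :
        BasedFunctor.comp (BasedFunctor.comp e' (K742.RepComp.pasteComp v f u)) (FibCat.fpSnd v (BasedFunctor.comp u f)) ≅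
        BasedFunctor.comp e₁ (FibCat.fpSnd v (BasedFunctor.comp u f)))
    have c₃ : BasedFunctor.comp y (FibCat.fpSnd v f) ≅
        BasedFunctor.comp (BasedFunctor.comp e (FibCat.fpFst (BasedFunctor.comp u f) v)) u :=
      (K735.Fib.whiskerLeftIso e' (FibCat.fpIso (FibCat.fpSnd v f) u)) ≪≫ K735.Fib.whiskerRightIso c₂ u
    exact K735.Fib.whiskerLeftIso P₀ c₃ ≪≫ K735.Fib.whiskerRightIso i' u
  · refine hq p (𝟙 _) s hp1 (AlgSp.repWith_id _ U) ?_
    rw [Category.comp_id]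
    exact hs.symm
  · intro R hR
    have := K735.Top.locP_respectsIso (S := S) R
    have hQ := (RepOver.of_rep (hR V v) e₁ he₁).2
    refine hQ p (𝟙 _) r hp1 (AlgSp.repWith_id _ V) ?_
    rw [Category.comp_id]
    exact hr.symm
  · rintro z ⟨q, hq⟩
    have h1 := (map_bijective_of_isEquivOver (isEquivOver_ofOverCat W)).surjective
    have h2 := K743.Pt.surjective_map_ofSpMap p hp2
    have h3 := (map_bijective_of_isEquivOver he').surjective
    obtain ⟨m, hm1, -⟩ := exists_fp (isFibGrpd_overCat U) (isFibGrpd_fp (isFibGrpd_overCat V) h𝒳 h𝒴 v f) h𝒳 (FibCat.fpSnd v f) u z q hq.symm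
    obtain ⟨m, rfl⟩ := h3 m
    obtain ⟨m, rfl⟩ := h2 m
    obtain ⟨m, rfl⟩ := h1 m
    refine ⟨m, ?_⟩
    rw [← hm1]
    change Points.map (BasedFunctor.comp (BasedFunctor.comp (AlgSt.ofOverCat W) (AlgSt.ofSpMap p)) (BasedFunctor.comp e'
      (FibCat.fpFst (FibCat.fpSnd v f) u))) m = _
    rw [map_comp (BasedFunctor.comp (AlgSt.ofOverCat W) (AlgSt.ofSpMap p)), map_comp e', map_comp (AlgSt.ofOverCat W)]

end K743.FpChart
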