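import Groth.Agent.AlgSt.K743.FpChart
import Groth.Agent.AlgSt.K737.Open
import Groth.Agent.AlgSt.K734.FibFp

/-!
# The largest open substack on which a morphism of algebraic stacks has a property local on source and target
-/

set_option autoImplicit false
set_option backward.isDefEq.respectTransparency false
set_option backward.isDefEq.respectTransparency.types false

universe v₄ u₄ v₃ u₃ v₂ u₂ v u

open CategoryTheory CategoryTheory.Limits AlgebraicGeometry Opposite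

namespace K743.Locus

open AlgSt K735.Fib K735.Fp K735.Rep K735.Pts K735.PtsSp K735.SpFp K737.Open K737.Pts K737.SubRep

/-! ### Schemes: the largest open on which a morphism has `P` -/

section Sch

variable (P : MorphismProperty Scheme.{u}) {X Y Z : Scheme.{u}}

/-- The largest open on which `f` has `P` (for `P` Zariski local on the source). -/
noncomputable def locus (f : X ⟶ Y) : X.Opens := sSup {O | P (O.ι ≫ f)}

theorem le_locus (f : X ⟶ Y) {O : X.Opens} (h : P (O.ι ≫ f)) : O ≤ locus P f := le_sSup h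

theorem locus_prop [IsZariskiLocalAtSource P] (f : X ⟶ Y) : P ((locus P f).ι ≫ f) := by
  let ι : Type u := {O : X.Opens // P (O.ι ≫ f)}
  let V : ι → X.Opens := fun i => i.1
  have hV : iSup V = locus P f := by
    rw [locus, sSup_eq_iSup']
    rfl
  let V' : ι → (↑(locus P f) : Scheme.{u}).Opens := fun i => (locus P f).ι ⁻¹ᵁ (V i)
  refine IsZariskiLocalAtSource.of_iSup_eq_top V' ?_ ?_
  · apply TopologicalSpace.Opens.ext
    ext x
    simp only [TopologicalSpace.Opens.coe_iSup, Set.mem_iUnion, TopologicalSpace.Opens.coe_top, Set.mem_univ, iff_true]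
    have hx : (locus P f).ι x ∈ iSup V := by
      rw [hV]
      exact x.2
    obtain ⟨i, hi⟩ := TopologicalSpace.Opens.mem_iSup.1 hx
    exact ⟨i, hi⟩
  · intro i
    have h1 : V i ≤ locus P f := le_locus P f i.2
    have h2 : (V' i).ι ≫ (locus P f).ι ≫ f =
        (IsOpenImmersion.lift (V i).ι ((V' i).ι ≫ (locus P f).ι) (by
          rw [Scheme.Opens.range_ι]
          rintro _ ⟨x, rfl⟩
          exact x.2)) ≫ (V i).ι ≫ f := by
      rw [IsOpenImmersion.lift_fac_assoc, Category.assoc]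
    rw [h2]
    have h3 : IsOpenImmersion (IsOpenImmersion.lift (V i).ι ((V' i).ι ≫ (locus P f).ι) (by
          rw [Scheme.Opens.range_ι]
          rintro _ ⟨x, rfl⟩
          exact x.2)) := by
      have h4 : IsOpenImmersion (IsOpenImmersion.lift (V i).ι ((V' i).ι ≫ (locus P f).ι) (by
          rw [Scheme.Opens.range_ι]
          rintro _ ⟨x, rfl⟩
          exact x.2) ≫ (V i).ι) := by
        rw [IsOpenImmersion.lift_fac]
        infer_instance
      exact IsOpenImmersion.of_comp _ (V i).ι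
    exact IsZariskiLocalAtSource.comp i.2 _

/-- A source-local property holds on the image of a `Q`-open morphism. -/
theorem range_subset_locus [P.RespectsIso] (t : X ⟶ Y) [Smooth t] (f : Y ⟶ Z)
    (hsrc : ∀ ⦃A B C : Scheme.{u}⦄ (e : A ⟶ B) (g : B ⟶ C), Smooth e → Surjective e → P (e ≫ g) → P g)
    (h : P (t ≫ f)) : Set.range t ⊆ (locus P f : Set Y) := by
  have ho : IsOpenMap t := K735.Top.isOpenMap_of_smooth t inferInstance
  let O : Y.Opens := ⟨Set.range t, ho.isOpen_range⟩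
  have hO : O ≤ locus P f := by
    apply le_locus
    let t' : X ⟶ O := IsOpenImmersion.lift O.ι t (by
      rw [Scheme.Opens.range_ι]
      exact subset_rfl)
    have h1 : t' ≫ O.ι = t := IsOpenImmersion.lift_fac _ _ _
    have h2 : Smooth t' := by
      have : Smooth (t' ≫ O.ι) := by rw [h1]; infer_instance
      exact MorphismProperty.of_postcomp (W := @Smooth) (W' := @IsOpenImmersion) t' O.ι inferInstance this
    have h3 : Surjective t' := by
      refine ⟨fun y => ?_⟩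
      obtain ⟨x, hx⟩ := y.2
      refine ⟨x, ?_⟩
      apply Subtype.ext
      have : O.ι (t' x) = y.1 := by
        rw [← Scheme.Hom.comp_apply, h1]
        exact hx
      exact this
    refine hsrc t' _ h2 h3 ?_
    rw [← Category.assoc, h1]
    exact h
  exact fun x hx => hO hx

end Sch

/-! ### Lifting charts to full subcategories -/

section Sub

variable {S : Scheme.{u}} {𝒳 : BasedCategory.{v₂, u₂} (Over S)} {𝒴 : BasedCategory.{v₃, u₃} (Over S)}
  {𝒵 : BasedCategory.{v₄, u₄} (Over S)}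

/-- The lift of a functor to a full subcategory. -/
def subLift {Q : 𝒳.obj → Prop} (x : 𝒵 ⥤ᵇ 𝒳) (h : ∀ a, Q (x.obj a)) : 𝒵 ⥤ᵇ AlgSt.fullSub 𝒳 Q where
  toFunctor := ObjectProperty.lift (P := Q) x.toFunctor h
  w := x.w

theorem subLift_incl {Q : 𝒳.obj → Prop} (x : 𝒵 ⥤ᵇ 𝒳) (h : ∀ a, Q (x.obj a)) :
    BasedFunctor.comp (subLift x h) (AlgSt.subIncl 𝒳 Q) = x := rfl

/-- Representability of a functor into a full subcategory from that of its composition with the inclusion. -/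
theorem repByAlgSpWith_of_comp_incl (P : MorphismProperty (AlgSp.Sp S)) {Q : 𝒳.obj → Prop}
    (x : 𝒵 ⥤ᵇ AlgSt.fullSub 𝒳 Q)
    (h : AlgSt.RepByAlgSpWith P (BasedFunctor.comp x (AlgSt.subIncl 𝒳 Q))) : AlgSt.RepByAlgSpWith P x := by
  intro U y
  refine RepOver.of_equiv' (h U (BasedFunctor.comp y (AlgSt.subIncl 𝒳 Q)))
    (K734.Fib.fpPost y x (AlgSt.subIncl 𝒳 Q))
    (K734.Fib.isEquivOver_fpPost y x (AlgSt.subIncl 𝒳 Q) ?_ ?_) (Iso.refl _)
  · exact ⟨fun {a b} φ => ⟨ObjectProperty.homMk φ, rfl⟩⟩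
  · exact ⟨fun {a b} φ ψ h => ObjectProperty.hom_ext _ h⟩

/-- Points of a full subcategory closed under pullback inject into the points. -/
theorem injective_map_subIncl {Q : 𝒳.obj → Prop} (h𝒳 : FibCat.IsFibGrpd 𝒳.p) (hQ : ∀ ⦃x z : 𝒳.obj⦄, (z ⟶ x) → Q x → Q z) :
    Function.Injective (Points.map (AlgSt.subIncl 𝒳 Q)) := by
  intro p q h
  obtain ⟨p, rfl⟩ := Points.mk_surjective p
  obtain ⟨q, rfl⟩ := Points.mk_surjective q
  obtain ⟨r, a, b, -⟩ := (mk_eq_mk_iff h𝒳).1 h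
  let a' : r.obj ⟶ p.obj.obj := a
  let b' : r.obj ⟶ q.obj.obj := b
  let r' : FPt (AlgSt.fullSub 𝒳 Q) :=
    { K := r.K
      str := r.str
      obj := ⟨r.obj, hQ a' p.obj.property⟩
      lies := r.lies }
  exact Points.sound ⟨r', ObjectProperty.homMk a', ObjectProperty.homMk b', trivial⟩

/-- Composition with an open substack. -/
theorem locP_comp_openImm {P : MorphismProperty Scheme.{u}} (hP : K597.EtLoc P) [P.IsStableUnderComposition]
    (hPo : ∀ ⦃X Y : Scheme.{u}⦄ (f : X ⟶ Y), IsOpenImmersion f → P f)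
    (f : 𝒳 ⥤ᵇ 𝒴) (g : 𝒴 ⥤ᵇ 𝒵) (hf : AlgSt.RepByAlgSpWith (AlgSp.LocP P) f) (hg : AlgSt.IsOpenImm g) :
    AlgSt.RepByAlgSpWith (AlgSp.LocP P) (BasedFunctor.comp f g) := by
  let P' : MorphismProperty (AlgSp.Sp S) := fun F _ a => AlgSp.IsAlgSpace F ∧ AlgSp.LocP P a
  have hf' : AlgSt.RepByAlgSpWith P' f := by
    intro U y
    obtain ⟨F, e, he, hq⟩ := hf U y
    exact ⟨F, e, he, F.property, hq⟩
  have : (AlgSp.RepWith (S := S) @IsOpenImmersion).RespectsIso := inferInstance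
  refine K742.RepComp.repByAlgSpWith_comp (P := P') (Q := AlgSp.RepWith @IsOpenImmersion) ?_ ?_ f g hf' hg
  · intro F U a hF ha
    obtain ⟨T', a', b, sq, hb⟩ := K597.exists_sq ha (𝟙 _)
    have : IsIso a' := sq.isIso_fst_of_isIso inferInstance
    exact ⟨T', ⟨asIso a'⟩⟩
  · rintro F W U a b ⟨hF, ha⟩ hb
    refine K597.locP_comp hP hF.hasAtlas (AlgSp.IsAlgSpace.yon_obj W).hasAtlas (AlgSp.IsAlgSpace.yon_obj U).hasAtlas ha ?_
    obtain ⟨b, rfl⟩ := (AlgSp.yon S).map_surjective b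
    exact K743.Comp.locP_yon_map_of hP b (hPo _ ((AlgSp.repWith_yon_map_iff _ _).1 hb))

/-- Morphisms between slices are determined by their composition functor up to 2-isomorphism. -/
theorem eq_of_overMap_iso {U V : Over S} {g h : U ⟶ V} (e : AlgSt.overMap g ≅ AlgSt.overMap h) : g = h := by
  have h1 : AlgSt.spMapOfOver (BasedFunctor.comp (AlgSt.toOverCat U) (AlgSt.overMap g)) =
      AlgSt.spMapOfOver (BasedFunctor.comp (AlgSt.toOverCat U) (AlgSt.overMap h)) :=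
    spMapOfOver_eq_of_iso (K735.Fib.whiskerLeftIso (AlgSt.toOverCat U) e)
  have h2 : ∀ g : U ⟶ V, AlgSt.spMapOfOver (BasedFunctor.comp (AlgSt.toOverCat U) (AlgSt.overMap g)) =
      (AlgSp.yon S).map g := fun g => spMapOfOver_ofSpMap_toOverCat ((AlgSp.yon S).map g)
  rw [h2, h2] at h1
  exact (AlgSp.yon S).map_injective h1

end Sub

section Main

variable {S : Scheme.{u}} {𝒳 : BasedCategory.{v₂, u₂} (Over S)} {𝒴 : BasedCategory.{v₃, u₃} (Over S)}

open K737.Open in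
/-- The largest open substack on which a morphism of algebraic stacks has `P`. -/
theorem exists_largest {P : MorphismProperty Scheme.{u}} (hP : K597.EtLoc P) [P.IsStableUnderBaseChange]
    [P.IsStableUnderComposition] [IsZariskiLocalAtSource P]
    (hPs : ∀ ⦃X Y : Scheme.{u}⦄ (f : X ⟶ Y), Smooth f → P f)
    (hsrc : ∀ ⦃A B C : Scheme.{u}⦄ (e : A ⟶ B) (g : B ⟶ C), Smooth e → Surjective e → P (e ≫ g) → P g)
    {K : Precoverage Scheme.{u}}
    (h𝒳 : AlgSt.IsAlgStack K 𝒳) (h𝒴 : AlgSt.IsAlgStack K 𝒴) (f : 𝒳 ⥤ᵇ 𝒴) :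
    ∃ T : Set (Points 𝒳), IsOpen T ∧
      AlgSt.LocQ (AlgSp.LocP P) (BasedFunctor.comp (AlgSt.subIncl 𝒳 (predOf T)) f) ∧
      ∀ Q' : 𝒳.obj → Prop, ObjectProperty.IsClosedUnderIsomorphisms Q' → AlgSt.IsOpenImm (AlgSt.subIncl 𝒳 Q') →
        AlgSt.LocQ (AlgSp.LocP P) (BasedFunctor.comp (AlgSt.subIncl 𝒳 Q') f) → ∀ a, Q' a → predOf T a := by
  obtain ⟨V, v, hv, hvs⟩ := h𝒴.atlas
  obtain ⟨U, u, hu, hus⟩ := h𝒳.atlas
  have hcc := K735.Top.chartCont_of_isAlgStack h𝒳
  have hsm : ∀ ⦃X Y : Scheme.{u}⦄ (f : X ⟶ Y), Etale f → Smooth f := fun _ _ f _ => inferInstance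
  have hus' := K735.Top.surjective_of_repByAlgSpWith h𝒳.isStack.1 (isFibGrpd_overCat U) hus
  have hvs' := K735.Top.surjective_of_repByAlgSpWith h𝒴.isStack.1 (isFibGrpd_overCat V) hvs
  obtain ⟨W, s, r, ω, hω, ⟨ω₁⟩, ⟨ω₂⟩, hs, -, hωs⟩ := K743.FpChart.exists_chart_fp K597.etLoc_smooth hsm
    h𝒳.isStack.1 h𝒴.isStack.1 f u hu v hv
  let w : FibCat.overCat W ⥤ᵇ 𝒳 := BasedFunctor.comp ω (FibCat.fpSnd v f)
  have hw : AlgSt.RepByAlgSpWith (AlgSp.LocP @Smooth) w :=
    repByAlgSpWith_of_iso _ ω₂.symm (K743.Comp.locP_overMap_comp K597.etLoc_smooth s hs u hu)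
  -- `w ⋙ f ≅ overMap r ⋙ v`
  have e₀ : BasedFunctor.comp w f ≅ BasedFunctor.comp (AlgSt.overMap r) v :=
    (K735.Fib.whiskerLeftIso ω (FibCat.fpIso v f).symm :
      BasedFunctor.comp ω (BasedFunctor.comp (FibCat.fpSnd v f) f) ≅
      BasedFunctor.comp ω (BasedFunctor.comp (FibCat.fpFst v f) v)) ≪≫ K735.Fib.whiskerRightIso ω₁ v
  let O : W.left.Opens := locus P r.left
  have hwo : IsOpenMap (Points.ofChart w) := K735.Top.isOpenMap_ofChart w
    (K735.Top.isOpenMap_map K735.Top.isOpenMap_of_smooth h𝒳.isStack.1 (isFibGrpd_overCat W)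
      (K735.Top.chartCont_overCat W) hw)
  let T : Set (Points 𝒳) := Points.ofChart w '' O
  have hT : IsOpen T := hwo _ O.isOpen
  have hT' : ∀ (U : Over S) (y : FibCat.overCat U ⥤ᵇ 𝒳), IsOpen (AlgSt.Points.ofChart y ⁻¹' T) :=
    fun U y => hT.preimage (hcc U y)
  have hQ := predOf_iso T
  have hloc := hasLoci_predOf h𝒳.isStack.1 hT'
  have hrange := range_predOf h𝒳.isStack.1 hT'
  have hhom : ∀ ⦃x z : 𝒳.obj⦄, (z ⟶ x) → predOf T x → predOf T z := fun x z φ h => predOf_of_hom φ h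
  refine ⟨T, hT, ?_, ?_⟩
  · -- the chart of the open substack
    let jO : opensOver W O ⟶ W := opensι W O
    let x₀ : FibCat.overCat (opensOver W O) ⥤ᵇ 𝒳 := BasedFunctor.comp (AlgSt.overMap jO) w
    have hx₀ : ∀ a, predOf T (x₀.obj a) := by
      intro g
      rw [predOf_obj_iff h𝒳.isStack.1]
      rintro _ ⟨t, rfl⟩
      change Points.ofChart x₀ _ ∈ T
      rw [ofChart_overMap]
      exact ⟨_, (g.hom.left t).2, rfl⟩
    let x := subLift x₀ hx₀
    have hx₀' : AlgSt.RepByAlgSpWith (AlgSp.LocP @Smooth) x₀ :=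
      K743.Comp.locP_overMap_comp K597.etLoc_smooth jO (inferInstanceAs (Smooth O.ι)) w hw
    have hx : AlgSt.RepByAlgSpWith (AlgSp.LocP @Smooth) x := repByAlgSpWith_of_comp_incl _ x hx₀'
    refine ⟨opensOver W O, V, x, v, jO ≫ r, ?_, hx, ?_, hv, ?_⟩
    · exact (K735.Fib.whiskerLeftIso (AlgSt.overMap jO) e₀ :
        BasedFunctor.comp (AlgSt.overMap jO) (BasedFunctor.comp w f) ≅
        BasedFunctor.comp (AlgSt.overMap jO) (BasedFunctor.comp (AlgSt.overMap r) v)) ≪≫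
        (K735.Fib.whiskerRightIso (K743.Chart.overMapComp jO r) v :
        BasedFunctor.comp (BasedFunctor.comp (AlgSt.overMap jO) (AlgSt.overMap r)) v ≅ _)
    · rw [← K735.Top.repByAlgSpWith_surjective_iff (isFibGrpd_fullSub h𝒳.isStack.1 hhom) (isFibGrpd_overCat _)
        (repByAlgSp1_of_with hx)]
      intro q
      have hq : Points.map (AlgSt.subIncl 𝒳 (predOf T)) q ∈ T := hrange.subset ⟨q, rfl⟩
      obtain ⟨t, ht, htq⟩ := hq
      let t' : ↥(opensOver W O).left := ⟨t, ht⟩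
      refine ⟨K743.Pt.pt t', ?_⟩
      apply injective_map_subIncl h𝒳.isStack.1 hhom
      rw [← map_comp, ← htq]
      exact (ofChart_overMap jO w t' : Points.ofChart x₀ t' = _)
    · refine K743.Comp.locP_yon_map_of hP _ ?_
      rw [Over.comp_left]
      exact locus_prop P r.left
  · -- maximality
    intro Q' hQ'i hQ'o hf' a ha
    obtain ⟨U', V', x', y', h', α', hx', hx's, hy', hh'⟩ := hf'
    have hloc' := (hasLoci_iff (Q := Q') @IsOpenImmersion openImm_le_mono hQ'i).1 hQ'o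
    let z : FibCat.overCat U' ⥤ᵇ 𝒳 := BasedFunctor.comp x' (AlgSt.subIncl 𝒳 Q')
    have hz : AlgSt.RepByAlgSpWith (AlgSp.LocP @Smooth) z :=
      locP_comp_openImm K597.etLoc_smooth (fun _ _ f _ => inferInstance) x' _ hx' hQ'o
    have hy'' := K735.Rep.AlgSt_RepByAlgSpWith_mono (P := AlgSp.LocP @Smooth) (Q := AlgSp.LocP P)
      (fun _ _ _ h => K597.locP_mono (fun _ _ f hf => hPs f hf) h) hy'
    have hzf : AlgSt.RepByAlgSpWith (AlgSp.LocP P) (BasedFunctor.comp z f) :=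
      repByAlgSpWith_of_iso _ α'.symm (K743.Comp.locP_overMap_comp hP h' (AlgSp.locP_yon_map hh') y' hy'')
    obtain ⟨D, s', r', δ, hδ, ⟨δ₁⟩, ⟨δ₂⟩, hs', hr', hδs⟩ := K743.FpChart.exists_chart_fp K597.etLoc_smooth hsm
      h𝒳.isStack.1 h𝒴.isStack.1 f z hz v hv
    have hr'' : P r'.left := hr' P hzf
    obtain ⟨T₁, t₁, t₂, E, ⟨i⟩, ⟨j⟩, ht₁, ht₂, hE⟩ := K743.Comp.exists_chart₂ δ ω hω hδ
    have key : t₂ ≫ r = t₁ ≫ r' := by
      apply eq_of_overMap_iso
      exact (K743.Chart.overMapComp t₂ r).symm ≪≫ K735.Fib.whiskerLeftIso (AlgSt.overMap t₂) ω₁.symm ≪≫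
        (K735.Fib.whiskerRightIso j.symm (BasedFunctor.comp ω (FibCat.fpFst v f))) ≪≫
        (K735.Fib.whiskerRightIso (K735.Fib.whiskerLeftIso E (FibCat.fpIso δ ω).symm) (FibCat.fpFst v f) :
          BasedFunctor.comp (BasedFunctor.comp E (BasedFunctor.comp (FibCat.fpSnd δ ω) ω)) (FibCat.fpFst v f) ≅
          BasedFunctor.comp (BasedFunctor.comp E (BasedFunctor.comp (FibCat.fpFst δ ω) δ)) (FibCat.fpFst v f)) ≪≫
        (K735.Fib.whiskerRightIso i (BasedFunctor.comp δ (FibCat.fpFst v f))) ≪≫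
        K735.Fib.whiskerLeftIso (AlgSt.overMap t₁) δ₁ ≪≫ K743.Chart.overMapComp t₁ r'
    have hrange₂ : Set.range t₂.left ⊆ (O : Set W.left) := by
      have : Smooth t₂.left := ht₂
      refine range_subset_locus P t₂.left r.left hsrc ?_
      rw [← Over.comp_left, key, Over.comp_left]
      exact P.comp_mem _ _ (hPs _ ht₁) hr''
    -- points
    rw [iff_predOf_range h𝒳.isStack.1 hQ'i hloc'] at ha
    refine predOf_mono ?_ ha
    rintro _ ⟨q, rfl⟩
    have hfib' : FibCat.IsFibGrpd (AlgSt.fullSub 𝒳 Q').p :=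
      isFibGrpd_fullSub h𝒳.isStack.1 (fun x z φ h => HasLoci.of_hom h𝒳.isStack.1 hQ'i hloc' φ h)
    obtain ⟨q, rfl⟩ := K735.Top.surjective_of_repByAlgSpWith hfib' (isFibGrpd_overCat U') hx's q
    rw [← map_comp]
    change Points.map z q ∈ T
    obtain ⟨v', hv'⟩ := hvs' (Points.map f (Points.map z q))
    obtain ⟨m, hm1, hm2⟩ := exists_fp h𝒳.isStack.1 (isFibGrpd_overCat V) h𝒴.isStack.1 v f v' (Points.map z q) hv'
    obtain ⟨d, hd⟩ := hδs m ⟨q, hm2.symm⟩
    obtain ⟨w', hw'⟩ := hωs m (hus' _)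
    have hfp : FibCat.IsFibGrpd (FibCat.fp v f).p :=
      isFibGrpd_fp (isFibGrpd_overCat V) h𝒳.isStack.1 h𝒴.isStack.1 v f
    obtain ⟨n, hn1, hn2⟩ := exists_fp (isFibGrpd_overCat W) (isFibGrpd_overCat D) hfp δ ω d w' (hd.trans hw'.symm)
    obtain ⟨t, rfl⟩ := hE n
    obtain ⟨t, rfl⟩ : ∃ u', K743.Pt.pt u' = t := ⟨K743.Pt.toPt t, K743.Pt.pt_toPt t⟩
    rw [← map_comp, map_congr j, K743.Pt.map_overMap_pt] at hn2
    refine ⟨t₂.left t, hrange₂ ⟨t, rfl⟩, ?_⟩
    have h5 : Points.ofChart w (t₂.left t) = Points.map w (K743.Pt.pt (t₂.left t)) := rfl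
    rw [h5, hn2, map_comp, hw', hm2]

end Main

end K743.Locus
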