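import Groth.Agent.AlgSt.K743.StabQA
import Groth.Agent.AlgSt.K747.DiagRep
import Groth.Agent.AlgSt.K737.LocLift
import Groth.Agent.AlgSt.K734.Props
import Groth.Agent.S10537
import Groth.Agent.AlgSp.K608.Comp
import Groth.Agent.AlgSp.K595.DiagRel

/-!
# Quasi-affine diagonal in terms of a chart (S16858)

* `K743.DiagQA.isoP`: `Isom` over `T × U` is the fibre product of `x` and `z`.
* `K743.DiagQA.with_of_diag`: if the diagonal has `Q` and `U ⟶ S` has `Q` (after base change) then so has every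
  functor from a slice `(Sch/U)`.
* `K743.DiagQA.diag_of_locLift`: the converse, from local lifts to charts `z_i` with `Q`.
-/

set_option autoImplicit false
set_option backward.isDefEq.respectTransparency false
set_option backward.isDefEq.respectTransparency.types false
universe w v₂ u₂ v u

open CategoryTheory Opposite K734.Fib AlgebraicGeometry Limits K747 K747.Sc

namespace K743.DiagQA

variable {S : Scheme.{u}} {𝒳 : BasedCategory.{u, w} (Over S)} (h𝒳 : FibCat.IsFibGrpd 𝒳.p)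
variable {T U : Over S} (x : FibCat.overCat T ⥤ᵇ 𝒳) (z : FibCat.overCat U ⥤ᵇ 𝒳)

/-- `x` pulled back to the product -/
noncomputable abbrev xL : FibCat.overCat (T ⨯ U) ⥤ᵇ 𝒳 := BasedFunctor.comp (AlgSt.overMap (prod.fst : T ⨯ U ⟶ T)) x

/-- `z` pulled back to the product -/
noncomputable abbrev zR : FibCat.overCat (T ⨯ U) ⥤ᵇ 𝒳 := BasedFunctor.comp (AlgSt.overMap (prod.snd : T ⨯ U ⟶ U)) z

/-- a section of the Isom presheaf over the product as a section of the fibre product -/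
noncomputable def toP {V : Over S} (s : Sec (xL (U := U) x) (zR (T := T) z) V) : Sec x z V :=
  ⟨s.t ≫ prod.fst, s.u ≫ prod.snd, s.φ, s.over⟩

theorem toP_isRes {V V' : Over S} {g : V' ⟶ V} {s : Sec (xL (U := U) x) (zR (T := T) z) V}
    {s' : Sec (xL (U := U) x) (zR (T := T) z) V'} (h : IsRes g s s') : IsRes g (toP x z s) (toP x z s') :=
  ⟨by change g ≫ s.t ≫ _ = s'.t ≫ _; rw [← Category.assoc, h.ht],
    by change g ≫ s.u ≫ _ = s'.u ≫ _; rw [← Category.assoc, h.hu], h.hφ⟩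

/-- the morphism of presheaves from Isom over the product to the fibre product -/
noncomputable def homP : I h𝒳 (xL (U := U) x) (zR (T := T) z) ⟶ P h𝒳 x z where
  app V := ↾fun s => ⟨toP x z s.1.down⟩
  naturality V V' g := by
    ext s
    refine Eq.symm ((psh_map_eq_iff.{u+1} h𝒳).2 ?_)
    exact toP_isRes x z ((isoPsh_map_eq_iff h𝒳).1 rfl)

theorem homP_prTU : homP h𝒳 x z ≫ prTU h𝒳 x z = prI h𝒳 (xL (U := U) x) (zR (T := T) z) := by
  ext V s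
  obtain ⟨⟨⟨t, u, φ, hφ⟩⟩, h⟩ := s
  obtain rfl : t = u := h
  refine congrArg ULift.up ?_
  change prod.lift (t ≫ prod.fst) (t ≫ prod.snd) = t
  rw [← prod.comp_lift, prod.lift_fst_snd, Category.comp_id]

instance : IsIso (homP h𝒳 x z) := by
  rw [NatTrans.isIso_iff_isIso_app]
  intro V
  rw [isIso_iff_bijective]
  refine ⟨fun s s' h => ?_, fun s => ?_⟩
  · obtain ⟨⟨⟨t, u, φ, hφ⟩⟩, h1⟩ := s
    obtain rfl : t = u := h1
    obtain ⟨⟨⟨t', u', φ', hφ'⟩⟩, h2⟩ := s'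
    obtain rfl : t' = u' := h2
    have h3 : toP x z ⟨t, t, φ, hφ⟩ = toP x z ⟨t', t', φ', hφ'⟩ := congrArg ULift.down h
    have h4 : t ≫ prod.fst = t' ≫ prod.fst := congrArg Sec.t h3
    have h5 : t ≫ prod.snd = t' ≫ prod.snd := congrArg Sec.u h3
    obtain rfl : t = t' := by
      apply Limits.prod.hom_ext
      · exact h4
      · exact h5
    have h6 : φ = φ' := by
      simp only [toP] at h3
      injection h3
    subst h6
    rfl
  · obtain ⟨⟨t, u, φ, hφ⟩⟩ := s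
    obtain ⟨w, rfl, rfl⟩ : ∃ w : V.unop ⟶ T ⨯ U, w ≫ prod.fst = t ∧ w ≫ prod.snd = u :=
      ⟨prod.lift t u, prod.lift_fst _ _, prod.lift_snd _ _⟩
    exact ⟨⟨⟨⟨w, w, φ, hφ⟩⟩, rfl⟩, rfl⟩

theorem prTU_fst : prTU h𝒳 x z ≫ (AlgSp.pyon S).map prod.fst = prT h𝒳 x z := by
  ext V s
  refine congrArg ULift.up ?_
  change prod.lift s.down.t s.down.u ≫ prod.fst = s.down.t
  exact prod.lift_fst _ _

/-- **a functor from a slice has `Q` if the diagonal has `Q` and `U ⟶ S` has `Q` universally.** -/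
theorem with_of_diag (h𝒳 : FibCat.IsFibGrpd 𝒳.p) (Q : MorphismProperty (AlgSp.Sp S)) [Q.RespectsIso]
    [Q.IsStableUnderComposition]
    (hd : AlgSt.RepByAlgSpWith Q (FibCat.diag (FibCat.toSelf 𝒳)))
    (hU : ∀ T : Over S, Q ((AlgSp.yon S).map (prod.fst : T ⨯ U ⟶ T))) : AlgSt.RepByAlgSpWith Q z := by
  intro T x
  refine (Rep.with_iff Q _ (toFp_isEquivOver.{u + 1} h𝒳 x z)).2 ?_
  obtain ⟨h, hA, hQ⟩ := diag_with h𝒳 Q hd (xL (U := U) x) (zR (T := T) z)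
  have hP : Presheaf.IsSheaf (AlgSp.J S) (P h𝒳 x z) := (Presheaf.isSheaf_of_iso_iff (asIso (homP h𝒳 x z))).1 h
  let e : (⟨_, h⟩ : AlgSp.Sp S) ⟶ ⟨P h𝒳 x z, hP⟩ := ObjectProperty.homMk (homP h𝒳 x z)
  have he : IsIso e := by
    have : IsIso ((sheafToPresheaf (AlgSp.J S) _).map e) := inferInstanceAs (IsIso (homP h𝒳 x z))
    exact isIso_of_reflects_iso e (sheafToPresheaf (AlgSp.J S) _)
  refine ⟨hP, hA.of_iso (asIso e), ?_⟩
  have h0 := pMap_toFp_fst h𝒳 x z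
  rw [h0]
  have h1 : (ObjectProperty.homMk (prT h𝒳 x z) : (⟨P h𝒳 x z, hP⟩ : AlgSp.Sp S) ⟶ (AlgSp.yon S).obj T) =
      inv e ≫ prI' h𝒳 _ _ h ≫ (AlgSp.yon S).map prod.fst := by
    rw [IsIso.eq_inv_comp]
    apply ObjectProperty.hom_ext
    change homP h𝒳 x z ≫ prT h𝒳 x z = prI h𝒳 _ _ ≫ (AlgSp.pyon S).map prod.fst
    rw [← homP_prTU, Category.assoc, prTU_fst]
  rw [h1, Q.cancel_left_of_respectsIso]
  exact Q.comp_mem _ _ hQ (hU T)

/-- the section of `P` as a map from `h_V` -/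
noncomputable def secMap {V : Over S} {x : FibCat.overCat T ⥤ᵇ 𝒳} {z : FibCat.overCat U ⥤ᵇ 𝒳}
    (s : Sec x z V) : (AlgSp.pyon S).obj V ⟶ P h𝒳 x z where
  app W := ↾fun g => ⟨res h𝒳 g.down s⟩
  naturality W W' g := by
    ext k
    refine Eq.symm ((psh_map_eq_iff.{u+1} h𝒳).2 ?_)
    have h1 := isRes_res h𝒳 k.down s
    have h2 := isRes_res h𝒳 (g.unop ≫ k.down) s
    have h3 := h1.comp (isRes_res h𝒳 g.unop (res h𝒳 k.down s))
    have h4 := h2.unique h𝒳 h3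
    change IsRes g.unop (res h𝒳 k.down s) (res h𝒳 (g.unop ≫ k.down) s)
    rw [h4]
    exact isRes_res h𝒳 g.unop (res h𝒳 k.down s)

theorem secMap_prT {V : Over S} {x : FibCat.overCat T ⥤ᵇ 𝒳} {z : FibCat.overCat U ⥤ᵇ 𝒳}
    (s : Sec x z V) : secMap h𝒳 s ≫ prT h𝒳 x z = (AlgSp.pyon S).map s.t := by
  ext W g
  exact congrArg ULift.up (isRes_res h𝒳 g.down s).ht.symm

theorem secMap_prTU {V : Over S} {x : FibCat.overCat T ⥤ᵇ 𝒳} {z : FibCat.overCat U ⥤ᵇ 𝒳}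
    (s : Sec x z V) : secMap h𝒳 s ≫ prTU h𝒳 x z = (AlgSp.pyon S).map (prod.lift s.t s.u) := by
  ext W g
  refine congrArg ULift.up ?_
  change prod.lift (res h𝒳 g.down s).t (res h𝒳 g.down s).u = g.down ≫ prod.lift s.t s.u
  rw [prod.comp_lift, (isRes_res h𝒳 g.down s).ht, (isRes_res h𝒳 g.down s).hu]

/-- **the diagonal has `Q` if, locally, the second of two objects lifts to charts `z` with `Q`.** -/
theorem diag_of_family (h𝒳 : FibCat.IsFibGrpd 𝒳.p) (hd : AlgSt.RepByAlgSp1 (FibCat.diag (FibCat.toSelf 𝒳)))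
    {Q : MorphismProperty (AlgSp.Sp S)} [Q.IsStableUnderBaseChange] (hloc : AlgSp.IsLocalOnBase AlgSp.IsFppfCover Q)
    (H : ∀ (T : Over S) (x₁ x₂ : FibCat.overCat T ⥤ᵇ 𝒳), ∃ (ι : Type u) (V : ι → Over S) (U : ι → Over S)
      (z : ∀ i, FibCat.overCat (U i) ⥤ᵇ 𝒳) (s : ∀ i, Sec x₂ (z i) (V i)),
      AlgSp.IsFppfCover (fun i => (AlgSp.yon S).obj (V i)) (fun i => (AlgSp.yon S).map (s i).t) ∧
      ∀ i, ∃ h : Presheaf.IsSheaf (AlgSp.J S) (P h𝒳 x₁ (z i)),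
        Q (ObjectProperty.homMk (prTU h𝒳 x₁ (z i)) : (⟨P h𝒳 x₁ (z i), h⟩ : AlgSp.Sp S) ⟶ (AlgSp.yon S).obj (T ⨯ U i))) :
    AlgSt.RepByAlgSpWith Q (FibCat.diag (FibCat.toSelf 𝒳)) := by
  intro T y
  refine (Rep.with_iff Q _ (toDiag_isEquivOver.{u + 1} h𝒳 y)).2 ?_
  obtain ⟨hI, hA⟩ := (Rep.repByAlgSp_iff (toDiag_isEquivOver.{u + 1} h𝒳 y)).1 (hd T y)
  refine ⟨hI, hA, ?_⟩
  obtain ⟨ι, V, U, z, s, hcov, hz⟩ := H T (y1 y) (y2 y)
  have key : ∀ i, ∃ (Qi : AlgSp.Sp S) (q : Qi ⟶ (⟨I h𝒳 (y1 y) (y2 y), hI⟩ : AlgSp.Sp S)) (p : Qi ⟶ (AlgSp.yon S).obj (V i)),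
      IsPullback q p (prI' h𝒳 (y1 y) (y2 y) hI) ((AlgSp.yon S).map (s i).t) ∧ Q p := by
    intro i
    obtain ⟨h1, hQ⟩ := hz i
    have sq := IsPullback.of_hasPullback (prI h𝒳 (y1 y) (y2 y)) (prT h𝒳 (y2 y) (z i))
    have sq2 := isPullback_mul sq
    have sq3 := IsPullback.of_hasPullback (pullback.snd (prI h𝒳 (y1 y) (y2 y)) (prT h𝒳 (y2 y) (z i)))
      (secMap h𝒳 (s i))
    have sq4 := sq3.paste_horiz sq
    have sq5 := sq3.paste_horiz sq2
    rw [secMap_prT] at sq4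
    rw [secMap_prTU] at sq5
    have hQ' : Presheaf.IsSheaf (AlgSp.J S) (pullback (pullback.snd (prI h𝒳 (y1 y) (y2 y)) (prT h𝒳 (y2 y) (z i)))
        (secMap h𝒳 (s i))) :=
      AlgSp.isSheaf_of_isPullback (F := ⟨_, hI⟩) (G := (AlgSp.yon S).obj T) (H := (AlgSp.yon S).obj (V i)) sq4
    refine ⟨⟨_, hQ'⟩, ObjectProperty.homMk (pullback.fst _ _ ≫ pullback.fst _ _), ObjectProperty.homMk (pullback.snd _ _),
      IsPullback.of_map_of_faithful (sheafToPresheaf (AlgSp.J S) (Type (u + 1))) sq4, ?_⟩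
    have sq5' : IsPullback (ObjectProperty.homMk (pullback.fst _ _ ≫ mul sq) : (⟨_, hQ'⟩ : AlgSp.Sp S) ⟶ ⟨_, h1⟩)
        (ObjectProperty.homMk (pullback.snd _ _) : (⟨_, hQ'⟩ : AlgSp.Sp S) ⟶ (AlgSp.yon S).obj (V i))
        (ObjectProperty.homMk (prTU h𝒳 (y1 y) (z i)) : (⟨_, h1⟩ : AlgSp.Sp S) ⟶ (AlgSp.yon S).obj (T ⨯ U i))
        ((AlgSp.yon S).map (prod.lift (s i).t (s i).u)) :=
      IsPullback.of_map_of_faithful (sheafToPresheaf (AlgSp.J S) (Type (u + 1))) sq5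
    exact MorphismProperty.of_isPullback sq5' hQ
  choose Qi q p sqi hQi using key
  have hAi : ∀ i, AlgSp.IsAlgSpace (Qi i) := fun i =>
    K608.Comp.isAlgSpace_of_isPullback (sqi i) hA (AlgSp.IsAlgSpace.yon_obj _) (AlgSp.IsAlgSpace.yon_obj _)
  exact (hloc _ _ (AlgSp.IsAlgSpace.yon_obj T) (fun i => AlgSp.IsAlgSpace.yon_obj (V i)) hcov
    (prI' h𝒳 (y1 y) (y2 y) hI) hA Qi p q hAi sqi).2 hQi

open Groth.Agent.Ega2.QuasiAffine in
instance : (AlgSp.IsQuasiAffineMor : MorphismProperty (AlgSp.Sp S)).HasOfPostcompProperty AlgSp.IsSeparatedMor := by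
  refine MorphismProperty.hasOfPostcompProperty_iff_le_diagonal.mpr ?_
  intro F G f hf
  change AlgSp.IsQuasiAffineMor (pullback.diagonal f)
  rw [StabQA.isQuasiAffineMor_eq]
  have hf' : AlgSp.RepWith @IsClosedImmersion (pullback.diagonal f) := hf
  refine ⟨hf'.1, fun {a b} g fst snd sq => ?_⟩
  have : IsClosedImmersion snd.left := hf'.2 g fst snd sq
  exact qaff_of_isImmersion snd.left

/-- a family of flat morphisms locally of finite presentation, jointly surjective, is an fppf covering -/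
theorem isFppfCover_family {ι : Type u} {T : Over S} {V : ι → Over S} (g : ∀ i, V i ⟶ T) (h1 : ∀ i, Flat (g i).left)
    (h2 : ∀ i, LocallyOfFinitePresentation (g i).left) (h3 : ∀ t : T.left, ∃ i v, (g i).left v = t) :
    AlgSp.IsFppfCover (fun i => (AlgSp.yon S).obj (V i)) (fun i => (AlgSp.yon S).map (g i)) := by
  refine ⟨fun i => ⟨?_, ?_⟩, ?_⟩
  · exact K597.locP_of_repWith K597.etLoc_flat.precomp ((AlgSp.repWith_yon_map_iff @Flat (g i)).2 (h1 i))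
  · exact K597.locP_of_repWith K597.etLoc_lfp.precomp
      ((AlgSp.repWith_yon_map_iff @LocallyOfFinitePresentation (g i)).2 (h2 i))
  · intro x
    obtain ⟨w, rfl⟩ := K609.Points.ofScheme_surjective T x
    obtain ⟨i, t, ht⟩ := h3 w
    refine ⟨i, AlgSp.Points.ofScheme (V i) t, ?_⟩
    exact (K609.Points.map_yon_map_ofScheme (g i) t).trans (by rw [ht])

theorem exists_sec_of {T U U' W V : Over S} {x₂ : FibCat.overCat T ⥤ᵇ 𝒳} {x : FibCat.overCat U ⥤ᵇ 𝒳}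
    (h𝒳 : FibCat.IsFibGrpd 𝒳.p) (s₀ : Sec x₂ x W) (j : V ⟶ W) (b' : V ⟶ U') (k : U' ⟶ U) (hb : b' ≫ k = j ≫ s₀.u) :
    ∃ s : Sec x₂ (BasedFunctor.comp (AlgSt.overMap k) x) V, s.t = j ≫ s₀.t := by
  have hr := isRes_res h𝒳 j s₀
  have ht := hr.ht
  have hu := hr.hu
  rw [← hb] at hu
  generalize res h𝒳 j s₀ = r at ht hu
  obtain ⟨t, u, φ, h⟩ := r
  dsimp only at ht hu
  subst hu
  exact ⟨⟨t, b', φ, h⟩, ht.symm⟩

theorem isPullback_left (T U : Over S) :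
    IsPullback (prod.fst : T ⨯ U ⟶ T).left (prod.snd : T ⨯ U ⟶ U).left T.hom U.hom :=
  Over.isPullback_of_binaryFan_isLimit (BinaryFan.mk prod.fst prod.snd) (prodIsProd T U)

end K743.DiagQA

namespace K743.DiagQA

variable {S : Scheme.{u}} [IsAffine S] {𝒳 : AlgSt.Cat S} (h𝒳 : AlgSt.IsAlgStack Scheme.fppfPrecoverage 𝒳)

include h𝒳

theorem main_mp (h : AlgSt.RepByAlgSpWith AlgSp.IsQuasiAffineMor (FibCat.diag (FibCat.toSelf 𝒳))) :
    ∃ (U : Over S) (x : FibCat.overCat U ⥤ᵇ 𝒳),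
        AlgSt.RepByAlgSpWith (AlgSp.LocP @Smooth) x ∧ AlgSt.RepByAlgSpWith AlgSp.IsSurjectiveMor x ∧
          ∀ (V : U.left.Opens), IsAffineOpen V →
            AlgSt.RepByAlgSpWith AlgSp.IsQuasiAffineMor
              (BasedFunctor.comp (AlgSt.overMap (Over.homMk V.ι rfl : Over.mk (V.ι ≫ U.hom) ⟶ U)) x) := by
  obtain ⟨U, x, h1, h2⟩ := h𝒳.atlas
  refine ⟨U, x, h1, h2, fun V hV => ?_⟩
  refine with_of_diag _ h𝒳.isStack.1 AlgSp.IsQuasiAffineMor h fun T => ?_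
  have hV' : IsAffine (V : Scheme.{u}) := hV
  have h3 : IsAffineHom (V.ι ≫ U.hom) := inferInstance
  have h4 : IsAffineHom (prod.fst : T ⨯ Over.mk (V.ι ≫ U.hom) ⟶ T).left :=
    MorphismProperty.of_isPullback (isPullback_left T (Over.mk (V.ι ≫ U.hom))).flip h3
  rw [StabQA.isQuasiAffineMor_eq, AlgSp.repWith_yon_map_iff]
  refine ⟨inferInstance, fun W hW => ?_⟩
  have : IsAffine _ := hW.preimage (prod.fst : T ⨯ Over.mk (V.ι ≫ U.hom) ⟶ T).left
  infer_instance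

theorem main_mpr (U : Over S) (x : FibCat.overCat U ⥤ᵇ 𝒳)
    (hx1 : AlgSt.RepByAlgSpWith (AlgSp.LocP @Smooth) x) (hx2 : AlgSt.RepByAlgSpWith AlgSp.IsSurjectiveMor x)
    (hx : ∀ (V : U.left.Opens), IsAffineOpen V →
            AlgSt.RepByAlgSpWith AlgSp.IsQuasiAffineMor
              (BasedFunctor.comp (AlgSt.overMap (Over.homMk V.ι rfl : Over.mk (V.ι ≫ U.hom) ⟶ U)) x)) :
    AlgSt.RepByAlgSpWith AlgSp.IsQuasiAffineMor (FibCat.diag (FibCat.toSelf 𝒳)) := by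
  have hg : FibCat.IsFibGrpd 𝒳.p := h𝒳.isStack.1
  refine diag_of_family hg h𝒳.diag (K734.Rep.isLocalOnBase_of_fpqc (Groth.Agent.S10537.result S)) ?_
  intro T x₁ x₂
  obtain ⟨W, a, b, ha, ha', ε, hε⟩ := K737.LocLift.exists_lift x₂ x hx1 hx2
  let s₀ : Sec x₂ x W := ⟨a, b, ε.hom, K735.Fib.Vert.isHomLift hε (p_obj x₂ a)⟩
  let V : U.left.affineOpens → Over S := fun i => Over.mk ((b.left ⁻¹ᵁ i.1).ι ≫ W.hom)
  let j : ∀ i, V i ⟶ W := fun i => Over.homMk (b.left ⁻¹ᵁ i.1).ι rfl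
  have key : ∀ i : U.left.affineOpens, ∃ s : Sec x₂ (BasedFunctor.comp (AlgSt.overMap
      (Over.homMk i.1.ι rfl : Over.mk (i.1.ι ≫ U.hom) ⟶ U)) x) (V i), s.t = j i ≫ a := by
    intro i
    have hb : b.left.resLE i.1 (b.left ⁻¹ᵁ i.1) le_rfl ≫ i.1.ι = (b.left ⁻¹ᵁ i.1).ι ≫ b.left := Scheme.Hom.resLE_comp_ι _ _
    let b' : V i ⟶ Over.mk (i.1.ι ≫ U.hom) := Over.homMk (b.left.resLE i.1 (b.left ⁻¹ᵁ i.1) le_rfl) (by
      change b.left.resLE i.1 (b.left ⁻¹ᵁ i.1) le_rfl ≫ i.1.ι ≫ U.hom = (b.left ⁻¹ᵁ i.1).ι ≫ W.hom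
      rw [← Category.assoc, hb, Category.assoc, Over.w b])
    refine exists_sec_of hg s₀ (j i) b' _ ?_
    apply Over.OverMorphism.ext
    exact hb
  choose s hs using key
  refine ⟨U.left.affineOpens, V, fun i => Over.mk (i.1.ι ≫ U.hom), _, s, ?_, fun i => ?_⟩
  · apply isFppfCover_family
    · intro i
      rw [hs, Over.comp_left]
      have : IsOpenImmersion (j i).left := inferInstanceAs (IsOpenImmersion (b.left ⁻¹ᵁ i.1).ι)
      infer_instance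
    · intro i
      rw [hs, Over.comp_left]
      have : IsOpenImmersion (j i).left := inferInstanceAs (IsOpenImmersion (b.left ⁻¹ᵁ i.1).ι)
      infer_instance
    · intro t
      obtain ⟨w, rfl⟩ := ha'.surj t
      obtain ⟨_, ⟨i, hi, rfl⟩, hwi, -⟩ := U.left.isBasis_affineOpens.exists_subset_of_mem_open (Set.mem_univ (b.left w)) isOpen_univ
      refine ⟨⟨i, hi⟩, ⟨w, hwi⟩, ?_⟩
      rw [hs, Over.comp_left]
      rfl
  · obtain ⟨h1, hA, hQ⟩ := repByAlgSpWith_psh (x := x₁) hg _ (hx i.1 i.2)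
    refine ⟨h1, ?_⟩
    have hi' : IsAffine (i.1 : Scheme.{u}) := i.2
    have h3 : IsAffineHom (i.1.ι ≫ U.hom) := inferInstance
    have h4 : IsAffineHom (prod.fst : T ⨯ Over.mk (i.1.ι ≫ U.hom) ⟶ T).left :=
      MorphismProperty.of_isPullback (isPullback_left T (Over.mk (i.1.ι ≫ U.hom))).flip h3
    have h5 : AlgSp.IsSeparatedMor ((AlgSp.yon S).map (prod.fst : T ⨯ Over.mk (i.1.ι ≫ U.hom) ⟶ T)) :=
      (AlgSp.isSeparatedMor_yon_map_iff _).2 inferInstance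
    refine MorphismProperty.of_postcomp _ (W' := AlgSp.IsSeparatedMor) _ _ h5 ?_
    have h6 : (ObjectProperty.homMk (prTU hg x₁ (BasedFunctor.comp (AlgSt.overMap
      (Over.homMk i.1.ι rfl : Over.mk (i.1.ι ≫ U.hom) ⟶ U)) x)) : (⟨_, h1⟩ : AlgSp.Sp S) ⟶ (AlgSp.yon S).obj _) ≫
        (AlgSp.yon S).map prod.fst = ObjectProperty.homMk (prT hg x₁ _) := by
      apply ObjectProperty.hom_ext
      exact prTU_fst hg x₁ _
    rw [h6]
    exact hQ

end K743.DiagQA
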