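import Groth.Agent.AlgSt.K746.Sec
import Groth.Agent.AlgSt.K734.FibFp
import Groth.Agent.AlgSt.K735.Fp

/-!
# Bijectivity on geometric points is stable under base change

`geomPtBij_fpFst`: if `π : 𝒳 ⥤ᵇ ofSp M` is bijective on isomorphism classes of geometric points, so is every base change
`fpFst (ofSpMap g) π`.
-/

set_option autoImplicit false
set_option backward.isDefEq.respectTransparency false
set_option backward.isDefEq.respectTransparency.types false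

universe w v u

open CategoryTheory CategoryTheory.Limits AlgebraicGeometry Opposite
open K734.Fib

namespace K743.GeomBC

variable {S : Scheme.{u}} {𝒳 : BasedCategory.{v, w} (Over S)} {M M' : AlgSp.Sp S}

theorem geomPtBij_fpFst (h𝒳 : FibCat.IsFibGrpd 𝒳.p) {π : 𝒳 ⥤ᵇ AlgSt.ofSp M} (h : AlgSt.GeomPtBij π) (g : M' ⟶ M) :
    AlgSt.GeomPtBij (FibCat.fpFst (AlgSt.ofSpMap g) π) := by
  intro Ω _ _ t
  obtain ⟨h1, h2⟩ := h Ω t
  constructor
  · intro m
    obtain ⟨x, hx⟩ := h1 (g.hom.app _ m)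
    rw [K746.fibSec_eq_iff] at hx
    have e : (AlgSt.ofSpMap g).obj ⟨Over.mk t, m⟩ = π.obj x.1 := hx.symm
    let z : (FibCat.fp (AlgSt.ofSpMap g) π).obj := mkObj (F := AlgSt.ofSpMap g) (G := π) ⟨Over.mk t, m⟩ x.1 (eqToIso e)
      (by rw [eqToIso.hom]; exact IsVert.eqToHom e)
    refine ⟨⟨z, rfl⟩, ?_⟩
    rw [K746.fibSec_eq_iff]
    rfl
  · intro x y hxy
    rw [K746.fibSec_eq_iff] at hxy
    have hy' := (K746.fibSec_eq_iff (FibCat.fpFst (AlgSt.ofSpMap g) π) y _).1 rfl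
    have hfst : x.1.obj.fst = y.1.obj.fst := hxy.trans hy'.symm
    have hbx : 𝒳.p.obj x.1.obj.snd = Over.mk t :=
      ((FibCat.fpSnd (AlgSt.ofSpMap g) π).w_obj x.1).trans x.2
    have hby : 𝒳.p.obj y.1.obj.snd = Over.mk t :=
      ((FibCat.fpSnd (AlgSt.ofSpMap g) π).w_obj y.1).trans y.2
    have ex : (AlgSt.ofSpMap g).obj x.1.obj.fst = π.obj x.1.obj.snd := eq_of_vert (iso_vert x.1)
    have ey : (AlgSt.ofSpMap g).obj y.1.obj.fst = π.obj y.1.obj.snd := eq_of_vert (iso_vert y.1)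
    obtain ⟨e⟩ := h2 ⟨x.1.obj.snd, hbx⟩ ⟨y.1.obj.snd, hby⟩ (by
      rw [K746.fibSec_eq_iff]
      change π.obj x.1.obj.snd = _
      rw [← ex, hfst, ey]
      exact (K746.fibSec_eq_iff π ⟨y.1.obj.snd, hby⟩ _).1 rfl)
    obtain ⟨φ, hφ⟩ := K746.exists_vert_of_fiberIso e
    have hφ' : IsVert 𝒳 (a := x.1.obj.snd) (b := y.1.obj.snd) φ := hφ
    have hve : IsVert (AlgSt.ofSp M') (eqToHom hfst) := IsVert.eqToHom hfst
    let m : x.1 ⟶ y.1 := mkHomFp (F := AlgSt.ofSpMap g) (G := π) (eqToHom hfst) φ (by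
      refine Stk.EltObj.hom_ext ?_
      have k1 := ((hve.map (AlgSt.ofSpMap g)).comp (iso_vert y.1))
      have k2 := ((iso_vert x.1).comp (hφ'.map π))
      exact (isVert_iff.1 k1).2.trans (isVert_iff.1 k2).2.symm)
    exact K746.nonempty_fiberIso (K735.Fp.isFibGrpd_fp (isFibGrpd_ofPsh' _) h𝒳 (isFibGrpd_ofPsh' _) _ _) m
      (vert_fp_iff_snd.2 hφ')

end K743.GeomBC
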