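import Groth.Prelude.Def_StCoarse
import Groth.Agent.S10649
import Groth.Agent.S12946
import Groth.Agent.AlgSp.K596.QC2
import Groth.Agent.AlgSt.K743.GeomBC
import Groth.Agent.AlgSt.K743.FlatCover
import Groth.Agent.AlgSt.K747.EtFppf2
import Groth.Agent.AlgSt.K740.Inertia
import Groth.Agent.AlgSt.K740.SpDM
import Groth.Agent.AlgSt.K742.EvQ
import Groth.Agent.AlgSt.K741.OfSp

/-!
# Coarse moduli spaces of separated Deligne-Mumford stacks, from the Keel-Mori theorem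

* `finite_diag`, `finite_inertia`: a separated DM morphism has finite diagonal and finite inertia.
* `iso_of_T0`, `exists_toT0`: functors to the terminal sheaf; the equivalence of the base with its category.
* `main`: S16818 from S16692, S16693, S16695, S16706, S16822, S10104.
-/

set_option autoImplicit false
set_option backward.isDefEq.respectTransparency false
set_option backward.isDefEq.respectTransparency.types false
universe w v u

open CategoryTheory CategoryTheory.Limits AlgebraicGeometry Opposite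

namespace K743.KM818

variable {S : Scheme.{u}}

theorem isFiniteMor_of {F : AlgSp.Sp S} (hF : AlgSp.IsAlgSpace F) {U : Over S} {f : F ⟶ (AlgSp.yon S).obj U}
    (h : AlgSp.IsProperMor f) (h' : AlgSp.LocP (@LocallyOfFiniteType ⊓ @FormallyUnramified) f) : AlgSp.IsFiniteMor f := by
  have h1 : AlgSp.LocP (@LocallyQuasiFinite ⊓ @LocallyOfFiniteType) f := fun _ _ a b h ha hb hw => by
    obtain ⟨h1, h2⟩ := h' a b h ha hb hw
    exact (show (@LocallyQuasiFinite ⊓ @LocallyOfFiniteType) h.left from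
      ⟨Groth.Agent.Desc.LQF.of_unramified h.left, h1⟩)
  have h2 := Groth.Agent.S10649.result (X := ⟨F, hF⟩) (Y := ⟨_, AlgSp.IsAlgSpace.yon_obj U⟩)
    (ObjectProperty.homMk f)
  have h3 : (AlgSp.IsProperMor f ∧ AlgSp.LocP (@LocallyQuasiFinite ⊓ @LocallyOfFiniteType) f) ↔ AlgSp.IsFiniteMor f :=
    h2.out 1 0
  exact h3.1 ⟨h, h1⟩

theorem finite_diag {𝒳 𝒴 : AlgSt.Cat S} {f : 𝒳 ⥤ᵇ 𝒴} (h : AlgSt.IsSeparatedMor f) (h' : AlgSt.IsDMMor f) :
    AlgSt.RepByAlgSpWith AlgSp.IsFiniteMor (FibCat.diag f) := by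
  intro U y
  obtain ⟨F, e, he, hP⟩ := h U y
  have := K735.Top.locP_respectsIso (S := S) (@LocallyOfFiniteType ⊓ @FormallyUnramified)
  refine ⟨F, e, he, isFiniteMor_of F.property hP ?_⟩
  exact (K735.Rep.RepOver.of_rep (P := AlgSp.LocP (@LocallyOfFiniteType ⊓ @FormallyUnramified)) (h' U y) e he).2

theorem finite_inertia {𝒳 𝒴 : AlgSt.Cat S} {f : 𝒳 ⥤ᵇ 𝒴} (h : AlgSt.IsSeparatedMor f) (h' : AlgSt.IsDMMor f) :
    AlgSt.RepByAlgSpWith AlgSp.IsFiniteMor (FibCat.inertiaToBase f) :=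
  K740.Inertia.repByAlgSpWith_inertiaToBase f (finite_diag h h')

/-- the terminal sheaf -/
abbrev T0 (S : Scheme.{u}) : AlgSp.Sp S := (AlgSp.yon S).obj (Over.mk (𝟙 S))

instance (T : Over S) : Subsingleton ((T0 S).obj.obj (op T)) :=
  ⟨fun a b => ULift.ext _ _ (Over.mkIdTerminal.hom_ext a.down b.down)⟩

theorem iso_of_T0 {𝒳 : BasedCategory.{v, w} (Over S)} (Φ Ψ : 𝒳 ⥤ᵇ AlgSt.ofSp (T0 S)) : Nonempty (Φ ≅ Ψ) := by
  rw [K746.nonempty_iso_ofPsh_iff]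
  intro z
  have h1 := K734.Fib.secOf_spec Φ z rfl
  have h2 := K734.Fib.secOf_spec Ψ z rfl
  rw [h1, h2, Subsingleton.elim (K734.Fib.secOf Φ z rfl) (K734.Fib.secOf Ψ z rfl)]

theorem exists_toT0 (S : Scheme.{u}) : ∃ l : FibCat.selfOver (Over S) ⥤ᵇ AlgSt.ofSp (T0 S), FibCat.IsEquivOver l := by
  obtain ⟨l, hl, -⟩ := K734.Fib.exists_inverse (K734.Fib.isEquivOver_comp
    (K735.Rep.isEquivOver_toOverCat (Over.mk (𝟙 S)))
    (K740.DiagRep.isEquivOver_toSelf_overCat (T := Over.mk (𝟙 S)) Over.mkIdTerminal))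
  exact ⟨l, hl⟩


/-- S16818 from the Keel-Mori rows S16692, S16693, S16695, S16706, the comparison S16822 and the bootstrap S10104. -/
theorem main [IsAffine S] [IsNoetherian S] (𝒳 : AlgSt.Cat S) (hb : K747.EtFppf.Boot2 S)
    (h822 : AlgSt.IsDM Scheme.etalePrecoverage 𝒳 → AlgSt.IsDMOver 𝒳)
    (h692 : AlgSt.IsAlgStack Scheme.fppfPrecoverage 𝒳 →
      AlgSt.RepByAlgSpWith AlgSp.IsFiniteMor (FibCat.inertiaToBase (FibCat.toSelf 𝒳)) →
      ∃ (M : AlgSp.Sp S) (π : 𝒳 ⥤ᵇ AlgSt.ofSp M), AlgSt.IsUnifCatModuli π ∧ AlgSt.IsSeparatedMor π ∧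
        AlgSt.IsQuasiCompactMor Scheme.fppfPrecoverage π ∧ AlgSt.IsUnivHomeo Scheme.fppfPrecoverage π)
    (h693 : AlgSt.RepByAlgSpWith AlgSp.IsFiniteMor (FibCat.inertiaToBase (FibCat.toSelf 𝒳)) →
      ∀ (Y : AlgSp.Sp S), AlgSp.IsAlgSpace Y → AlgSp.IsLocNoethSp Y →
      ∀ (p : 𝒳 ⥤ᵇ AlgSt.ofSp Y), AlgSt.LocQ (AlgSp.LocP @LocallyOfFiniteType) p →
      ∀ (M : AlgSp.Sp S) (π : 𝒳 ⥤ᵇ AlgSt.ofSp M), AlgSt.IsCatModuli π →
      ∀ (g : M ⟶ Y), Nonempty (BasedFunctor.comp π (AlgSt.ofSpMap g) ≅ p) → AlgSp.LocP @LocallyOfFiniteType g)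
    (h695 : AlgSt.RepByAlgSpWith AlgSp.IsFiniteMor (FibCat.inertiaToBase (FibCat.toSelf 𝒳)) →
      ∀ (M : AlgSp.Sp S) (π : 𝒳 ⥤ᵇ AlgSt.ofSp M), AlgSt.IsCatModuli π → AlgSt.IsSeparatedOver 𝒳 →
      AlgSp.IsSeparatedSp M)
    (h706 : AlgSt.RepByAlgSpWith AlgSp.IsFiniteMor (FibCat.inertiaToBase (FibCat.toSelf 𝒳)) →
      ∀ (M : AlgSp.Sp S) (π : 𝒳 ⥤ᵇ AlgSt.ofSp M), AlgSt.IsCatModuli π → AlgSt.GeomPtBij π)
    (h𝒳 : AlgSt.IsDM Scheme.etalePrecoverage 𝒳)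
    (hsep : AlgSt.IsSeparatedOver 𝒳) (hft : AlgSt.LocQ (AlgSp.LocP @LocallyOfFiniteType) (FibCat.toSelf 𝒳))
    (hqc : AlgSt.IsQuasiCompact 𝒳) :
    ∃ (M : AlgSp.Sp S) (π : 𝒳 ⥤ᵇ AlgSt.ofSp M), AlgSt.IsCoarseModuli π ∧
      AlgSp.IsSeparatedSp M ∧
      (∀ q : M ⟶ (AlgSp.yon S).obj (Over.mk (𝟙 S)), AlgSp.IsFiniteTypeMor q) ∧
      AlgSt.IsSeparatedMor π ∧ AlgSt.LocQ (AlgSp.LocP @LocallyOfFiniteType) π ∧
      AlgSt.IsUnivHomeo Scheme.etalePrecoverage π ∧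
      ∀ (M' : AlgSp.Sp S), AlgSp.IsAlgSpace M' → ∀ g : M' ⟶ M, AlgSp.LocP @Flat g →
        AlgSt.IsCoarseModuli (FibCat.fpFst (AlgSt.ofSpMap g) π) := by
  have hX := (K747.EtFppf.isAlgStack_iff hb).1 h𝒳.1
  have hDM := h822 h𝒳
  have hI := finite_inertia hsep hDM
  obtain ⟨M, π, hπ, hπs, hπq, hπh⟩ := h692 hX hI
  have hM : AlgSp.IsAlgSpace M := hπ.1.1
  have hg := h706 hI M π hπ.1
  -- the structure morphism
  obtain ⟨l, hl⟩ := exists_toT0 S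
  have hY : AlgSp.IsAlgSpace (T0 S) := AlgSp.IsAlgSpace.yon_obj _
  have hSS : AlgSt.IsAlgStack Scheme.fppfPrecoverage (FibCat.selfOver (Over S)) :=
    K740.SpDM.isAlgStack_of_repByAlgSp (K740.DiagRep.repByAlgSp_selfOver S)
  have hYS : AlgSt.IsAlgStack Scheme.fppfPrecoverage (AlgSt.ofSp (T0 S)) := K740.SpDM.isAlgStack_ofSp hY
  have hMS : AlgSt.IsAlgStack Scheme.fppfPrecoverage (AlgSt.ofSp M) := K740.SpDM.isAlgStack_ofSp hM
  have hre := K735.Top.locP_respectsIso (S := S) @LocallyOfFiniteType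
  have hl' : AlgSt.RepByAlgSpWith (AlgSp.LocP @LocallyOfFiniteType) l :=
    (K740.SpDM.repByAlgSpWith_comp_equiv (x := BasedFunctor.id _) hl).2 (K741.repByAlgSpWith_id _ fun U =>
      ((K742.nice_lft.yon_iff (𝟙 U)).2 (by change LocallyOfFiniteType (𝟙 _); infer_instance) :
        AlgSp.LocP _ ((AlgSp.yon S).map (𝟙 U))))
  have hp : AlgSt.LocQ (AlgSp.LocP @LocallyOfFiniteType) (BasedFunctor.comp (FibCat.toSelf 𝒳) l) :=
    K742.EvQ.locQ_comp K742.nice_lft hX.isStack.1 hSS.isStack.1 hYS.isStack.1 hX.atlas hSS.atlas hYS.atlas _ _ hft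
      (K742.EvQ.locQ_of_rep K742.nice_lft hSS.isStack.1 hYS.isStack.1 hSS.atlas hYS.atlas l hl')
  have hlft : ∀ q : M ⟶ T0 S, AlgSp.LocP @LocallyOfFiniteType q := fun q =>
    h693 hI (T0 S) hY ⟨Over.mk (𝟙 S), 𝟙 _, AlgSp.repWith_id _ _, AlgSp.repWith_id _ _, inferInstanceAs (IsLocallyNoetherian S)⟩ _ hp M π hπ.1 q (iso_of_T0 _ _)
  refine ⟨M, π, ⟨hπ.1, hg⟩, h695 hI M π hπ.1 hsep, fun q => ⟨hlft q, ?_⟩, hπs, ?_, ?_, ?_⟩
  · obtain ⟨U, x, hU, hx, hxs⟩ := hqc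
    obtain ⟨i⟩ := K735.SpFp.exists_iso_chart (BasedFunctor.comp x π)
    have hxs' := (K735.PtsSp.surjective_map_iff_surjective_ofChart x).1
      (K735.Top.surjective_of_repByAlgSpWith hX.isStack.1 (K735.Fp.isFibGrpd_overCat U) hxs)
    have hπs' : Function.Surjective (AlgSt.Points.map π) := by
      intro z
      obtain ⟨t, ht⟩ := (hπh (AlgSt.ofSp M) hMS (BasedFunctor.id _)).bijective.2 z
      refine ⟨AlgSt.Points.map (FibCat.fpSnd (BasedFunctor.id _) π) t, ?_⟩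
      rw [← ht, ← K735.Pts.map_comp]
      exact (K735.Pts.map_congr (FibCat.fpIso (BasedFunctor.id _) π) t).symm
    refine K596.QC.isQuasiCompactMor_of_surjective_comp (f := K735.SpFp.unchart (BasedFunctor.comp x π)) hM hY ?_ ?_
    · intro y
      obtain ⟨z, hz⟩ := hπs' ((K735.PtsSp.ptsEquiv M).symm y)
      obtain ⟨t, rfl⟩ := hxs' z
      refine ⟨AlgSp.Points.ofPt (𝟙 _) t, ?_⟩
      rw [AlgSp.Points.map_ofPt, Category.id_comp, ← K735.PtsSp.ptsEquiv_ofChart, ← K735.PtsSp.ofChart_congr i,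
        ← K735.PtsSp.map_ofChart, hz, Equiv.apply_symm_apply]
    · have h1 : K735.SpFp.unchart (BasedFunctor.comp x π) ≫ q = (AlgSp.yon S).map (Over.homMk U.hom (Category.comp_id _)) :=
        (K596.QC2.isTerminalYon S).hom_ext _ _
      rw [h1]
      refine K596.QC.isQuasiCompactMor_of_repWith ((AlgSp.repWith_yon_map_iff _ _).2 ?_)
      change QuasiCompact U.hom
      infer_instance
  · have q : M ⟶ T0 S := (K596.QC2.isTerminalYon S).from M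
    have hqr : AlgSt.RepByAlgSpWith (AlgSp.LocP @LocallyOfFiniteType) (AlgSt.ofSpMap q) := by
      rw [K735.SpFp.repByAlgSpWith_ofSpMap_iff]
      intro T Q g fst snd sq
      have hQ := K613.Chart.isAlgSpace_of_isPullback hY.diag (AlgSp.IsAlgSpace.yon_obj T) hM sq
      exact ⟨hQ, K742.nice_lft.stableBC hM hY hQ (AlgSp.IsAlgSpace.yon_obj T) _ _ _ _ sq.flip (hlft q)⟩
    obtain ⟨j⟩ := iso_of_T0 (BasedFunctor.comp (FibCat.toSelf 𝒳) l) (BasedFunctor.comp π (AlgSt.ofSpMap q))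
    refine K742.EvQ.locQ_of_comp K742.nice_lft K742.nice_lft K742.nice_lft (fun A B C a b _ hab => ?_) hX.isStack.1
      hMS.isStack.1 hYS.isStack.1 hX.atlas hMS.atlas hYS.atlas π (AlgSt.ofSpMap q)
      (K742.EvQ.locQ_of_rep K742.nice_lft hMS.isStack.1 hYS.isStack.1 hMS.atlas hYS.atlas _ hqr) ?_
    · have := hab
      exact locallyOfFiniteType_of_comp a b
    · obtain ⟨U, V, x, y, h, e, h1⟩ := hp
      exact ⟨U, V, x, y, h, K743.BC.whiskerLeftIso x j.symm ≪≫ e, h1⟩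
  · intro 𝒵 h𝒵 g
    exact hπh 𝒵 ((K747.EtFppf.isAlgStack_iff hb).1 h𝒵) g
  · intro M' hM' g hgf
    exact ⟨hπ.2 M' hM' g hgf, K743.GeomBC.geomPtBij_fpFst hX.isStack.1 hg g⟩

end K743.KM818
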