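import Groth.Agent.S10553
import Groth.Agent.AlgSp.K630.STSmooth
import Groth.Agent.AlgSt.K741.RepQ
import Groth.Agent.AlgSt.K741.Loc
import Groth.Agent.AlgSt.K741.OfSp
import Groth.Agent.AlgSt.K742.EvQ
import Groth.Agent.AlgSt.K740.DiagRep

/-!
# Charts composed with smooth morphisms of stacks are smooth

* `isSmoothLocalST_smooth`.
* `smooth_comp_of_locQ`: if `f : 𝒳 ⥤ᵇ 𝒴` is smooth in the chart sense and `p : (Sch/U) ⥤ᵇ 𝒳` is representable and smooth,
  then `p ⋙ f` is representable and smooth (the diagonal of `𝒴` being representable).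
-/

set_option autoImplicit false
set_option backward.isDefEq.respectTransparency false
set_option backward.isDefEq.respectTransparency.types false

universe u

open CategoryTheory CategoryTheory.Limits AlgebraicGeometry Opposite

namespace K743.SmoothST

variable {S : Scheme.{u}}

theorem isSmoothLocalST_smooth : AlgSp.IsSmoothLocalST (AlgSp.LocP (S := S) @Smooth) :=
  K630.isSmoothLocalST_of_local (Groth.Agent.S10553.result S)
    (fun _ _ Yi g hY hYi hg _ f hX Xi p q hXi sq => K741.isLocalOnBase_smooth Yi g hY hYi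
      ⟨fun i => ⟨K597.locP_mono (fun _ _ _ h => by have := h; infer_instance) (hg.1 i),
        K597.locP_mono (fun _ _ _ h => by have := h; infer_instance) (hg.1 i)⟩, hg.2⟩ f hX Xi p q hXi sq)
    (fun _ _ _ h1 h2 h3 _ _ hf hg => K741.stableComp_smooth h1 h2 h3 _ _ hf hg)

theorem smooth_comp_of_locQ {𝒳 𝒴 : AlgSt.Cat S} (h𝒳 : FibCat.IsFibGrpd 𝒳.p) (h𝒴 : FibCat.IsFibGrpd 𝒴.p)
    (ha : AlgSt.HasAtlas (AlgSp.LocP @Smooth) 𝒳) (hb : AlgSt.HasAtlas (AlgSp.LocP @Smooth) 𝒴)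
    (hΔ : AlgSt.RepByAlgSp1 (FibCat.diag (FibCat.toSelf 𝒴))) {f : 𝒳 ⥤ᵇ 𝒴} (hf : AlgSt.LocQ (AlgSp.LocP @Smooth) f)
    {U : Over S} {p : FibCat.overCat U ⥤ᵇ 𝒳} (hp : AlgSt.RepByAlgSpWith (AlgSp.LocP @Smooth) p) :
    AlgSt.RepByAlgSpWith (AlgSp.LocP @Smooth) (BasedFunctor.comp p f) := by
  have hU := K735.Fp.isFibGrpd_overCat U
  have hUa : AlgSt.HasAtlas (AlgSp.LocP @Smooth) (FibCat.overCat U) := ⟨U, BasedFunctor.id _,
    K741.repByAlgSpWith_id _ fun V => ((K742.nice_smooth.yon_iff (𝟙 V)).2 (by change Smooth (𝟙 _); infer_instance) :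
        AlgSp.LocP _ ((AlgSp.yon S).map (𝟙 V))), K741.smSurj_id.surj⟩
  refine K741.repByAlgSpWith_of_locQ isSmoothLocalST_smooth K741.stableBC_smooth K741.isLocalOnBase_smooth hU h𝒴 hb
    ((K740.DiagRep.repByAlgSp1_diag_iff h𝒴).1 hΔ U _) ?_
  exact K742.EvQ.locQ_comp K742.nice_smooth hU h𝒳 h𝒴 hUa ha hb p f
    (K742.EvQ.locQ_of_rep K742.nice_smooth hU h𝒳 hUa ha p hp) hf

end K743.SmoothST
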