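import Groth.Agent.AlgSt.K743.InfLift
import Groth.Agent.AlgSt.K743.SmoothST
import Groth.Agent.S10629
import Groth.Agent.AlgSt.K743.Chart
import Groth.Agent.AlgSt.K743.Locus
import Groth.Agent.S1417
import Mathlib.RingTheory.Artinian.Ring
import Mathlib.RingTheory.SimpleModule.Basic

/-!
# The infinitesimal lifting criterion for smoothness of morphisms of stacks

* `exists_lift_smooth`: `InfLift.exists_lift` for smooth morphisms and nilpotent thickenings of affine schemes.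
* `exists_lift_of_smooth`: lifting for smooth `f : 𝒳 ⥤ᵇ 𝒴` along `Spec A₀ ⟶ Spec A`, `A` Artinian local, when points of `𝒳` with
  values in fields lift to smooth charts (S16827).
* `smooth_of_lift`: the converse for `f` locally of finite type and `𝒴` locally Noetherian.
-/

set_option autoImplicit false
set_option backward.isDefEq.respectTransparency false
set_option backward.isDefEq.respectTransparency.types false

universe w v u

open CategoryTheory CategoryTheory.Limits AlgebraicGeometry Opposite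
open K735.Fib K735.Fp K735.Rep K634.Formal K743.InfLift

namespace K743.ArtLift

variable {S : Scheme.{u}}

theorem exists_lift_smooth {𝒱 : BasedCategory.{v, w} (Over S)} {𝒲 : BasedCategory.{v, w} (Over S)} {g : 𝒱 ⥤ᵇ 𝒲}
    (hg : AlgSt.RepByAlgSpWith (AlgSp.LocP @Smooth) g) {A E : Type u} [CommRing A] [CommRing E] (q : A →+* E)
    (hq : Function.Surjective q) (hn : IsNilpotent (RingHom.ker q)) {str : Spec (.of A) ⟶ S} {str' : Spec (.of E) ⟶ S}
    (j : Over.mk str' ⟶ Over.mk str) (hj : j.left = Spec.map (CommRingCat.ofHom q))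
    (y : FibCat.overCat (Over.mk str) ⥤ᵇ 𝒲) (H : FibCat.overCat (Over.mk str') ⥤ᵇ FibCat.fp y g)
    (β : BasedFunctor.comp H (FibCat.fpFst y g) ≅ AlgSt.overMap j) :
    ∃ c : FibCat.overCat (Over.mk str) ⥤ᵇ FibCat.fp y g,
      Nonempty (BasedFunctor.comp c (FibCat.fpFst y g) ≅ BasedFunctor.id (FibCat.overCat (Over.mk str))) ∧
      Nonempty (BasedFunctor.comp (AlgSt.overMap j) c ≅ H) := by
  refine exists_lift hg j (fun F p hF hp => ?_) y H β
  have h1 := ((Groth.Agent.S10629.result (X := ⟨F, hF⟩) (Y := ⟨_, AlgSp.IsAlgSpace.yon_obj _⟩)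
    (ObjectProperty.homMk p)).1 hp).2
  exact lftP_of_isNilpotent h1 _ hn E q hq rfl str str' j hj

section Smooth

variable {𝒳 𝒴 : AlgSt.Cat S}

/-- The functor `(Sch/T) ×_𝒴 𝒱 ⥤ᵇ 𝒳 ×_𝒴 (Sch/T)` induced by `p : 𝒱 ⥤ᵇ 𝒳`. -/
def push {𝒱 𝒯 : AlgSt.Cat S} (p : 𝒱 ⥤ᵇ 𝒳) (f : 𝒳 ⥤ᵇ 𝒴) (y : 𝒯 ⥤ᵇ 𝒴) :
    FibCat.fp y (BasedFunctor.comp p f) ⥤ᵇ FibCat.fp f y :=
  FibCat.fpLift (BasedFunctor.comp (FibCat.fpSnd y (BasedFunctor.comp p f)) p) (FibCat.fpFst y (BasedFunctor.comp p f))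
    (FibCat.fpIso y (BasedFunctor.comp p f)).symm

theorem push_lift {𝒱 𝒯 𝒯₀ : AlgSt.Cat S} (p : 𝒱 ⥤ᵇ 𝒳) (f : 𝒳 ⥤ᵇ 𝒴) (y : 𝒯 ⥤ᵇ 𝒴) (j : 𝒯₀ ⥤ᵇ 𝒯) (x : 𝒯₀ ⥤ᵇ 𝒳)
    (u : 𝒯₀ ⥤ᵇ 𝒱) (γ : BasedFunctor.comp u p ≅ x) (α : BasedFunctor.comp x f ≅ BasedFunctor.comp j y) :
    Nonempty (BasedFunctor.comp (FibCat.fpLift j u (show BasedFunctor.comp j y ≅ BasedFunctor.comp u (BasedFunctor.comp p f)
      from (whiskerRightIso γ f ≪≫ α).symm)) (push p f y) ≅ FibCat.fpLift x j α) := by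
  refine ⟨K734.Fib.liftExt (show BasedFunctor.comp _ _ ≅ x from γ) (Iso.refl _) fun z => ?_⟩
  change f.map (γ.hom.toNatTrans.app z) ≫ α.hom.toNatTrans.app z =
    (f.map (γ.hom.toNatTrans.app z) ≫ α.hom.toNatTrans.app z) ≫ y.map (𝟙 _)
  rw [y.toFunctor.map_id]
  exact (Category.comp_id _).symm

/-- The identity functor is composition with the identity. -/
def overMapId (T : Over S) : BasedFunctor.id (FibCat.overCat T) ≅ AlgSt.overMap (𝟙 T) :=
  K735.Fib.mkIso (fun x => Over.isoMk (Iso.refl _) (by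
      change 𝟙 _ ≫ x.hom ≫ 𝟙 _ = x.hom
      simp))
    (fun {x y} φ => by
      apply Over.OverMorphism.ext
      change φ.left ≫ 𝟙 _ = 𝟙 _ ≫ φ.left
      simp)
    (fun x => vert_of_map_eq rfl rfl)

theorem isNilpotent_of_le {A : Type u} [CommRing A] [IsArtinianRing A] [IsLocalRing A] (I : Ideal A)
    (hI : I ≤ IsLocalRing.maximalIdeal A) : IsNilpotent I := by
  obtain ⟨n, hn⟩ := IsArtinianRing.isNilpotent_jacobson_bot (R := A)
  rw [IsLocalRing.jacobson_eq_maximalIdeal ⊥ bot_ne_top] at hn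
  exact ⟨n, le_bot_iff.1 ((Ideal.pow_right_mono hI n).trans hn.le)⟩

/-- **Lifting for smooth morphisms.** -/
theorem exists_lift_of_smooth (h𝒳 : FibCat.IsFibGrpd 𝒳.p) (h𝒴 : FibCat.IsFibGrpd 𝒴.p)
    (ha : AlgSt.HasAtlas (AlgSp.LocP @Smooth) 𝒳) (hb : AlgSt.HasAtlas (AlgSp.LocP @Smooth) 𝒴)
    (hΔ : AlgSt.RepByAlgSp1 (FibCat.diag (FibCat.toSelf 𝒴))) {f : 𝒳 ⥤ᵇ 𝒴} (hf : AlgSt.LocQ (AlgSp.LocP @Smooth) f)
    (h827 : ∀ (k : Type u) [Field k] (sk : Spec (CommRingCat.of k) ⟶ S) (x : FibCat.overCat (Over.mk sk) ⥤ᵇ 𝒳),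
      ∃ (U : Over S) (_ : IsAffine U.left) (p : FibCat.overCat U ⥤ᵇ 𝒳) (u : Over.mk sk ⟶ U),
        AlgSt.RepByAlgSpWith (AlgSp.LocP @Smooth) p ∧ Nonempty (BasedFunctor.comp (AlgSt.overMap u) p ≅ x))
    (A A₀ : Type u) [CommRing A] [IsArtinianRing A] [IsLocalRing A] [CommRing A₀] [IsLocalRing A₀]
    (φ : A →+* A₀) (hφ : Function.Surjective φ) (sA : Spec (CommRingCat.of A) ⟶ S)
    (x : FibCat.overCat (Over.mk (Spec.map (CommRingCat.ofHom φ) ≫ sA)) ⥤ᵇ 𝒳)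
    (y : FibCat.overCat (Over.mk sA) ⥤ᵇ 𝒴)
    (α : BasedFunctor.comp x f ≅
      BasedFunctor.comp (AlgSt.overMap (Over.homMk (Spec.map (CommRingCat.ofHom φ)) rfl :
        Over.mk (Spec.map (CommRingCat.ofHom φ) ≫ sA) ⟶ Over.mk sA)) y) :
    ∃ (c : FibCat.overCat (Over.mk sA) ⥤ᵇ FibCat.fp f y),
      Nonempty (BasedFunctor.comp c (FibCat.fpSnd f y) ≅ AlgSt.overMap (𝟙 (Over.mk sA))) ∧
      Nonempty (BasedFunctor.comp (AlgSt.overMap (Over.homMk (Spec.map (CommRingCat.ofHom φ)) rfl :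
          Over.mk (Spec.map (CommRingCat.ofHom φ) ≫ sA) ⟶ Over.mk sA)) c ≅
        FibCat.fpLift x (AlgSt.overMap (Over.homMk (Spec.map (CommRingCat.ofHom φ)) rfl :
          Over.mk (Spec.map (CommRingCat.ofHom φ) ≫ sA) ⟶ Over.mk sA)) α) := by
  have hA₀ : IsArtinianRing A₀ := hφ.isArtinianRing
  have hker : RingHom.ker φ ≤ IsLocalRing.maximalIdeal A := IsLocalRing.le_maximalIdeal (RingHom.ker_ne_top φ)
  let j : Over.mk (Spec.map (CommRingCat.ofHom φ) ≫ sA) ⟶ Over.mk sA := Over.homMk (Spec.map (CommRingCat.ofHom φ)) rfl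
  let π₀ := IsLocalRing.residue A₀
  let sk := Spec.map (CommRingCat.ofHom π₀) ≫ Spec.map (CommRingCat.ofHom φ) ≫ sA
  let jk : Over.mk sk ⟶ Over.mk (Spec.map (CommRingCat.ofHom φ) ≫ sA) := Over.homMk (Spec.map (CommRingCat.ofHom π₀)) rfl
  obtain ⟨U, -, p, u, hp, ⟨i⟩⟩ := h827 (IsLocalRing.ResidueField A₀) sk (BasedFunctor.comp (AlgSt.overMap jk) x)
  obtain ⟨c₀, ⟨i₀⟩, -⟩ := exists_lift_smooth hp π₀ IsLocalRing.residue_surjective
    (isNilpotent_of_le _ (by rw [IsLocalRing.ker_residue])) jk rfl x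
    (FibCat.fpLift (AlgSt.overMap jk) (AlgSt.overMap u) i.symm) (Iso.refl _)
  let u₀ := BasedFunctor.comp c₀ (FibCat.fpSnd x p)
  let γ : BasedFunctor.comp u₀ p ≅ x := (whiskerLeftIso c₀ (FibCat.fpIso x p)).symm ≪≫ whiskerRightIso i₀ x
  have hg := K743.SmoothST.smooth_comp_of_locQ h𝒳 h𝒴 ha hb hΔ hf hp
  obtain ⟨c₁, ⟨i₁⟩, ⟨i₂⟩⟩ := exists_lift_smooth hg φ hφ (isNilpotent_of_le _ hker) j rfl y
    (FibCat.fpLift (AlgSt.overMap j) u₀ (show BasedFunctor.comp (AlgSt.overMap j) y ≅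
      BasedFunctor.comp u₀ (BasedFunctor.comp p f) from (whiskerRightIso γ f ≪≫ α).symm)) (Iso.refl _)
  obtain ⟨i₃⟩ := push_lift p f y (AlgSt.overMap j) x u₀ γ α
  exact ⟨BasedFunctor.comp c₁ (push p f y), ⟨(show BasedFunctor.comp (BasedFunctor.comp c₁ (push p f y)) (FibCat.fpSnd f y) ≅
    BasedFunctor.id _ from i₁) ≪≫ overMapId _⟩, ⟨(show BasedFunctor.comp (AlgSt.overMap j) (BasedFunctor.comp c₁ (push p f y)) ≅
      _ from whiskerRightIso i₂ (push p f y)) ≪≫ i₃⟩⟩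

/-- The kernel of a small extension is simple. -/
theorem isSimpleModule_span {B' : Type u} [CommRing B'] [IsLocalRing B'] (ε : B') (hε : ε ≠ 0)
    (hm : ∀ m ∈ IsLocalRing.maximalIdeal B', ε * m = 0) (I : Ideal B') (hI : I = Ideal.span {ε}) :
    IsSimpleModule B' I := by
  subst hI
  rw [isSimpleModule_iff_quot_maximal]
  let L := LinearMap.toSpanSingleton B' B' ε
  have hk : LinearMap.ker L = IsLocalRing.maximalIdeal B' := by
    refine le_antisymm (IsLocalRing.le_maximalIdeal fun h => hε ?_) fun m hm' => ?_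
    · have : (1 : B') ∈ LinearMap.ker L := h ▸ Submodule.mem_top
      simpa [L] using this
    · rw [LinearMap.mem_ker, LinearMap.toSpanSingleton_apply, smul_eq_mul, mul_comm]
      exact hm m hm'
  have hr : LinearMap.range L = Ideal.span {ε} := LinearMap.range_toSpanSingleton ε
  refine ⟨LinearMap.ker L, by rw [hk]; infer_instance, ⟨?_⟩⟩
  exact (LinearEquiv.ofEq _ _ hr.symm).trans L.quotKerEquivRange.symm

/-- **The converse.** -/
theorem smooth_of_lift (h𝒳 : FibCat.IsFibGrpd 𝒳.p) (h𝒴 : FibCat.IsFibGrpd 𝒴.p)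
    (ha : AlgSt.HasAtlas (AlgSp.LocP @Smooth) 𝒳) (hb : AlgSt.HasAtlas (AlgSp.LocP @Smooth) 𝒴)
    (hn : AlgSt.SmoothLocally (fun T => IsLocallyNoetherian T) 𝒴) {f : 𝒳 ⥤ᵇ 𝒴}
    (hft : AlgSt.LocQ (AlgSp.LocP @LocallyOfFiniteType) f)
    (H : ∀ (A A₀ : Type u) [CommRing A] [IsArtinianRing A] [IsLocalRing A] [CommRing A₀] [IsLocalRing A₀]
        (φ : A →+* A₀) (_ : Function.Surjective φ) (_ : IsSimpleModule A (RingHom.ker φ))
        (sA : Spec (CommRingCat.of A) ⟶ S)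
        (x : FibCat.overCat (Over.mk (Spec.map (CommRingCat.ofHom φ) ≫ sA)) ⥤ᵇ 𝒳)
        (y : FibCat.overCat (Over.mk sA) ⥤ᵇ 𝒴)
        (α : BasedFunctor.comp x f ≅
          BasedFunctor.comp (AlgSt.overMap (Over.homMk (Spec.map (CommRingCat.ofHom φ)) rfl :
            Over.mk (Spec.map (CommRingCat.ofHom φ) ≫ sA) ⟶ Over.mk sA)) y),
        ∃ (c : FibCat.overCat (Over.mk sA) ⥤ᵇ FibCat.fp f y),
          Nonempty (BasedFunctor.comp c (FibCat.fpSnd f y) ≅ AlgSt.overMap (𝟙 (Over.mk sA))) ∧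
          Nonempty (BasedFunctor.comp (AlgSt.overMap (Over.homMk (Spec.map (CommRingCat.ofHom φ)) rfl :
              Over.mk (Spec.map (CommRingCat.ofHom φ) ≫ sA) ⟶ Over.mk sA)) c ≅
            FibCat.fpLift x (AlgSt.overMap (Over.homMk (Spec.map (CommRingCat.ofHom φ)) rfl :
              Over.mk (Spec.map (CommRingCat.ofHom φ) ≫ sA) ⟶ Over.mk sA)) α)) :
    AlgSt.LocQ (AlgSp.LocP @Smooth) f := by
  obtain ⟨U, V, x, y, h, hg, hx, hxs, hy, hys, -⟩ := K742.EvQ.exists_goodSq_atlas h𝒳 h𝒴 ha hb f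
  refine K742.EvQ.locQ_of_goodSq K742.nice_smooth h𝒳 hg hx hxs hy ?_
  have : LocallyOfFiniteType h.left :=
    K742.EvQ.goodSq_of_locQ K742.nice_lft h𝒳 h𝒴 f hft x y (repByAlgSp1_of_with hy) h hg
  have : IsLocallyNoetherian V.left := hn V y hy
  obtain ⟨α, hα⟩ := hg
  refine Groth.Agent.S1417.smooth_of_lifting h.left fun B B' _ _ _ _ _ _ φ ε hφ hker hm a b _ hab => ?_
  by_cases hε : ε = 0
  · subst hε
    have hinj : Function.Injective φ := by
      rw [RingHom.injective_iff_ker_eq_bot, hker, Ideal.span_singleton_eq_bot]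
    let e := RingEquiv.ofBijective φ ⟨hinj, hφ⟩
    have : IsIso (Spec.map (CommRingCat.ofHom φ)) := by
      have : IsIso (CommRingCat.ofHom φ) := (e.toCommRingCatIso).isIso_hom
      infer_instance
    exact ⟨inv (Spec.map (CommRingCat.ofHom φ)) ≫ a, by simp, by rw [Category.assoc, ← hab, IsIso.inv_hom_id_assoc]⟩
  have hsimple := isSimpleModule_span ε hε hm _ hker
  let sA : Spec (CommRingCat.of B') ⟶ S := b ≫ V.hom
  let b' : Over.mk sA ⟶ V := Over.homMk b rfl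
  have hh : h.left ≫ V.hom = U.hom := Over.w h
  let a' : Over.mk (Spec.map (CommRingCat.ofHom φ) ≫ sA) ⟶ U := Over.homMk a (by
    change a ≫ U.hom = Spec.map (CommRingCat.ofHom φ) ≫ b ≫ V.hom
    rw [← hh, ← Category.assoc, ← Category.assoc, hab])
  let j : Over.mk (Spec.map (CommRingCat.ofHom φ) ≫ sA) ⟶ Over.mk sA := Over.homMk (Spec.map (CommRingCat.ofHom φ)) rfl
  have hj : j ≫ b' = a' ≫ h := by ext1; exact hab
  let eo : BasedFunctor.comp (AlgSt.overMap a') (AlgSt.overMap h) ≅ BasedFunctor.comp (AlgSt.overMap j) (AlgSt.overMap b') :=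
    K743.Chart.overMapComp a' h ≪≫ eqToIso (by rw [hj]) ≪≫ (K743.Chart.overMapComp j b').symm
  let x' := BasedFunctor.comp (AlgSt.overMap a') x
  let y' := BasedFunctor.comp (AlgSt.overMap b') y
  let α' : BasedFunctor.comp x' f ≅ BasedFunctor.comp (AlgSt.overMap j) y' :=
    (show BasedFunctor.comp x' f ≅ BasedFunctor.comp (BasedFunctor.comp (AlgSt.overMap a') (AlgSt.overMap h)) y from
      whiskerLeftIso (AlgSt.overMap a') α) ≪≫ whiskerRightIso eo y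
  obtain ⟨c, ⟨i₁⟩, ⟨i₂⟩⟩ := H B' B φ hφ hsimple sA x' y' α'
  let K : FibCat.fp f y' ⥤ᵇ FibCat.fp f y :=
    FibCat.fpLift (FibCat.fpFst f y') (BasedFunctor.comp (FibCat.fpSnd f y') (AlgSt.overMap b')) (FibCat.fpIso f y')
  let d := BasedFunctor.comp c K
  let g := FibCat.fpLift x (AlgSt.overMap h) α
  have hgs : AlgSt.RepByAlgSpWith (AlgSp.LocP @Smooth) g := hα
  let i₃ : BasedFunctor.comp (FibCat.fpLift x' (AlgSt.overMap j) α') K ≅ BasedFunctor.comp (AlgSt.overMap a') g :=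
    K734.Fib.liftExt (Iso.refl _) (show BasedFunctor.comp (AlgSt.overMap j) (AlgSt.overMap b') ≅
      BasedFunctor.comp (AlgSt.overMap a') (AlgSt.overMap h) from eo.symm) (fun z => by
        change f.map (𝟙 _) ≫ α.hom.toNatTrans.app ((AlgSt.overMap a').obj z) =
          (α.hom.toNatTrans.app ((AlgSt.overMap a').obj z) ≫ y.map (eo.hom.toNatTrans.app z)) ≫
            y.map (eo.inv.toNatTrans.app z)
        have h1 : eo.hom.toNatTrans.app z ≫ eo.inv.toNatTrans.app z = 𝟙 _ := (K734.Fib.app eo z).hom_inv_id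
        have h2 : y.map (eo.hom.toNatTrans.app z) ≫ y.map (eo.inv.toNatTrans.app z) = 𝟙 _ :=
          (y.toFunctor.map_comp _ _).symm.trans ((congrArg (fun t => y.map t) h1).trans (y.toFunctor.map_id _))
        refine (congrArg (fun t => t ≫ α.hom.toNatTrans.app ((AlgSt.overMap a').obj z)) (f.toFunctor.map_id _)).trans ?_
        refine (Category.id_comp _).trans ?_
        refine Eq.trans ?_ (Category.assoc _ _ _).symm
        exact ((congrArg (fun t => α.hom.toNatTrans.app ((AlgSt.overMap a').obj z) ≫ t) h2).trans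
          (Category.comp_id _)).symm)
  let i₄ : BasedFunctor.comp (AlgSt.overMap j) d ≅ BasedFunctor.comp (AlgSt.overMap a') g := whiskerRightIso i₂ K ≪≫ i₃
  have hker' : IsNilpotent (RingHom.ker φ) := isNilpotent_of_le _ (IsLocalRing.le_maximalIdeal (RingHom.ker_ne_top φ))
  obtain ⟨c', ⟨i₅⟩, ⟨i₆⟩⟩ := exists_lift_smooth hgs φ hφ hker' j rfl d (FibCat.fpLift (AlgSt.overMap j) (AlgSt.overMap a') i₄)
    (Iso.refl _)
  obtain ⟨γ, ⟨i₇⟩⟩ := K735.Top.exists_iso_overMap (BasedFunctor.comp c' (FibCat.fpSnd d g))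
  have e1 : j ≫ γ = a' := K743.Locus.eq_of_overMap_iso ((K743.Chart.overMapComp j γ).symm ≪≫
    whiskerLeftIso (AlgSt.overMap j) i₇.symm ≪≫ whiskerRightIso i₆ (FibCat.fpSnd d g))
  have e2 : γ ≫ h = b' := K743.Locus.eq_of_overMap_iso ((K743.Chart.overMapComp γ h).symm ≪≫
    whiskerRightIso i₇.symm (AlgSt.overMap h) ≪≫
    (show BasedFunctor.comp (BasedFunctor.comp c' (FibCat.fpSnd d g)) (AlgSt.overMap h) ≅
      BasedFunctor.comp (BasedFunctor.comp c' (FibCat.fpFst d g)) (BasedFunctor.comp d (FibCat.fpSnd f y)) from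
        whiskerLeftIso c' (whiskerRightIso (FibCat.fpIso d g).symm (FibCat.fpSnd f y))) ≪≫
    whiskerRightIso i₅ (BasedFunctor.comp d (FibCat.fpSnd f y)) ≪≫
    (show BasedFunctor.comp d (FibCat.fpSnd f y) ≅ BasedFunctor.comp (AlgSt.overMap (𝟙 _)) (AlgSt.overMap b') from
      whiskerRightIso i₁ (AlgSt.overMap b')) ≪≫ K743.Chart.overMapComp (𝟙 _) b' ≪≫ eqToIso (by rw [Category.id_comp]))
  exact ⟨γ.left, congrArg (fun t => t.left) e1, congrArg (fun t => t.left) e2⟩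

end Smooth

end K743.ArtLift
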