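import Groth.Agent.AlgSt.K743.TwX2
import Groth.Agent.AlgSt.K735.EtQuot
import Groth.Agent.AlgSt.K736.LocSrc
import Groth.Agent.AlgSt.K736.Prod
import Groth.Agent.AlgSt.K747.EtAlias
import Groth.Agent.S0084
import Groth.Agent.Brauer.K444.H13
import Groth.Agent.ConstAct.K841.Homeo
import Groth.Agent.S10043
import Groth.Agent.S10554
import Groth.Agent.S12977
import Groth.Agent.S16826

/-!
# Étale and affine functors out of `[Spec A/G]`, `G` finite constant (helper743)
-/

set_option autoImplicit false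
set_option linter.unusedSectionVars false
set_option backward.isDefEq.respectTransparency false
set_option backward.isDefEq.respectTransparency.types false

universe u

open CategoryTheory CategoryTheory.Limits AlgebraicGeometry K736.Fib K736.Rep K736.Cover K736.Props AlgSp

namespace K743.ChF

section Space

variable {S : Scheme.{u}}

theorem isoInv_finite : IsoInv (S := S) IsFiniteMor := by
  intro X Y X' hX hX' i a ha Z hZ g
  obtain ⟨W, j, fst, sq, hW, hj⟩ := ha hZ g
  refine ⟨W, j, fst ≫ i.inv, ?_, hW, hj⟩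
  exact IsPullback.of_iso sq (Iso.refl _) i.symm (Iso.refl _) (Iso.refl _) (by simp) (by simp) (by simp) (by simp)

theorem stabBC_etale : StabBC (S := S) IsEtaleMor := by
  intro X₁ Y₁ X₂ Y₂ h1 h2 h3 h4 a b a' b' sq ha
  exact K597.isEtaleMor_of_locP_etale K597.etLoc_etale h4
    (K736.Prod.stabBC_locP K597.etLoc_etale h1 h2 h3 h4 a b a' b' sq (K597.locP_etale_of_isEtaleMor ha))

/-- a functor with finite members is finite over algebraic spaces -/
theorem finite_space {𝒳 𝒴 : AlgSt.Cat S} {f : 𝒳 ⥤ᵇ 𝒴} (hf : AlgSt.RepByAlgSpWith IsFiniteMor f) {Z V : Sp S}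
    {z : AlgSt.ofSp Z ⥤ᵇ 𝒴} {a : V ⟶ Z} (h : IsBC z f a.hom) : IsFiniteMor a := by
  intro U hU g
  have sq := IsPullback.of_hasPullback a g
  have h1 := (prop_of_isBC isoInv_finite hf (K736.Rep.of_isPullback h sq)).2
  obtain ⟨W, i, fst, sq', hW, hi⟩ := h1 hU (𝟙 _)
  refine ⟨W, i, fst ≫ pullback.fst a g, ?_, hW, hi⟩
  have := sq'.paste_horiz sq
  rwa [Category.id_comp] at this

/-- a morphism is affine if it is after a finite surjective cover of its source -/
theorem affine_of_finite {V F : Sp S} (hV : IsAlgSpace V) (hF : IsAlgSpace F) {T : Over S} (p : V ⟶ F)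
    (q : F ⟶ (yon S).obj T) (hp : IsFiniteMor p) (hs : IsSurjectiveMor p) (ha : IsAffineMor (p ≫ q)) :
    IsAffineMor q := by
  intro Z hZ g
  have hT := IsAlgSpace.yon_obj T
  have hZ' := IsAlgSpace.yon_obj Z
  have sqF := IsPullback.of_hasPullback q g
  have hF' : IsAlgSpace (pullback q g) := K613.Chart.isAlgSpace_pullback hF hZ' hT q g
  have sqV := IsPullback.of_hasPullback p (pullback.fst q g)
  have hV' : IsAlgSpace (pullback p (pullback.fst q g)) := K613.Chart.isAlgSpace_pullback hV hF' hF p _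
  have hp' : IsFiniteMor (pullback.snd p (pullback.fst q g)) := by
    rw [K617.FinLoc.isFiniteMor_iff] at hp ⊢
    exact (RepWith @IsFinite).of_isPullback sqV hp
  have hs' : IsSurjectiveMor (pullback.snd p (pullback.fst q g)) := K736.Prod.stabBC_surj hV hF hV' hF' p _ _ _ sqV hs
  obtain ⟨W, i, fst, sqW, hW⟩ := ha hZ g
  have sq2 := sqV.paste_vert sqF
  obtain ⟨T', hT', ⟨e⟩⟩ := Groth.Agent.S10043.result S (X := ⟨_, hV'⟩) (Y := ⟨_, hF'⟩)
    (ObjectProperty.homMk (pullback.snd p (pullback.fst q g))) hp' hs' ⟨W, hW, ⟨sqW.isoIsPullback _ _ sq2⟩⟩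
  obtain ⟨j, hj⟩ := (yon S).map_surjective (e.hom ≫ pullback.snd q g)
  refine ⟨T', j, e.hom ≫ pullback.fst q g, ?_, hT'⟩
  rw [hj]
  exact IsPullback.of_iso sqF e.symm (Iso.refl _) (Iso.refl _) (Iso.refl _) (by simp) (by simp) (by simp) (by simp)

end Space

section Quot

open AlgSt K743.TwX

variable (R : Type u) [CommRing R] (A : Type u) [CommRing A] [Algebra R A] (G : Type u) [Group G] [Fintype G]
  [DecidableEq G] [MulSemiringAction G A] [SMulCommClass G R A]

theorem etale_GR : Etale (ConstAct.GR R G).hom := by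
  have h1 : Algebra.Etale R (ConstGrp.F R G) := inferInstanceAs (Algebra.Etale R (G → R))
  change Etale (Spec.map (CommRingCat.ofHom (algebraMap R (ConstGrp.F R G))))
  rw [HasRingHomProperty.Spec_iff (P := @Etale)]
  exact (RingHom.etale_algebraMap).2 h1

/-- the chart `Spec A ⟶ [Spec A/G]` -/
noncomputable abbrev ch : FibCat.overCat (ConstAct.X R A) ⥤ᵇ ConstAct.quotSt R A G Scheme.etalePrecoverage :=
  BasedFunctor.comp (ofOverCat (ConstAct.X R A))
    (quotMap Scheme.etalePrecoverage (ConstAct.GR R G) (ConstAct.gaction R A G))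

theorem ch_etale : RepByAlgSpWith IsEtaleMor (ch R A G) := by
  have := etale_GR R G
  refine K735.EtQuot.repByAlgSpWith_chart _ fun T => ?_
  rw [isEtaleMor_yon_map_iff]
  exact K744.TorsProp.prop_of_torsor (K735.EtQuot.coarsen BigSite.etalePrecoverage_le_fppfPrecoverage T) @Etale this

theorem ch_finite : RepByAlgSpWith IsFiniteMor (ch R A G) := by
  have hG := K444.H13.isFinite_GR R G
  have h0 : MorphismProperty.DescendsAlong @IsFinite
    (@Surjective ⊓ @Flat ⊓ @QuasiCompact : MorphismProperty Scheme.{u}) := Groth.Agent.S0084.result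
  refine K735.EtQuot.repByAlgSpWith_chart _ fun T => ?_
  rw [K617.FinLoc.isFiniteMor_iff, repWith_yon_map_iff]
  exact K744.TorsProp.prop_of_torsor (K735.EtQuot.coarsen BigSite.etalePrecoverage_le_fppfPrecoverage T) @IsFinite hG

theorem ch_surjective : RepByAlgSpWith IsSurjectiveMor (ch R A G) :=
  K735.EtQuot.chart_surjective BigSite.etalePrecoverage_le_fppfPrecoverage

theorem isAlgStack : IsAlgStack Scheme.etalePrecoverage (ConstAct.quotSt R A G Scheme.etalePrecoverage) := by
  have h1 : Smooth (ConstAct.GR R G).hom := K841.Homeo.smooth_GR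
  have h2 : IsAffineHom (ConstAct.GR R G).hom := K841.Homeo.isAffineHom_GR
  exact K735.EtQuot.isAlgStack_et (ConstAct.gaction R A G)

variable {R A G} {𝒳 : AlgSt.Cat (Spec (CommRingCat.of R))} (h𝒳 : IsAlgStack Scheme.etalePrecoverage 𝒳)
  {x : FibCat.overCat (ConstAct.X R A) ⥤ᵇ 𝒳} (O : EqD (ConstAct.gaction R A G) x)

include h𝒳 in
theorem rep1 (hO : O.Faith) : RepByAlgSp1 (tFun O h𝒳.isStack) := by
  rw [Groth.Agent.S12977.result _ _ _ (K747.EtFppf.isAlgStack_etale_iff.1 (isAlgStack R A G))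
    (K747.EtFppf.isAlgStack_etale_iff.1 h𝒳)]
  intro a φ h1 h2
  exact ker_trivial O h𝒳.isStack hO φ h1 h2

theorem nonempty_ch_iso : Nonempty (x ≅ BasedFunctor.comp (ch R A G) (tFun O h𝒳.isStack)) := by
  exact ⟨K735.Fp.yonIso h𝒳.isStack.1 x (BasedFunctor.comp (ch R A G) (tFun O h𝒳.isStack))
    (θ₀ O h𝒳.isStack ((ofOverCat (ConstAct.X R A)).obj (K735.Fp.idObj (ConstAct.X R A))))
    (K735.Fib.vert_of_isHomLift (θ₀_lift O h𝒳.isStack _))⟩

theorem etale_tFun (hO : O.Faith) (hx : RepByAlgSpWith IsEtaleMor x) : RepByAlgSpWith IsEtaleMor (tFun O h𝒳.isStack) := by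
  obtain ⟨i⟩ := nonempty_ch_iso h𝒳 O
  refine K736.LocSrc.s12850 (K735.Fp.isFibGrpd_overCat _) (isAlgStack R A G).isStack.1 stabBC_etale
    (Groth.Agent.S10554.result _) (ch R A G) (tFun O h𝒳.isStack) (rep1 h𝒳 O hO) (ch_etale R A G)
    (ch_surjective R A G) ?_
  exact K735.Rep.repByAlgSpWith_of_iso _ i hx

theorem affine_tFun (hO : O.Faith) (hx : RepByAlgSpWith IsAffineMor x) : RepByAlgSpWith IsAffineMor (tFun O h𝒳.isStack) := by
  obtain ⟨i⟩ := nonempty_ch_iso h𝒳 O
  refine K736.LocSrc.repWith_of_comp (K735.Fp.isFibGrpd_overCat _) (isAlgStack R A G).isStack.1 ?_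
    (x := ch R A G) (K735.Rep.repByAlgSp1_of_with (ch_finite R A G)) (rep1 h𝒳 O hO)
    (K735.Rep.repByAlgSpWith_of_iso _ i hx) ?_
  · exact (K736.Rep.StabBC.isoInv fun _ _ _ _ _ _ _ _ _ _ _ _ sq h => by
      rw [K597.Affine.isAffineMor_iff] at h ⊢
      exact (RepWith @IsAffineHom).of_isPullback sq h)
  · intro V W T hV hW v a b h1 h2
    exact affine_of_finite hW hV a b (finite_space (ch_finite R A G) h1)
      (prop_space (K735.Fp.isFibGrpd_overCat _) (isAlgStack R A G).isStack.1 isoInv_surj chLoc_surj (ch_surjective R A G) hV h1) h2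

end Quot

end K743.ChF
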