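import Mathlib

/-!
# Open covers in `Over S` and glueing along disjoint open covers (helper743)
-/

set_option autoImplicit false
set_option backward.isDefEq.respectTransparency false
set_option backward.isDefEq.respectTransparency.types false

universe u

open CategoryTheory CategoryTheory.Limits AlgebraicGeometry

namespace K743.Part

variable {S : Scheme.{u}}

/-- a jointly surjective family of open immersions -/
structure IsPart {T : Over S} {ι : Type u} {W : ι → Over S} (j : ∀ i, W i ⟶ T) : Prop where
  opn : ∀ i, IsOpenImmersion (j i).left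
  srj : ∀ t : T.left, ∃ (i : ι) (w : (W i).left), (j i).left w = t

namespace IsPart

variable {T Z : Over S} {ι : Type u} {W : ι → Over S} {j : ∀ i, W i ⟶ T} (h : IsPart j)

/-- the open cover -/
noncomputable def cov : T.left.OpenCover :=
  Scheme.Cover.mkOfCovers ι (fun i => (W i).left) (fun i => (j i).left) h.srj h.opn

include h in
theorem hom_ext {m m' : T ⟶ Z} (hm : ∀ i, j i ≫ m = j i ≫ m') : m = m' := by
  ext1
  exact Scheme.Cover.hom_ext h.cov _ _ fun i => congrArg CommaMorphism.left (hm i)

include h in
theorem glue (hd : ∀ (i k : ι), i ≠ k → ∀ (W' : Over S) (a : W' ⟶ W i) (b : W' ⟶ W k), a ≫ j i = b ≫ j k →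
    IsEmpty W'.left) (m : ∀ i, W i ⟶ Z) : ∃ n : T ⟶ Z, ∀ i, j i ≫ n = m i := by
  have hc : ∀ x y : h.cov.I₀, pullback.fst (h.cov.f x) (h.cov.f y) ≫ (m x).left =
      pullback.snd (h.cov.f x) (h.cov.f y) ≫ (m y).left := by
    intro x y
    by_cases hxy : x = y
    · subst hxy
      have := h.opn x
      have h1 : pullback.fst (h.cov.f x) (h.cov.f x) = pullback.snd (h.cov.f x) (h.cov.f x) := by
        have hm : Mono (h.cov.f x) := inferInstanceAs (Mono (j x).left)
        exact (cancel_mono (h.cov.f x)).1 pullback.condition
      rw [h1]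
    · let P : Over S := Over.mk (pullback.fst (j x).left (j y).left ≫ (W x).hom)
      have hP : IsEmpty P.left := hd x y hxy P (Over.homMk (pullback.fst (j x).left (j y).left) rfl)
        (Over.homMk (pullback.snd (j x).left (j y).left) (by
          change pullback.snd _ _ ≫ (W y).hom = pullback.fst _ _ ≫ (W x).hom
          rw [← Over.w (j y), ← Over.w (j x), ← Category.assoc, ← pullback.condition, Category.assoc]))
        (by ext1; exact pullback.condition)
      have hP' : IsEmpty (pullback (h.cov.f x) (h.cov.f y) : Scheme.{u}) := hP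
      exact isInitialOfIsEmpty.hom_ext _ _
  refine ⟨Over.homMk (h.cov.glueMorphisms (fun i => (m i).left) hc) ?_, fun i => ?_⟩
  · refine Scheme.Cover.hom_ext h.cov _ _ fun i => ?_
    rw [← Category.assoc, Scheme.Cover.ι_glueMorphisms]
    exact (Over.w (m i)).trans (Over.w (j i)).symm
  · ext1
    exact Scheme.Cover.ι_glueMorphisms h.cov (fun i => (m i).left) hc i

end IsPart

end K743.Part
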