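import Groth.Prelude.Def_ConstAct2
import Groth.Agent.AlgSt.K750.TorsPts
import Groth.Agent.AlgSt.K743.Part

/-!
# Points of the constant group scheme `GR R G` (helper743)

* `cg R g T` : the constant `T`-point `g`; multiplicative, natural;
* `isEmpty_of_cg_eq`: two different constant points agree only on the empty scheme;
* `part R c g` : the open part of `T` where a point `c : T ⟶ GR R G` is the constant `g`;
* `exists_glue`: morphisms `GR R G ⊗ Y ⟶ Z` from families indexed by `G`.
-/

set_option autoImplicit false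
set_option linter.unusedSectionVars false

universe u

open CategoryTheory CategoryTheory.Limits MonoidalCategory CartesianMonoidalCategory MonObj GrpObj AlgebraicGeometry
open K750.TorsPts

namespace K743.Cst

variable (R : Type u) [CommRing R] {G : Type u} [Group G] [Fintype G] [DecidableEq G]

/-- the structure map as a point of `Spec R` -/
noncomputable def tm (T : Over (Spec (CommRingCat.of R))) : T ⟶ CoactBr.sp R R :=
  Over.homMk T.hom (by
    change T.hom ≫ Spec.map (CommRingCat.ofHom (algebraMap R R)) = T.hom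
    have : CommRingCat.ofHom (algebraMap R R) = 𝟙 (CommRingCat.of R) := rfl
    rw [this, Spec.map_id, Category.comp_id])

theorem eq_tm {T : Over (Spec (CommRingCat.of R))} (f : T ⟶ CoactBr.sp R R) : f = tm R T := by
  ext1
  have h1 := Over.w f
  have : (CoactBr.sp R R).hom = 𝟙 _ := by
    change Spec.map (CommRingCat.ofHom (algebraMap R R)) = 𝟙 _
    have : CommRingCat.ofHom (algebraMap R R) = 𝟙 (CommRingCat.of R) := rfl
    rw [this, Spec.map_id]
  rw [this] at h1
  exact (Category.comp_id _).symm.trans h1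

/-- the constant point `g` -/
noncomputable def cg (g : G) (T : Over (Spec (CommRingCat.of R))) : T ⟶ ConstAct.GR R G :=
  tm R T ≫ CoactBr.pt (ConstGrp.ev R g)

theorem comp_cg (g : G) {T T' : Over (Spec (CommRingCat.of R))} (f : T' ⟶ T) : f ≫ cg R g T = cg R g T' := by
  rw [cg, cg, ← Category.assoc, eq_tm R (f ≫ tm R T)]

theorem cg_left (g : G) (T : Over (Spec (CommRingCat.of R))) :
    (cg R g T).left = T.hom ≫ Spec.map (CommRingCat.ofHom (ConstGrp.ev R g).toRingHom) := rfl

theorem cg_sp (g : G) (K : Type u) [CommRing K] [Algebra R K] :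
    cg R g (CoactBr.sp R K) = CoactBr.pt (ConstAct.constPt R G g) := by
  have h1 : tm R (CoactBr.sp R K) = CoactBr.pt (Algebra.ofId R K) := (eq_tm R _).symm
  rw [cg, h1, ← CoactBr.pt_comp]
  rfl

theorem cg_mul (g h : G) (T : Over (Spec (CommRingCat.of R))) : cg R g T * cg R h T = cg R (g * h) T := by
  rw [cg, cg, cg, ← comp_mul, CoactBr.pt_mul_pt]
  congr 2
  apply ConstGrp.algHom_ext
  intro k
  change (Algebra.TensorProduct.lift (ConstGrp.ev R g) (ConstGrp.ev R h) fun _ _ => .all _ _)
    (ConstGrp.comulAlg R G (ConstGrp.e R k)) = ConstGrp.ev R (g * h) (ConstGrp.e R k)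
  rw [ConstGrp.comulAlg_e, map_sum]
  simp only [Algebra.TensorProduct.lift_tmul, ConstGrp.ev_apply, ConstGrp.e_apply]
  rw [Finset.sum_eq_single g]
  · rw [if_pos rfl, _root_.one_mul]
    congr 1
    simp [eq_inv_mul_iff_mul_eq]
  · intro b _ hb
    rw [if_neg (Ne.symm hb), zero_mul]
  · intro hg
    exact absurd (Finset.mem_univ g) hg

theorem cg_one (T : Over (Spec (CommRingCat.of R))) : cg R (1 : G) T = 1 := by
  have h1 : cg R (1 : G) T * cg R 1 T = cg R 1 T := by rw [cg_mul, _root_.mul_one]
  exact mul_eq_left.1 h1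

theorem cg_inv (g : G) (T : Over (Spec (CommRingCat.of R))) : (cg R g T)⁻¹ = cg R g⁻¹ T := by
  rw [inv_eq_iff_mul_eq_one, cg_mul, mul_inv_cancel, cg_one]

theorem isEmpty_of_cg_eq {g h : G} (hgh : g ≠ h) {T : Over (Spec (CommRingCat.of R))} (e : cg R g T = cg R h T) :
    IsEmpty T.left := by
  refine ⟨fun t => ?_⟩
  have h1 := congrArg (fun z => z.left t) e
  let p : PrimeSpectrum R := T.hom t
  have h2 : (PrimeSpectrum.comap (ConstGrp.ev R g).toRingHom p) = PrimeSpectrum.comap (ConstGrp.ev R h).toRingHom p := h1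
  have h3 : ConstGrp.e R g ∉ (PrimeSpectrum.comap (ConstGrp.ev R g).toRingHom p).asIdeal := by
    intro h4
    have h5 : (ConstGrp.ev R g) (ConstGrp.e R g) ∈ p.asIdeal := h4
    rw [ConstGrp.ev_apply, ConstGrp.e_apply_self] at h5
    exact p.2.ne_top ((Ideal.eq_top_iff_one _).2 h5)
  apply h3
  rw [h2]
  change (ConstGrp.ev R h) (ConstGrp.e R g) ∈ p.asIdeal
  rw [ConstGrp.ev_apply, ConstGrp.e_apply_of_ne (Ne.symm hgh)]
  exact p.asIdeal.zero_mem

section Act

variable {A : Type u} [CommRing A] [Algebra R A] [MulSemiringAction G A] [SMulCommClass G R A]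

theorem act_cg (g : G) {T : Over (Spec (CommRingCat.of R))} (p : T ⟶ ConstAct.X R A) :
    K750.TorsPts.act (ConstAct.gaction R A G) (cg R g T) p = p ≫ ConstAct.act R A G g⁻¹ := by
  have h1 : K750.TorsPts.act (ConstAct.gaction R A G) (cg R g (ConstAct.X R A)) (𝟙 _) = ConstAct.act R A G g⁻¹ := by
    have h2 := ConstAct.gaction_constPt R A G g (AlgHom.id R A)
    rw [CoactBr.pt_id, ← cg_sp] at h2
    exact h2.trans (Category.id_comp _)
  have h3 := comp_act (ConstAct.gaction R A G) p (cg R g (ConstAct.X R A)) (𝟙 _)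
  rw [comp_cg, Category.comp_id] at h3
  exact h3.symm.trans (congrArg (p ≫ ·) h1)

end Act

section Part

set_option backward.isDefEq.respectTransparency false
set_option backward.isDefEq.respectTransparency.types false

variable {T : Over (Spec (CommRingCat.of R))} (c : T ⟶ ConstAct.GR R G)

/-- the part of `T` where `c` is constant equal to `g` -/
noncomputable def part (g : G) : Over (Spec (CommRingCat.of R)) := pullback c (CoactBr.pt (ConstGrp.ev R g))

/-- its inclusion -/
noncomputable def pι (g : G) : part R c g ⟶ T := pullback.fst c (CoactBr.pt (ConstGrp.ev R g))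

theorem pι_comp (g : G) : pι R c g ≫ c = cg R g _ := by
  rw [pι, pullback.condition, eq_tm R (pullback.snd _ _)]
  rfl

theorem isOpenImmersion_ev (g : G) : IsOpenImmersion (CoactBr.pt (ConstGrp.ev R g)).left := by
  change IsOpenImmersion (Spec.map (CommRingCat.ofHom (ConstGrp.ev R g).toRingHom))
  exact @instIsOpenImmersionMapOfHomForallEvalRingHom.{u, u} G g (fun _ : G => R) _

theorem exists_ev (q : (ConstAct.GR R G).left) :
    ∃ (g : G) (p : (CoactBr.sp R R).left), (CoactBr.pt (ConstGrp.ev R g)).left p = q := by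
  let q' : PrimeSpectrum (ConstGrp.F R G) := q
  obtain ⟨g, hg⟩ : ∃ g, ConstGrp.e R g ∉ q'.asIdeal := by
    by_contra hcon
    push Not at hcon
    apply q'.2.ne_top
    rw [Ideal.eq_top_iff_one, ← ConstGrp.sum_e (R := R) (G := G)]
    exact Ideal.sum_mem _ fun g _ => hcon g
  have h1 : Function.Surjective (ConstGrp.ev R g).toRingHom := fun r => ⟨algebraMap R _ r, rfl⟩
  have h2 : q' ∈ Set.range (PrimeSpectrum.comap (ConstGrp.ev R g).toRingHom) := by
    rw [range_comap_of_surjective _ _ h1]
    intro f hf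
    have h3 : f * ConstGrp.e R g = 0 := by
      ext k
      by_cases hk : k = g
      · subst hk
        have : f k = 0 := hf
        simp [this]
      · simp [ConstGrp.e_apply, hk]
    have h4 : f * ConstGrp.e R g ∈ q'.asIdeal := by rw [h3]; exact q'.asIdeal.zero_mem
    exact (q'.2.mem_or_mem h4).resolve_right hg
  obtain ⟨p, hp⟩ := h2
  exact ⟨g, p, hp⟩

theorem isPart : Part.IsPart (pι R c) where
  opn g := by
    have h1 := isOpenImmersion_ev R g
    exact MorphismProperty.of_isPullback (P := @IsOpenImmersion)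
      ((IsPullback.of_hasPullback c (CoactBr.pt (ConstGrp.ev R g))).map (Over.forget _)).flip h1
  srj t := by
    obtain ⟨g, p, hp⟩ := exists_ev R (c.left t)
    have sq := (IsPullback.of_hasPullback c (CoactBr.pt (ConstGrp.ev R g))).map (Over.forget _)
    obtain ⟨w, hw, -⟩ := Scheme.Pullback.exists_preimage_pullback t p hp.symm
    refine ⟨g, sq.isoPullback.inv w, ?_⟩
    have h2 : sq.isoPullback.inv ≫ (pι R c g).left = pullback.fst _ _ := sq.isoPullback_inv_fst
    exact (congrArg (fun z => z w) h2).trans hw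

theorem hom_ext_part {Z : Over (Spec (CommRingCat.of R))} {m m' : T ⟶ Z} (h : ∀ g, pι R c g ≫ m = pι R c g ≫ m') :
    m = m' := (isPart R c).hom_ext h

end Part

section Glue

variable (Y : Over (Spec (CommRingCat.of R)))

/-- the component of index `g` of `G × Y` -/
noncomputable def ky (g : G) : Y ⟶ ConstAct.GR R G ⊗ Y := lift (cg R g Y) (𝟙 Y)

theorem comp_ky (g : G) {T : Over (Spec (CommRingCat.of R))} (y : T ⟶ Y) : y ≫ ky R Y g = lift (cg R g T) y := by
  rw [ky, comp_lift, comp_cg, Category.comp_id]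

theorem isPullback_ky (g : G) : IsPullback (ky R Y g) (tm R Y) (fst (ConstAct.GR R G) Y)
    (CoactBr.pt (ConstGrp.ev R g)) := by
  refine ⟨⟨lift_fst _ _⟩, ⟨PullbackCone.IsLimit.mk (lift_fst _ _) (fun s => s.fst ≫ snd _ _) (fun s => ?_) (fun s => ?_)
    (fun s m h1 h2 => ?_)⟩⟩
  · change (s.fst ≫ snd _ _) ≫ ky R Y g = s.fst
    rw [comp_ky]
    apply CartesianMonoidalCategory.hom_ext
    · rw [lift_fst, s.condition, eq_tm R s.snd]
      rfl
    · rw [lift_snd]
  · rw [eq_tm R s.snd]
    exact eq_tm R _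
  · rw [← h1, Category.assoc]
    exact ((congrArg (m ≫ ·) (lift_snd _ _)).trans (Category.comp_id m)).symm

theorem isPart_ky : Part.IsPart (ky R Y (G := G)) where
  opn g := by
    have h1 := isOpenImmersion_ev R g
    exact MorphismProperty.of_isPullback (P := @IsOpenImmersion)
      ((isPullback_ky R Y g).map (Over.forget _)).flip h1
  srj t := by
    obtain ⟨g, p, hp⟩ := exists_ev R ((fst (ConstAct.GR R G) Y).left t)
    have sq := (isPullback_ky R Y g).map (Over.forget _)
    obtain ⟨w, hw, -⟩ := Scheme.Pullback.exists_preimage_pullback t p hp.symm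
    refine ⟨g, sq.isoPullback.inv w, ?_⟩
    have h2 : sq.isoPullback.inv ≫ (ky R Y g).left = pullback.fst _ _ := sq.isoPullback_inv_fst
    exact (congrArg (fun z => z w) h2).trans hw

theorem exists_glue {Z : Over (Spec (CommRingCat.of R))} (m : G → (Y ⟶ Z)) :
    ∃ n : ConstAct.GR R G ⊗ Y ⟶ Z, ∀ g, ky R Y g ≫ n = m g := by
  refine (isPart_ky R Y).glue (fun g h hgh W' a b e => ?_) m
  have h1 : cg R g W' = cg R h W' := by
    have h2 := congrArg (fun z => z ≫ fst _ _) e
    rw [comp_ky, comp_ky] at h2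
    rwa [lift_fst, lift_fst] at h2
  exact isEmpty_of_cg_eq R hgh h1

end Glue

end K743.Cst
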