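import Groth.Agent.AlgSt.K743.TwX
import Groth.Agent.AlgSt.K747.AutO
import Groth.Agent.AlgSt.K744.QuotFib
import Groth.Agent.AlgSt.K750.TwistBG
import Groth.Prelude.Def_StGerb2

/-!
# The functor `[X/G] ⟶ 𝒳` attached to an equivariant point: automorphisms (helper743)

* `ker_trivial`: if `ρ g = 1` only for `g = 1` then the functor has trivial automorphism kernels;
* `autMap_bijective`: at the trivial torsor of a point `p` it is bijective on automorphisms if all automorphisms of `x(p)`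
  are of the form `ρ g`.
-/

set_option autoImplicit false
set_option backward.isDefEq.respectTransparency false
set_option backward.isDefEq.respectTransparency.types false

universe v₂ u₂ u

open CategoryTheory CategoryTheory.Limits MonoidalCategory CartesianMonoidalCategory MonObj GrpObj AlgebraicGeometry
open AlgSt K750.TorsPts K750.Cone K751.FG K746

namespace K743.TwX

variable {S : Scheme.{u}} {G X : Over S} [GrpObj G] {aX : AlgGrp.Action G X} {𝒳 : BasedCategory.{v₂, u₂} (Over S)}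
  {x : FibCat.overCat X ⥤ᵇ 𝒳} (O : EqD aX x)

/-- only `g = 1` acts trivially -/
def EqD.Faith : Prop := ∀ {T : Over S} (g : T ⟶ G) (p : T ⟶ X) (h : K750.TorsPts.act aX g p = p),
  O.ρ g p p h = 𝟙 _ → g = 1

variable {K : Precoverage Scheme.{u}} (h𝒳 : Stk.IsStack (QuotSh.J K S) 𝒳)

/-- the automorphisms in the kernel are trivial -/
theorem ker_trivial (hO : O.Faith) {A : QuotObj K G aX} (h : A ⟶ A) (hb : h.base = 𝟙 _)
    (he : ym O h𝒳 h = 𝟙 _) : h = 𝟙 A := by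
  have h0 : (𝟙 A.P ≫ h.top) ≫ A.π = 𝟙 A.P ≫ A.π := by
    rw [Category.id_comp, h.cart.w, hb, Category.comp_id, Category.id_comp]
  have h1 := θ_ym O h𝒳 h (𝟙 A.P) A.φ (Category.id_comp _)
  rw [he, Category.comp_id] at h1
  obtain ⟨g, h2⟩ : ∃ g : A.P ⟶ G, K750.TorsPts.act A.act g (𝟙 A.P) = 𝟙 A.P ≫ h.top :=
    ⟨_, act_dif A.act A.cart (𝟙 A.P) (𝟙 A.P ≫ h.top) h0⟩
  have e3 : (𝟙 A.P ≫ h.top) ≫ A.φ = A.φ := by rw [Category.id_comp, h.wφ]
  have e4 : K750.TorsPts.act aX g A.φ = A.φ := by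
    have := act_eqv A.act aX A.φ A.eqv g (𝟙 A.P)
    rw [h2, e3, Category.id_comp] at this
    exact this.symm
  have h3 := (yτ O h𝒳 A).act _ _ _ h2 A.φ A.φ (Category.id_comp _) e3 e4
  rw [h1] at h3
  have h4 : O.ρ _ A.φ A.φ e4 = 𝟙 _ := by
    have l1 := O.ρ_lift _ A.φ A.φ e4
    have l2 : 𝒳.p.IsHomLift (𝟙 A.P) (𝟙 (Xo x A.φ)) := IsHomLift.id (Xo_base x A.φ)
    exact cancel' h𝒳.1 (𝟙 A.P) _ l1 l2 (h3.trans (Category.id_comp _).symm)
  have h5 := hO _ _ _ h4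
  rw [h5, act_one] at h2
  refine QuotObj.hom_ext hb ?_
  exact ((Category.id_comp _).symm.trans h2.symm : h.top = 𝟙 A.P)

/-- the endomorphisms of the trivial torsor given by a stabilizing point -/
theorem exists_autom [K.HasIsos] (a : (ofSch X).obj) (g : a.base ⟶ G)
    (hg : K750.TorsPts.act aX g a.sec.down = a.sec.down) :
    ∃ h : (quotMap K G aX).obj a ⟶ (quotMap K G aX).obj a, h.base = 𝟙 a.base ∧
      O.ρ g a.sec.down a.sec.down hg ≫ θ₀ O h𝒳 a ≫ ym O h𝒳 h = θ₀ O h𝒳 a := by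
  let B := (quotMap K G aX).obj a
  have hB : K750.TorsPts.act B.act g (e1 a.base) = lift g (𝟙 a.base) := by
    change lift g (lift 1 (𝟙 a.base)) ≫ (leftMul G a.base).act = _
    rw [leftMul]
    apply CartesianMonoidalCategory.hom_ext
    · rw [Category.assoc, lift_fst, lift_fst, comp_mul, lift_fst, lift_snd_assoc, lift_fst, _root_.mul_one]
    · rw [Category.assoc, lift_snd, lift_snd, lift_snd_assoc, lift_snd]
  have hφ : (lift g (𝟙 a.base) : a.base ⟶ G ⊗ a.base) ≫ B.φ = a.sec.down := by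
    rw [← hB, act_eqv B.act aX B.φ B.eqv, e1_φ, hg]
  obtain ⟨h, hb, ht⟩ := exists_hom_of_section (A := B) (B := B) (𝟙 a.base) (e1 a.base) (e1_π a)
    (lift g (𝟙 a.base)) (lift_snd _ _) (hφ.trans (e1_φ a).symm)
  refine ⟨h, hb, ?_⟩
  have k1 : θ₀ O h𝒳 a ≫ ym O h𝒳 h = (yτ O h𝒳 B).θ (lift g (𝟙 a.base)) a.sec.down hφ := by
    rw [θ₀, θ_ym]
    exact (yτ O h𝒳 B).θ_congr ht _ _ _
  rw [k1]
  exact (yτ O h𝒳 B).act g (e1 a.base) _ hB _ _ (e1_φ a) hφ hg

/-- at a trivial torsor the functor is bijective on automorphisms if all automorphisms of `x(p)` come from `G` -/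
theorem autMap_bijective [K.HasIsos] [K.IsStableUnderBaseChange] (hO : O.Faith) (a : (ofSch X).obj)
    (hfull : ∀ α : Xo x a.sec.down ⟶ Xo x a.sec.down, 𝒳.p.IsHomLift (𝟙 a.base) α →
      ∃ (g : a.base ⟶ G) (h : K750.TorsPts.act aX g a.sec.down = a.sec.down), O.ρ g _ _ h = α) :
    Function.Bijective (Gerb.autMap (tFun O h𝒳) ((quotMap K G aX).obj a)) := by
  have hq : FibCat.IsFibGrpd (QuotSt K G aX).p := K744.QuotFib.isFibGrpd
  constructor
  · rw [injective_iff_map_eq_one]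
    intro α hα
    have h1 : ym O h𝒳 α.hom.1 = 𝟙 _ := congrArg (fun z : Gerb.AutO (yo O h𝒳 ((quotMap K G aX).obj a)) => z.hom.1) hα
    have h2 : α.hom.1.base = 𝟙 _ := by
      have := α.hom.2
      exact (IsHomLift.eq_of_isHomLift (QuotObj.forget K G aX) (𝟙 _) α.hom.1).symm
    apply Aut.ext
    apply Functor.Fiber.hom_ext
    exact ker_trivial O h𝒳 hO α.hom.1 h2 h1
  · intro β
    have hβ := K750.TwistBG.lift_autO (yo_obj O h𝒳 ((quotMap K G aX).obj a)) β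
    have hθ : 𝒳.p.IsHomLift (𝟙 a.base) (θ₀ O h𝒳 a) := θ₀_lift O h𝒳 a
    have hi : IsIso (θ₀ O h𝒳 a) := isIso_of_lift_id h𝒳.1 _ hθ
    have hβi : IsIso β.hom.1 := isIso_of_lift_id h𝒳.1 _ hβ
    have hβ' : 𝒳.p.IsHomLift (𝟙 a.base) β.hom.1 := hβ
    have hα : 𝒳.p.IsHomLift (𝟙 a.base) (θ₀ O h𝒳 a ≫ inv β.hom.1 ≫ inv (θ₀ O h𝒳 a)) := by
      have l1 : 𝒳.p.IsHomLift (𝟙 a.base) (inv β.hom.1) := IsHomLift.lift_id_inv_isIso _ _ _
      have l2 : 𝒳.p.IsHomLift (𝟙 a.base) (inv (θ₀ O h𝒳 a)) := IsHomLift.lift_id_inv_isIso _ _ _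
      have l3 : 𝒳.p.IsHomLift (𝟙 a.base) (inv β.hom.1 ≫ inv (θ₀ O h𝒳 a)) :=
        IsHomLift.comp_lift_id_left 𝒳.p (𝟙 a.base) _ _
      exact IsHomLift.comp_lift_id_left 𝒳.p (𝟙 a.base) _ _
    obtain ⟨g, hg, hgα⟩ := hfull _ hα
    obtain ⟨h, hb, hh⟩ := exists_autom O h𝒳 a g hg
    have hv : 𝒳.p.IsHomLift (𝟙 a.base) (ym O h𝒳 h) := by
      have := ym_lift O h𝒳 h
      rwa [hb] at this
    have hbase : K734.Fib.IsVert (QuotSt K G aX) h := K734.Fib.IsVert.of_lift (R := a.base) (by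
      have : (QuotSt K G aX).p.IsHomLift h.base h := IsHomLift.map (QuotSt K G aX).p h
      rwa [hb] at this)
    have hiso : IsIso h := K734.Fib.isIso_of_vert hq hbase
    refine ⟨K747.AutO.ofIso (asIso h) hbase, ?_⟩
    apply Aut.ext
    apply Functor.Fiber.hom_ext
    change ym O h𝒳 h = β.hom.1
    rw [hgα, Category.assoc, Category.assoc, IsIso.inv_hom_id_assoc] at hh
    have h2 : inv β.hom.1 ≫ ym O h𝒳 h = 𝟙 _ := by
      rw [← cancel_epi (θ₀ O h𝒳 a), hh]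
      exact (Category.comp_id _).symm
    exact ((IsIso.inv_comp_eq _).1 h2).trans (Category.comp_id _)

end K743.TwX
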