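import Groth.Agent.AlgSt.K743.DistSpec
import Groth.Agent.AlgSt.K743.TwX2

/-!
# The equivariance of the universal family (helper743)
-/

set_option autoImplicit false
set_option linter.unusedSectionVars false

universe v₂ u₂ u

open CategoryTheory CategoryTheory.Limits MonoidalCategory CartesianMonoidalCategory MonObj GrpObj AlgebraicGeometry K746

namespace K743.DistEq

open K743.DistV K743.Cst K743.DistSpec

variable (R : Type u) [CommRing R] {O : OGpd (Spec (CommRingCat.of R))} {G : Type u} [Group G] [Fintype G]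
  [DecidableEq G] {A : Type u} [CommRing A] [Algebra R A] [MulSemiringAction G A] [SMulCommClass G R A]
  {r : G → (ConstAct.X R A ⟶ O.R)}

variable (r) in
/-- the family as a morphism `G × X ⟶ R` -/
noncomputable def D : ConstAct.GR R G ⊗ ConstAct.X R A ⟶ O.R := (exists_glue R (ConstAct.X R A) r).choose

variable (r) in
theorem ky_D (g : G) : ky R (ConstAct.X R A) g ≫ D R r = r g := (exists_glue R (ConstAct.X R A) r).choose_spec g

variable (r) in
/-- the arrow of a pair of points -/
noncomputable def arr {T : Over (Spec (CommRingCat.of R))} (c : T ⟶ ConstAct.GR R G) (p : T ⟶ ConstAct.X R A) : T ⟶ O.R :=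
  lift c p ≫ D R r

variable (r) in
theorem arr_cg {T : Over (Spec (CommRingCat.of R))} (g : G) (p : T ⟶ ConstAct.X R A) :
    arr R r (cg R g T) p = p ≫ r g := by
  rw [arr, ← ky_D R r g, ← Category.assoc, comp_ky]

variable (r) in
theorem comp_arr {T T' : Over (Spec (CommRingCat.of R))} (f : T' ⟶ T) (c : T ⟶ ConstAct.GR R G)
    (p : T ⟶ ConstAct.X R A) : f ≫ arr R r c p = arr R r (f ≫ c) (f ≫ p) := by
  rw [arr, arr, ← Category.assoc, comp_lift]

variable (r) in
theorem part_arr {T : Over (Spec (CommRingCat.of R))} (c : T ⟶ ConstAct.GR R G) (p : T ⟶ ConstAct.X R A) (g : G) :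
    pι R c g ≫ arr R r c p = (pι R c g ≫ p) ≫ r g := by
  rw [comp_arr, pι_comp, arr_cg]

variable (hr : IsFam O G r)

include hr

theorem arr_s {T : Over (Spec (CommRingCat.of R))} (c : T ⟶ ConstAct.GR R G) (p : T ⟶ ConstAct.X R A) :
    arr R r c p ≫ O.s = p ≫ r 1 ≫ O.s := by
  refine hom_ext_part R c fun g => ?_
  rw [← Category.assoc, part_arr, Category.assoc, Category.assoc, hr.src]

theorem arr_one {T : Over (Spec (CommRingCat.of R))} (p : T ⟶ ConstAct.X R A) :
    arr R r (1 : T ⟶ ConstAct.GR R G) p = (p ≫ r 1 ≫ O.s) ≫ O.e := by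
  rw [← cg_one R T, arr_cg]
  have h1 : p ≫ r 1 = p ≫ (r 1 ≫ O.s) ≫ O.e := congrArg (p ≫ ·) hr.one
  rw [h1]
  simp only [Category.assoc]

/-- the arrow determines the point of the group -/
theorem eq_one_of_arr {T : Over (Spec (CommRingCat.of R))} (c : T ⟶ ConstAct.GR R G) (p : T ⟶ ConstAct.X R A)
    (h : arr R r c p = (p ≫ r 1 ≫ O.s) ≫ O.e) : c = 1 := by
  rw [← cg_one R T]
  refine hom_ext_part R c fun g => ?_
  rw [pι_comp, comp_cg]
  by_cases hg : g = 1
  · rw [hg]
  · have h1 := part_arr R r c p g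
    rw [h, ← arr_one R hr p, ← cg_one R T, comp_arr, comp_cg, arr_cg, Category.assoc, Category.assoc] at h1
    have h2 : IsEmpty (part R c g).left := by
      refine hr.dist g 1 hg (pι R c g ≫ p) ?_
      rw [Category.assoc, Category.assoc]
      exact h1.symm
    ext1
    exact isInitialOfIsEmpty.hom_ext _ _

variable (hact : ∀ {T : Over (Spec (CommRingCat.of R))} (p : T ⟶ ConstAct.X R A) (σ g : G),
        K750.TorsPts.act (ConstAct.gaction R A G) (cg R σ T) p ≫ r g = tr (hr.comp p) σ g)

include hact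

theorem arr_t {T : Over (Spec (CommRingCat.of R))} (c : T ⟶ ConstAct.GR R G) (p : T ⟶ ConstAct.X R A) :
    arr R r c p ≫ O.t = K750.TorsPts.act (ConstAct.gaction R A G) c p ≫ r 1 ≫ O.s := by
  refine hom_ext_part R c fun g => ?_
  rw [← Category.assoc, part_arr, ← Category.assoc, K750.TorsPts.comp_act, pι_comp, ← Category.assoc, hact, tr_s]

theorem arr_mul {T : Over (Spec (CommRingCat.of R))} (c d : T ⟶ ConstAct.GR R G) (p : T ⟶ ConstAct.X R A)
    (h : arr R r c (K750.TorsPts.act (ConstAct.gaction R A G) d p) ≫ O.s = arr R r d p ≫ O.t) :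
    O.mul (arr R r c (K750.TorsPts.act (ConstAct.gaction R A G) d p)) (arr R r d p) h = arr R r (c * d) p := by
  have key : ∀ {T : Over (Spec (CommRingCat.of R))} (g k : G) (p : T ⟶ ConstAct.X R A)
    (h : arr R r (cg R g T) (K750.TorsPts.act (ConstAct.gaction R A G) (cg R k T) p) ≫ O.s =
      arr R r (cg R k T) p ≫ O.t),
    O.mul (arr R r (cg R g T) (K750.TorsPts.act (ConstAct.gaction R A G) (cg R k T) p)) (arr R r (cg R k T) p) h =
      arr R r (cg R g T * cg R k T) p := by
    intro T g k p h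
    have e0 : arr R r (cg R g T * cg R k T) p = p ≫ r (g * k) := by rw [cg_mul, arr_cg]
    have e1 : arr R r (cg R g T) (K750.TorsPts.act (ConstAct.gaction R A G) (cg R k T) p) =
        dv O (p ≫ r (g * k)) (p ≫ r k) (by rw [Category.assoc, Category.assoc, hr.src, hr.src k]) := by
      rw [arr_cg, hact]
      rfl
    refine Eq.trans ?_ e0.symm
    refine Eq.trans ?_ (dv_mul O (p ≫ r (g * k)) (p ≫ r k)
      (by rw [Category.assoc, Category.assoc, hr.src, hr.src k]) (dv_s O _ _ _))
    exact O.mul_congr _ e1 (arr_cg R r k p)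
  have key2 : ∀ {T : Over (Spec (CommRingCat.of R))} (c : T ⟶ ConstAct.GR R G) (k : G) (p : T ⟶ ConstAct.X R A)
    (h : arr R r c (K750.TorsPts.act (ConstAct.gaction R A G) (cg R k T) p) ≫ O.s =
      arr R r (cg R k T) p ≫ O.t),
    O.mul (arr R r c (K750.TorsPts.act (ConstAct.gaction R A G) (cg R k T) p)) (arr R r (cg R k T) p) h =
      arr R r (c * cg R k T) p := by
    intro T c k p h
    refine hom_ext_part R c fun g => ?_
    have e1 : pι R c g ≫ arr R r c (K750.TorsPts.act (ConstAct.gaction R A G) (cg R k T) p) =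
        arr R r (cg R g _) (K750.TorsPts.act (ConstAct.gaction R A G) (cg R k _) (pι R c g ≫ p)) := by
      rw [comp_arr, K750.TorsPts.comp_act, pι_comp, comp_cg]
    have e2 : pι R c g ≫ arr R r (cg R k T) p = arr R r (cg R k _) (pι R c g ≫ p) := by
      rw [comp_arr, comp_cg]
    have e3 : (pι R c g ≫ arr R r c (K750.TorsPts.act (ConstAct.gaction R A G) (cg R k T) p)) ≫ O.s =
        (pι R c g ≫ arr R r (cg R k T) p) ≫ O.t := by rw [Category.assoc, h, Category.assoc]
    rw [O.comp_mul _ _ _ h e3, comp_arr R r (pι R c g) (c * cg R k T), comp_mul, pι_comp, comp_cg]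
    rw [← key g k (pι R c g ≫ p) (by rw [← e1, ← e2, e3])]
    exact O.mul_congr _ e1 e2
  refine hom_ext_part R d fun k => ?_
  have e1 : pι R d k ≫ arr R r c (K750.TorsPts.act (ConstAct.gaction R A G) d p) =
      arr R r (pι R d k ≫ c) (K750.TorsPts.act (ConstAct.gaction R A G) (cg R k _) (pι R d k ≫ p)) := by
    rw [comp_arr, K750.TorsPts.comp_act, pι_comp]
  have e2 : pι R d k ≫ arr R r d p = arr R r (cg R k _) (pι R d k ≫ p) := by
    rw [comp_arr, pι_comp]
  have e3 : (pι R d k ≫ arr R r c (K750.TorsPts.act (ConstAct.gaction R A G) d p)) ≫ O.s =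
      (pι R d k ≫ arr R r d p) ≫ O.t := by rw [Category.assoc, h, Category.assoc]
  rw [O.comp_mul _ _ _ h e3, comp_arr R r (pι R d k) (c * d), comp_mul, pι_comp]
  rw [← key2 (pι R d k ≫ c) k (pι R d k ≫ p) (by rw [← e1, ← e2, e3])]
  exact O.mul_congr _ e1 e2

end K743.DistEq
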