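import Groth.Agent.AlgSt.K743.DistV

/-!
# Existence of the universal family of pairwise distinct arrows (helper743)
-/

set_option autoImplicit false
set_option backward.isDefEq.respectTransparency false
set_option backward.isDefEq.respectTransparency.types false

universe u

open CategoryTheory CategoryTheory.Limits AlgebraicGeometry K746

namespace K743.DistV

/-- the locus where two sections of an étale separated morphism agree is open and closed -/
theorem exists_clopen {X Y Z : Scheme.{u}} (s : Y ⟶ Z) [Etale s] [IsSeparated s] (a b : X ⟶ Y) (h : a ≫ s = b ≫ s) :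
    ∃ E : Set X, IsClopen E ∧ ∀ {T : Scheme.{u}} (f : T ⟶ X), f ≫ a = f ≫ b ↔ Set.range f ⊆ E := by
  have h1 : IsOpenImmersion (pullback.diagonal s) := inferInstance
  have h2 : IsClosedImmersion (pullback.diagonal s) := inferInstance
  let m : X ⟶ pullback s s := pullback.lift a b h
  refine ⟨m ⁻¹' Set.range (pullback.diagonal s), ⟨?_, ?_⟩, fun {T} f => ?_⟩
  · exact (pullback.diagonal s).isClosedEmbedding.isClosed_range.preimage m.continuous
  · exact (pullback.diagonal s).isOpenEmbedding.isOpen_range.preimage m.continuous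
  · constructor
    · intro e
      have e1 : f ≫ m = (f ≫ a) ≫ pullback.diagonal s := by
        apply pullback.hom_ext
        · rw [Category.assoc, pullback.lift_fst, Category.assoc, pullback.diagonal_fst, Category.comp_id]
        · rw [Category.assoc, pullback.lift_snd, Category.assoc, pullback.diagonal_snd, Category.comp_id, e]
      rintro _ ⟨t, rfl⟩
      refine ⟨(f ≫ a) t, ?_⟩
      rw [← Scheme.Hom.comp_apply, ← e1, Scheme.Hom.comp_apply]
    · intro hr
      have hr' : Set.range (f ≫ m) ⊆ Set.range (pullback.diagonal s) := by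
        rintro _ ⟨t, rfl⟩
        rw [Scheme.Hom.comp_apply]
        exact hr ⟨t, rfl⟩
      let n := IsOpenImmersion.lift (pullback.diagonal s) (f ≫ m) hr'
      have hn : n ≫ pullback.diagonal s = f ≫ m := IsOpenImmersion.lift_fac _ _ hr'
      have e1 : f ≫ a = n := by
        have := congrArg (· ≫ pullback.fst s s) hn
        simp only [Category.assoc, pullback.diagonal_fst, Category.comp_id] at this
        rw [this, pullback.lift_fst]
      have e2 : f ≫ b = n := by
        have := congrArg (· ≫ pullback.snd s s) hn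
        simp only [Category.assoc, pullback.diagonal_snd, Category.comp_id] at this
        rw [this, pullback.lift_snd]
      rw [e1, e2]

theorem isClosedImmersion_of_isClosed {X : Scheme.{u}} (E : X.Opens) (h : IsClosed (E : Set X)) :
    IsClosedImmersion E.ι :=
  .of_isPreimmersion _ (by rw [Scheme.Opens.range_ι]; exact h)

variable {S : Scheme.{u}} (O : OGpd S) (G : Type u) [Group G] [Finite G]

theorem exists_dist (hs : Etale O.s.left) (hsa : IsAffineHom O.s.left) :
    ∃ (V : Over S) (r : G → (V ⟶ O.R)), IsFam O G r ∧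
      (∀ {T : Over S} (ρ : G → (T ⟶ O.R)), IsFam O G ρ → ∃! v : T ⟶ V, ∀ g, v ≫ r g = ρ g) ∧
      Etale (r 1 ≫ O.s).left ∧ IsAffineHom (r 1 ≫ O.s).left := by
  classical
  obtain ⟨W, c, r₀, ⟨hr₀, hu⟩, hc⟩ := PowU.exists_pow (@Etale ⊓ @IsAffineHom) O.s ⟨hs, hsa⟩ {g : G // g ≠ 1}
  let r : G → (W ⟶ O.R) := fun g => if h : g = 1 then c ≫ O.e else r₀ ⟨g, h⟩
  have hr1 : r 1 = c ≫ O.e := dif_pos rfl
  have hrn : ∀ g (h : g ≠ 1), r g = r₀ ⟨g, h⟩ := fun g h => dif_neg h
  have hrs : ∀ g, r g ≫ O.s = c := by
    intro g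
    by_cases h : g = 1
    · subst h
      rw [hr1, Category.assoc, O.e_s, Category.comp_id]
    · rw [hrn g h, hr₀]
  have hE : ∀ g h : G, ∃ E : Set W.left, IsClopen E ∧ ∀ {T : Scheme.{u}} (f : T ⟶ W.left),
      f ≫ (r g).left = f ≫ (r h).left ↔ Set.range f ⊆ E := fun g h =>
    exists_clopen O.s.left (r g).left (r h).left (by
      rw [← Over.comp_left, ← Over.comp_left, hrs, hrs])
  choose E hE1 hE2 using hE
  let D : Set W.left := ⋂ g : G, ⋂ h : {h : G // g ≠ h}, (E g h)ᶜ
  have hD : IsClopen D := isClopen_iInter_of_finite fun g => isClopen_iInter_of_finite fun h => (hE1 g h).compl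
  let V' : W.left.Opens := ⟨D, hD.2⟩
  let V : Over S := Over.mk (V'.ι ≫ W.hom)
  let j : V ⟶ W := Over.homMk V'.ι rfl
  have hj : IsClosedImmersion j.left := isClosedImmersion_of_isClosed V' hD.1
  have hjm : ∀ {T : Over S} (w : T ⟶ W), (∀ g h : G, g ≠ h → ∀ {T' : Over S} (f : T' ⟶ T),
      f ≫ w ≫ r g = f ≫ w ≫ r h → IsEmpty T'.left) → ∃ v : T ⟶ V, v ≫ j = w := by
    intro T w hw
    have h1 : Set.range w.left ⊆ Set.range V'.ι := by
      rw [Scheme.Opens.range_ι]
      rintro _ ⟨t, rfl⟩
      change w.left t ∈ D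
      refine Set.mem_iInter.2 fun g => Set.mem_iInter.2 fun h => ?_
      intro hmem
      let Q : T.left.Opens := ⟨w.left ⁻¹' (E g h), (hE1 g h).2.preimage w.left.continuous⟩
      let T' : Over S := Over.mk (Q.ι ≫ T.hom)
      let f : T' ⟶ T := Over.homMk Q.ι rfl
      have h2 : IsEmpty T'.left := by
        refine hw g h h.2 f ?_
        have h3 : (f ≫ w).left ≫ (r g).left = (f ≫ w).left ≫ (r h).left := by
          rw [hE2]
          rintro _ ⟨q, rfl⟩
          have h4 : f.left q ∈ Q := by
            have : f.left q ∈ Set.range Q.ι := ⟨q, rfl⟩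
            rwa [Scheme.Opens.range_ι] at this
          rw [Over.comp_left, Scheme.Hom.comp_apply]
          exact h4
        ext1
        exact (Category.assoc _ _ _).symm.trans (h3.trans (Category.assoc _ _ _))
      exact h2.elim ⟨t, hmem⟩
    refine ⟨Over.homMk (IsOpenImmersion.lift V'.ι w.left h1) ?_, ?_⟩
    · change IsOpenImmersion.lift V'.ι w.left h1 ≫ V'.ι ≫ W.hom = T.hom
      rw [IsOpenImmersion.lift_fac_assoc, Over.w]
    · ext1
      exact IsOpenImmersion.lift_fac _ _ _
  have hjmono : Mono j := by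
    have : Mono j.left := inferInstance
    exact Over.mono_of_mono_left j
  have hdist : ∀ g h : G, g ≠ h → ∀ {T' : Over S} (f : T' ⟶ V), f ≫ j ≫ r g = f ≫ j ≫ r h → IsEmpty T'.left := by
    intro g h hgh T' f e
    refine ⟨fun t => ?_⟩
    have h1 : (f ≫ j).left ≫ (r g).left = (f ≫ j).left ≫ (r h).left := by
      have := congrArg CommaMorphism.left e
      simpa only [Over.comp_left, Category.assoc] using this
    rw [hE2] at h1
    have h2 : (f ≫ j).left t ∈ D := by
      have : (f ≫ j).left t ∈ Set.range V'.ι := ⟨f.left t, by rw [Over.comp_left, Scheme.Hom.comp_apply]; rfl⟩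
      rwa [Scheme.Opens.range_ι] at this
    have h3 := Set.mem_iInter.1 (Set.mem_iInter.1 h2 g) ⟨h, hgh⟩
    exact h3 (h1 ⟨t, rfl⟩)
  have hfam : IsFam O G (fun g => j ≫ r g) := by
    refine ⟨fun g => ?_, ?_, hdist⟩
    · rw [Category.assoc, Category.assoc, hrs, hrs]
    · rw [Category.assoc, Category.assoc, ← Category.assoc (r 1), hrs, hr1]
  have hcl : ((fun g => j ≫ r g) 1 ≫ O.s).left = j.left ≫ c.left := by
    change ((j ≫ r 1) ≫ O.s).left = _
    rw [Category.assoc, hrs, Over.comp_left]
  refine ⟨V, fun g => j ≫ r g, hfam, fun {T} ρ hρ => ?_, ?_, ?_⟩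
  · obtain ⟨w, ⟨hw1, hw2⟩, hw3⟩ := hu (ρ 1 ≫ O.s) (fun g => ρ g) (fun g => hρ.src _)
    have hwr : ∀ g, w ≫ r g = ρ g := by
      intro g
      by_cases h : g = 1
      · subst h
        rw [hr1, ← Category.assoc, hw1]
        exact hρ.one.symm
      · rw [hrn g h, hw2]
    obtain ⟨v, hv⟩ := hjm w (fun g h hgh T' f e => hρ.dist g h hgh f (by rwa [hwr, hwr] at e))
    refine ⟨v, fun g => by rw [← Category.assoc, hv, hwr], fun v' hv' => ?_⟩
    rw [← cancel_mono j, hv]
    refine hw3 _ ⟨?_, fun g => ?_⟩
    · rw [← hrs 1, ← Category.assoc, Category.assoc v']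
      exact congrArg (· ≫ O.s) (hv' 1)
    · rw [← hrn g g.2, Category.assoc]
      exact hv' g
  · rw [hcl]
    have h1 : Etale c.left := hc.1
    have h2 : Etale j.left := by
      change Etale V'.ι
      infer_instance
    infer_instance
  · rw [hcl]
    have h1 : IsAffineHom c.left := hc.2
    infer_instance

end K743.DistV
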