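import Groth.Agent.AlgSt.K743.DistEq

/-!
# The functor `[Spec A/G] ⟶ 𝒳` of a chart (helper743)
-/

set_option autoImplicit false
set_option linter.unusedSectionVars false

universe v v₂ u₂ u

open CategoryTheory CategoryTheory.Limits MonoidalCategory CartesianMonoidalCategory MonObj GrpObj AlgebraicGeometry K746
open K746.PairRep K746.ChartRep

namespace K743.DistFun

open K743.DistV K743.Cst K743.DistSpec K743.DistEq K743.TwX

variable (R : Type u) [CommRing R] {𝒳 : BasedCategory.{v₂, u₂} (Over (Spec (CommRingCat.of R)))}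
  (h𝒳 : FibCat.IsFibGrpd 𝒳.p) {U E : Over (Spec (CommRingCat.of R))} {z : FibCat.overCat U ⥤ᵇ 𝒳}
  (Gc : ChartRep z E) {G : Type u} [Group G] [Fintype G]
  [DecidableEq G] {A : Type u} [CommRing A] [Algebra R A] [MulSemiringAction G A] [SMulCommClass G R A]
  {r : G → (ConstAct.X R A ⟶ E)}

theorem isArr_cast {C : Type u} [Category.{v} C] {𝒴 : BasedCategory.{v₂, u₂} C} {U V E : C}
    {x : FibCat.overCat U ⥤ᵇ 𝒴} {y : FibCat.overCat V ⥤ᵇ 𝒴} {P : PairRep x y E} {T : C} {r r' : T ⟶ E}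
    {u : T ⟶ U} {v : T ⟶ V} {φ : Xo x u ⟶ Xo y v} (h : P.IsArr r φ) (e : r = r') : P.IsArr r' φ := by
  subst e
  exact h

/-- the object of the chart -/
noncomputable abbrev xx (Gc : ChartRep z E) (r : G → (ConstAct.X R A ⟶ E)) :
    FibCat.overCat (ConstAct.X R A) ⥤ᵇ 𝒳 := BasedFunctor.comp (AlgSt.overMap (r 1 ≫ Gc.s)) z

variable (hr : IsFam (Gc.toOGpd h𝒳) G r)
  (hact : ∀ {T : Over (Spec (CommRingCat.of R))} (p : T ⟶ ConstAct.X R A) (σ g : G),
        K750.TorsPts.act (ConstAct.gaction R A G) (cg R σ T) p ≫ r g = tr (hr.comp p) σ g)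

include hr hact in
theorem exists_rho {T : Over (Spec (CommRingCat.of R))} (c : T ⟶ ConstAct.GR R G) (p p' : T ⟶ ConstAct.X R A)
    (h : K750.TorsPts.act (ConstAct.gaction R A G) c p = p') :
    ∃ φ : Xo (xx R Gc r) p ⟶ Xo (xx R Gc r) p', Gc.IsArr (u := p ≫ r 1 ≫ Gc.s) (v := p' ≫ r 1 ≫ Gc.s)
      (arr (O := Gc.toOGpd h𝒳) R r c p) φ :=
  Gc.exists_arr h𝒳 (u := p ≫ r 1 ≫ Gc.s) (v := p' ≫ r 1 ≫ Gc.s) (arr (O := Gc.toOGpd h𝒳) R r c p)
    (arr_s (O := Gc.toOGpd h𝒳) R hr c p)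
    ((arr_t (O := Gc.toOGpd h𝒳) R hr hact c p).trans (congrArg (· ≫ r 1 ≫ Gc.s) h))

/-- **The equivariance structure.** -/
noncomputable def eqD : EqD (ConstAct.gaction R A G) (xx R Gc r) where
  ρ c p p' h := (exists_rho R h𝒳 Gc hr hact c p p' h).choose
  ρ_lift {T} c p p' h :=
    (exists_rho R h𝒳 Gc hr hact c p p' h).choose_spec.vert.lift (Xo_base z (p ≫ r 1 ≫ Gc.s))
  nat {T T'} f c p p' h c' q q' hc hq hq' h' := by
    have e1 := (exists_rho R h𝒳 Gc hr hact c p p' h).choose_spec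
    have e2 := (exists_rho R h𝒳 Gc hr hact c' q q' h').choose_spec
    have e3 : f ≫ arr (O := Gc.toOGpd h𝒳) R r c p = arr (O := Gc.toOGpd h𝒳) R r c' q :=
      (comp_arr (O := Gc.toOGpd h𝒳) R r f c p).trans (by rw [hc, hq])
    exact e1.res_w h𝒳 f (u' := q ≫ r 1 ≫ Gc.s) (v' := q' ≫ r 1 ≫ Gc.s)
      ((Category.assoc _ _ _).symm.trans (congrArg (· ≫ r 1 ≫ Gc.s) hq))
      ((Category.assoc _ _ _).symm.trans (congrArg (· ≫ r 1 ≫ Gc.s) hq')) (isArr_cast e2 e3.symm)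
  one {T} p h := by
    have e1 := (exists_rho R h𝒳 Gc hr hact 1 p p h).choose_spec
    exact (isArr_cast e1 (arr_one (O := Gc.toOGpd h𝒳) R hr p)).arr_unique h𝒳
      (isArr_comp_e (G := Gc) (p ≫ r 1 ≫ Gc.s))
  mul {T} g k p p' p'' e1 e2 e3 := by
    subst e1
    have a1 := (exists_rho R h𝒳 Gc hr hact k p _ rfl).choose_spec
    have a2 := (exists_rho R h𝒳 Gc hr hact g _ p'' e2).choose_spec
    have a3 := (exists_rho R h𝒳 Gc hr hact (g * k) p p'' e3).choose_spec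
    have hst : arr (O := Gc.toOGpd h𝒳) R r g (K750.TorsPts.act (ConstAct.gaction R A G) k p) ≫ Gc.s =
        arr (O := Gc.toOGpd h𝒳) R r k p ≫ Gc.t := a2.hs.trans a1.ht.symm
    have a4 := isArr_mul h𝒳 a1 a2 hst
    have a5 := arr_mul (O := Gc.toOGpd h𝒳) R hr hact g k p hst
    exact a3.arr_unique h𝒳 (isArr_cast a4 a5)

theorem isArr_rho {T : Over (Spec (CommRingCat.of R))} (c : T ⟶ ConstAct.GR R G) (p p' : T ⟶ ConstAct.X R A)
    (h : K750.TorsPts.act (ConstAct.gaction R A G) c p = p') :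
    Gc.IsArr (u := p ≫ r 1 ≫ Gc.s) (v := p' ≫ r 1 ≫ Gc.s)
      (arr (O := Gc.toOGpd h𝒳) R r c p) ((eqD R h𝒳 Gc hr hact).ρ c p p' h) :=
  (exists_rho R h𝒳 Gc hr hact c p p' h).choose_spec

/-- only `1` acts trivially -/
theorem faith : (eqD R h𝒳 Gc hr hact).Faith := by
  intro T g p h e
  have a1 := isArr_rho R h𝒳 Gc hr hact g p p h
  rw [e] at a1
  refine eq_one_of_arr (O := Gc.toOGpd h𝒳) R hr g p ?_
  exact a1.pt_unique (isArr_comp_e (G := Gc) (p ≫ r 1 ≫ Gc.s))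

end K743.DistFun
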