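import Groth.Agent.AlgSt.K743.DistEx
import Groth.Agent.AlgSt.K743.Cst

/-!
# The universal family as an affine scheme with an action of `G` (helper743)
-/

set_option autoImplicit false

universe u

open CategoryTheory CategoryTheory.Limits MonoidalCategory CartesianMonoidalCategory AlgebraicGeometry K746

namespace K743.DistSpec

section

variable {k : Type u} [CommRing k] {B R : Type u} [CommRing B] [CommRing R] [Algebra k B] [Algebra k R]

theorem pt_surjective (m : CoactBr.sp k R ⟶ CoactBr.sp k B) : ∃ φ : B →ₐ[k] R, CoactBr.pt φ = m := by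
  have hm : m.left ≫ (CoactBr.sp k B).hom = (CoactBr.sp k R).hom := Over.w m
  let ψ : CommRingCat.of B ⟶ CommRingCat.of R := Spec.preimage m.left
  have hψ : Spec.map ψ = m.left := Spec.map_preimage _
  have h1 : Spec.map ψ ≫ Spec.map (CommRingCat.ofHom (algebraMap k B)) = Spec.map (CommRingCat.ofHom (algebraMap k R)) := by
    rw [hψ]; exact hm
  rw [← Spec.map_comp] at h1
  have h2 := Spec.map_injective h1
  refine ⟨{ ψ.hom with commutes' := fun r => ?_ }, ?_⟩
  · exact congrArg (fun z => z.hom r) h2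
  · ext1
    exact hψ

theorem exists_sp (T : Over (Spec (CommRingCat.of k))) (hT : IsAffine T.left) :
    ∃ (R : Type u) (_ : CommRing R) (_ : Algebra k R), Nonempty (CoactBr.sp k R ≅ T) := by
  let R := Γ(T.left, ⊤)
  let ψ : CommRingCat.of k ⟶ R := Spec.preimage (T.left.isoSpec.inv ≫ T.hom)
  have hψ : Spec.map ψ = T.left.isoSpec.inv ≫ T.hom := Spec.map_preimage _
  let _ : Algebra k R := ψ.hom.toAlgebra
  refine ⟨R, inferInstance, inferInstance, ⟨Over.isoMk T.left.isoSpec.symm ?_⟩⟩
  exact hψ.symm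

end

section

variable (R : Type u) [CommRing R] (A : Type u) [CommRing A] [Algebra R A] {G : Type u} [Group G]

/-- a family of automorphisms of `Spec A` gives an action of `G` on `A` -/
theorem exists_action (a : G → (CoactBr.sp R A ⟶ CoactBr.sp R A)) (h1 : a 1 = 𝟙 _)
    (hm : ∀ σ τ : G, a σ ≫ a τ = a (τ * σ)) :
    ∃ (_ : MulSemiringAction G A) (_ : SMulCommClass G R A),
      ∀ g : G, ConstAct.act R A G g⁻¹ = a g := by
  choose φ hφ using fun σ => pt_surjective (a σ)
  have e1 : φ 1 = AlgHom.id R A := CoactBr.pt_injective (by rw [hφ, h1, CoactBr.pt_id])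
  have e2 : ∀ σ τ, (φ σ).comp (φ τ) = φ (τ * σ) := fun σ τ =>
    CoactBr.pt_injective (by rw [CoactBr.pt_comp, hφ, hφ, hφ, hm])
  let I : MulSemiringAction G A :=
    { smul := fun g x => φ g⁻¹ x
      one_smul := fun x => by
        change φ 1⁻¹ x = x
        rw [inv_one, e1]
        rfl
      mul_smul := fun g h x => by
        change φ (g * h)⁻¹ x = φ g⁻¹ (φ h⁻¹ x)
        rw [_root_.mul_inv_rev, ← e2]
        rfl
      smul_zero := fun g => map_zero (φ g⁻¹)
      smul_add := fun g x y => map_add (φ g⁻¹) x y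
      smul_one := fun g => map_one (φ g⁻¹)
      smul_mul := fun g x y => map_mul (φ g⁻¹) x y }
  refine ⟨I, ⟨fun g r x => map_smul (φ g⁻¹) r x⟩, fun g => ?_⟩
  rw [← hφ g]
  ext1
  change Spec.map _ = Spec.map _
  congr 1
  ext x
  change φ g⁻¹⁻¹ x = φ g x
  rw [inv_inv]

end

open K743.DistV K743.Cst

set_option backward.isDefEq.respectTransparency false
set_option backward.isDefEq.respectTransparency.types false

variable (R : Type u) [CommRing R] (O : OGpd (Spec (CommRingCat.of R))) (G : Type u) [Group G] [Fintype G]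
  [DecidableEq G]

/-- **The universal family of pairwise distinct arrows, over an affine scheme with an action of `G`.** -/
theorem exists_univ (hU : IsAffine O.U.left) (hs : Etale O.s.left) (hsa : IsAffineHom O.s.left) :
    ∃ (A : Type u) (_ : CommRing A) (_ : Algebra R A) (_ : MulSemiringAction G A) (_ : SMulCommClass G R A)
      (r : G → (ConstAct.X R A ⟶ O.R)) (hr : IsFam O G r),
      (∀ {T : Over (Spec (CommRingCat.of R))} (ρ : G → (T ⟶ O.R)), IsFam O G ρ →
        ∃! v : T ⟶ ConstAct.X R A, ∀ g, v ≫ r g = ρ g) ∧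
      Etale (r 1 ≫ O.s).left ∧ IsAffineHom (r 1 ≫ O.s).left ∧
      ∀ {T : Over (Spec (CommRingCat.of R))} (p : T ⟶ ConstAct.X R A) (σ g : G),
        K750.TorsPts.act (ConstAct.gaction R A G) (cg R σ T) p ≫ r g = tr (hr.comp p) σ g := by
  obtain ⟨V, r₀, hr₀, hu, het, haf⟩ := exists_dist O G hs hsa
  have hV : IsAffine V.left := by
    have := haf
    exact isAffine_of_isAffineHom (r₀ 1 ≫ O.s).left
  obtain ⟨A, _, _, ⟨e⟩⟩ := exists_sp V hV
  let r : G → (ConstAct.X R A ⟶ O.R) := fun g => e.hom ≫ r₀ g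
  have hr : IsFam O G r := hr₀.comp e.hom
  have hur : ∀ {T : Over (Spec (CommRingCat.of R))} (ρ : G → (T ⟶ O.R)), IsFam O G ρ →
      ∃! v : T ⟶ ConstAct.X R A, ∀ g, v ≫ r g = ρ g := by
    intro T ρ hρ
    obtain ⟨v, hv1, hv2⟩ := hu ρ hρ
    refine ⟨v ≫ e.inv, fun g => ?_, fun v' hv' => ?_⟩
    · change (v ≫ e.inv) ≫ e.hom ≫ r₀ g = ρ g
      rw [Category.assoc, e.inv_hom_id_assoc, hv1]
    · rw [Iso.eq_comp_inv]
      exact hv2 _ fun g => (Category.assoc _ _ _).trans (hv' g)
  choose a ha ha' using fun σ : G => hur (tr hr σ) (isFam_tr hr σ)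
  have huniq : ∀ {T : Over (Spec (CommRingCat.of R))} (v v' : T ⟶ ConstAct.X R A), (∀ g, v ≫ r g = v' ≫ r g) → v = v' := by
    intro T v v' h
    exact (hur (fun g => v' ≫ r g) (hr.comp v')).unique h (fun g => rfl)
  have h1 : a 1 = 𝟙 _ := huniq _ _ fun g => by
    rw [ha, tr_one, Category.id_comp]
  have hm : ∀ σ τ : G, a σ ≫ a τ = a (τ * σ) := by
    intro σ τ
    refine huniq _ _ fun g => ?_
    rw [Category.assoc, ha, ha, comp_tr, ← tr_tr hr σ τ g]
    exact dv_congr O _ (ha σ _) (ha σ _)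
  obtain ⟨I1, I2, hact⟩ := exists_action R A a h1 hm
  refine ⟨A, inferInstance, inferInstance, I1, I2, r, hr, hur, ?_, ?_, fun {T} p σ g => ?_⟩
  · change Etale ((e.hom ≫ r₀ 1) ≫ O.s).left
    rw [Category.assoc, Over.comp_left]
    have h3 : IsIso e.hom.left := inferInstanceAs (IsIso ((Over.forget _).map e.hom))
    exact MorphismProperty.comp_mem @Etale e.hom.left (r₀ 1 ≫ O.s).left (MorphismProperty.of_isIso @Etale e.hom.left) het
  · change IsAffineHom ((e.hom ≫ r₀ 1) ≫ O.s).left
    rw [Category.assoc, Over.comp_left]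
    have h3 : IsIso e.hom.left := inferInstanceAs (IsIso ((Over.forget _).map e.hom))
    exact MorphismProperty.comp_mem @IsAffineHom e.hom.left (r₀ 1 ≫ O.s).left
      (MorphismProperty.of_isIso @IsAffineHom e.hom.left) haf
  · rw [act_cg]
    have h2 := ha σ g
    rw [← comp_tr hr p σ g, ← h2]
    have h3 : (p ≫ ConstAct.act R A G σ⁻¹) = p ≫ a σ := congrArg (p ≫ ·) (hact σ)
    exact (congrArg (· ≫ r g) h3).trans (Category.assoc _ _ _)

end K743.DistSpec
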