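import Groth.Agent.AlgSt.K743.PowU
import Groth.Agent.AlgSt.K746.OGpd

/-!
# Families of pairwise distinct arrows with a common source (helper743)

For a groupoid `O` over `S` with `s` étale and affine and a finite group `G`, the `T`-points of `DistV O G` are the
families `ρ g : T ⟶ O.R` (`g : G`) of arrows with the same source, `ρ 1` the identity, pairwise distinct (everywhere on
`T`).  `G` acts on it, `(σ ρ) g = ρ (g σ) ρ(σ)⁻¹`.
-/

set_option autoImplicit false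
set_option backward.isDefEq.respectTransparency false
set_option backward.isDefEq.respectTransparency.types false

universe u

open CategoryTheory CategoryTheory.Limits AlgebraicGeometry K746

namespace K743.DistV

variable {S : Scheme.{u}} (O : OGpd S)

section Dv

variable {T T' : Over S}

/-- `α β⁻¹` -/
noncomputable def dv (α β : T ⟶ O.R) (h : α ≫ O.s = β ≫ O.s) : T ⟶ O.R :=
  O.mul α (β ≫ O.i) (by rw [Category.assoc, O.i_t, h])

theorem dv_congr {α α' β β' : T ⟶ O.R} (h : α ≫ O.s = β ≫ O.s) (hα : α = α') (hβ : β = β') :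
    dv O α β h = dv O α' β' (by rw [← hα, ← hβ, h]) := by
  subst hα hβ; rfl

theorem dv_s (α β : T ⟶ O.R) (h : α ≫ O.s = β ≫ O.s) : dv O α β h ≫ O.s = β ≫ O.t := by
  rw [dv, O.mul_s, Category.assoc, O.i_s]

theorem dv_t (α β : T ⟶ O.R) (h : α ≫ O.s = β ≫ O.s) : dv O α β h ≫ O.t = α ≫ O.t := by
  rw [dv, O.mul_t]

theorem comp_dv (f : T' ⟶ T) (α β : T ⟶ O.R) (h : α ≫ O.s = β ≫ O.s) :
    f ≫ dv O α β h = dv O (f ≫ α) (f ≫ β) (by rw [Category.assoc, Category.assoc, h]) := by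
  rw [dv, dv, O.comp_mul f _ _ _ (by simp only [Category.assoc, O.i_t, h])]
  exact O.mul_congr _ rfl (Category.assoc _ _ _).symm

theorem dv_self (α : T ⟶ O.R) (h : α ≫ O.s = α ≫ O.s) : dv O α α h = α ≫ O.t ≫ O.e := by
  rw [dv, O.mul_i]

theorem mul_unit (x : T ⟶ O.R) (y : T ⟶ O.R) (hy : y = x ≫ O.s ≫ O.e) (h : x ≫ O.s = y ≫ O.t) : O.mul x y h = x := by
  subst hy
  exact O.mul_e x h

theorem eq_dv (x α β : T ⟶ O.R) (h : α ≫ O.s = β ≫ O.s) (hx : x ≫ O.s = β ≫ O.t) (e : O.mul x β hx = α) :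
    x = dv O α β h := by
  have h1 : O.mul x β hx ≫ O.s = (β ≫ O.i) ≫ O.t := by rw [O.mul_s, Category.assoc, O.i_t]
  have h2 : β ≫ O.s = (β ≫ O.i) ≫ O.t := by rw [Category.assoc, O.i_t]
  have h3 : x ≫ O.s = O.mul β (β ≫ O.i) h2 ≫ O.t := by rw [O.mul_t, hx]
  have h4 := O.mul_assoc x β (β ≫ O.i) hx h2 h1 h3
  have h5 := mul_unit O x _ (by rw [O.mul_i, ← Category.assoc, ← hx, Category.assoc]) h3
  refine h5.symm.trans (h4.symm.trans ?_)
  exact O.mul_congr _ e rfl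

theorem dv_mul (α β : T ⟶ O.R) (h : α ≫ O.s = β ≫ O.s) (h' : dv O α β h ≫ O.s = β ≫ O.t) :
    O.mul (dv O α β h) β h' = α := by
  have h2 : (β ≫ O.i) ≫ O.s = β ≫ O.t := by rw [Category.assoc, O.i_s]
  have h3 : α ≫ O.s = O.mul (β ≫ O.i) β h2 ≫ O.t := by rw [O.mul_t, Category.assoc, O.i_t, h]
  have h4 := O.mul_assoc α (β ≫ O.i) β (by rw [Category.assoc, O.i_t, h]) h2 h' h3
  refine h4.trans ?_
  exact mul_unit O α _ (by rw [O.i_mul, ← Category.assoc, ← h, Category.assoc]) _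

theorem dv_mul_dv (α β γ : T ⟶ O.R) (h : α ≫ O.s = β ≫ O.s) (h' : β ≫ O.s = γ ≫ O.s)
    (e : dv O α β h ≫ O.s = dv O β γ h' ≫ O.t) : O.mul (dv O α β h) (dv O β γ h') e = dv O α γ (h.trans h') := by
  have hs : O.mul (dv O α β h) (dv O β γ h') e ≫ O.s = γ ≫ O.t := by rw [O.mul_s, dv_s]
  refine eq_dv O _ _ _ _ hs ?_
  have h1 : dv O β γ h' ≫ O.s = γ ≫ O.t := dv_s O _ _ _
  have h2 : dv O α β h ≫ O.s = O.mul (dv O β γ h') γ h1 ≫ O.t := by rw [O.mul_t, dv_s, dv_t]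
  rw [O.mul_assoc _ _ _ e h1 hs h2]
  exact (O.mul_congr _ rfl (dv_mul O β γ h' h1)).trans (dv_mul O α β h (dv_s O _ _ _))

theorem dv_dv (α β γ : T ⟶ O.R) (hα : α ≫ O.s = γ ≫ O.s) (hβ : β ≫ O.s = γ ≫ O.s)
    (h : dv O α γ hα ≫ O.s = dv O β γ hβ ≫ O.s) :
    dv O (dv O α γ hα) (dv O β γ hβ) h = dv O α β (hα.trans hβ.symm) := by
  symm
  have hx : dv O α β (hα.trans hβ.symm) ≫ O.s = dv O β γ hβ ≫ O.t := by rw [dv_s, dv_t]
  exact eq_dv O _ _ _ h hx (dv_mul_dv O α β γ _ _ _)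

theorem dv_unit (α β : T ⟶ O.R) (h : α ≫ O.s = β ≫ O.s) (hβ : β = (α ≫ O.s) ≫ O.e) : dv O α β h = α := by
  symm
  have ht : α ≫ O.s = β ≫ O.t := by rw [hβ, Category.assoc, O.e_t, Category.comp_id]
  exact eq_dv O _ _ _ h ht (mul_unit O α β (by rw [hβ, Category.assoc]) ht)

theorem dv_cancel {α β γ : T ⟶ O.R} (hα : α ≫ O.s = γ ≫ O.s) (hβ : β ≫ O.s = γ ≫ O.s)
    (e : dv O α γ hα = dv O β γ hβ) : α = β := by
  rw [← dv_mul O α γ hα (dv_s O _ _ _), ← dv_mul O β γ hβ (dv_s O _ _ _)]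
  exact O.mul_congr _ e rfl

end Dv

section Fam

variable (G : Type u) [Group G]

/-- families of pairwise distinct arrows with the same source, the first one the identity -/
structure IsFam {T : Over S} (ρ : G → (T ⟶ O.R)) : Prop where
  src : ∀ g, ρ g ≫ O.s = ρ 1 ≫ O.s
  one : ρ 1 = (ρ 1 ≫ O.s) ≫ O.e
  dist : ∀ g h : G, g ≠ h → ∀ {T' : Over S} (f : T' ⟶ T), f ≫ ρ g = f ≫ ρ h → IsEmpty T'.left

variable {O G}

theorem IsFam.comp {T T' : Over S} {ρ : G → (T ⟶ O.R)} (h : IsFam O G ρ) (f : T' ⟶ T) :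
    IsFam O G (fun g => f ≫ ρ g) where
  src g := by rw [Category.assoc, h.src, Category.assoc]
  one := by
    have := congrArg (f ≫ ·) h.one
    simpa only [Category.assoc] using this
  dist g k hgk T'' f' e := h.dist g k hgk (f' ≫ f) (by simpa only [Category.assoc] using e)

/-- the translated family -/
noncomputable def tr {T : Over S} {ρ : G → (T ⟶ O.R)} (h : IsFam O G ρ) (σ g : G) : T ⟶ O.R :=
  dv O (ρ (g * σ)) (ρ σ) (by rw [h.src, h.src σ])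

theorem tr_s {T : Over S} {ρ : G → (T ⟶ O.R)} (h : IsFam O G ρ) (σ g : G) : tr h σ g ≫ O.s = ρ σ ≫ O.t :=
  dv_s O _ _ _

theorem tr_t {T : Over S} {ρ : G → (T ⟶ O.R)} (h : IsFam O G ρ) (σ g : G) : tr h σ g ≫ O.t = ρ (g * σ) ≫ O.t :=
  dv_t O _ _ _

theorem comp_tr {T T' : Over S} {ρ : G → (T ⟶ O.R)} (h : IsFam O G ρ) (f : T' ⟶ T) (σ g : G) :
    f ≫ tr h σ g = tr (h.comp f) σ g := comp_dv O _ _ _ _

theorem isFam_tr {T : Over S} {ρ : G → (T ⟶ O.R)} (h : IsFam O G ρ) (σ : G) : IsFam O G (tr h σ) where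
  src g := by rw [tr_s, tr_s]
  one := by
    rw [tr_s, tr, dv_congr O _ (congrArg ρ (_root_.one_mul σ)) rfl, dv_self, Category.assoc]
  dist g k hgk T' f e := by
    rw [comp_tr, comp_tr] at e
    have h1 : g * σ ≠ k * σ := fun h' => hgk (mul_right_cancel h')
    exact h.dist _ _ h1 f (dv_cancel O _ _ e)

theorem tr_tr {T : Over S} {ρ : G → (T ⟶ O.R)} (h : IsFam O G ρ) (σ τ g : G) :
    tr (isFam_tr h σ) τ g = tr h (τ * σ) g := by
  have e1 : tr (isFam_tr h σ) τ g = dv O (ρ (g * τ * σ)) (ρ (τ * σ)) (by rw [h.src, h.src (τ * σ)]) := dv_dv O _ _ _ _ _ _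
  rw [e1, tr]
  exact dv_congr O _ (congrArg ρ (_root_.mul_assoc g τ σ)) rfl

theorem tr_one {T : Over S} {ρ : G → (T ⟶ O.R)} (h : IsFam O G ρ) (g : G) : tr h 1 g = ρ g := by
  rw [tr, dv_congr O _ (congrArg ρ (_root_.mul_one g)) rfl]
  refine dv_unit O _ _ _ ?_
  rw [h.src]
  exact h.one

end Fam

end K743.DistV
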