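import Groth.Agent.AlgSp.K620.LocSep
import Groth.Agent.AlgSp.K620.DiagGeom
import Groth.Agent.AlgSt.K743.Part

/-!
# Points of étale schemes over a separably closed field (helper743)
-/

set_option autoImplicit false
set_option backward.isDefEq.respectTransparency false
set_option backward.isDefEq.respectTransparency.types false

universe u

open CategoryTheory CategoryTheory.Limits AlgebraicGeometry

namespace K743.GeoPt

variable {S : Scheme.{u}} {k : Type u} [Field k] {s : Spec (CommRingCat.of k) ⟶ S}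

/-- the open subscheme over `S` -/
abbrev opn (T : Over S) (W : T.left.Opens) : Over S := Over.mk (W.ι ≫ T.hom)

/-- its inclusion -/
abbrev opnι (T : Over S) (W : T.left.Opens) : opn T W ⟶ T := Over.homMk W.ι

/-- Locally on `T` a morphism to an étale `k`-scheme is constant. -/
theorem exists_open [IsSepClosed k] {F : Over S} (g : F ⟶ Over.mk s) (hg : Etale g.left) {T : Over S} (b : T ⟶ F) (t : T.left) :
    ∃ (l : Over.mk s ⟶ F) (_ : l ≫ g = 𝟙 _) (W : T.left.Opens), t ∈ W ∧
      opnι T W ≫ b = opnι T W ≫ b ≫ g ≫ l := by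
  obtain ⟨l, hl, he⟩ := K620.LocSep.exists_section g hg (b.left t)
  have hl' : l.left ≫ g.left = 𝟙 _ := congrArg CommaMorphism.left hl
  have : IsOpenImmersion l.left := K620.DiagGeom.isOpenImmersion_of_section l.left g.left hl'
  refine ⟨l, hl, b.left ⁻¹ᵁ l.left.opensRange, ⟨_, he⟩, ?_⟩
  ext1
  change (b.left ⁻¹ᵁ l.left.opensRange).ι ≫ b.left = (b.left ⁻¹ᵁ l.left.opensRange).ι ≫ b.left ≫ g.left ≫ l.left
  have hr : Set.range ((b.left ⁻¹ᵁ l.left.opensRange).ι ≫ b.left) ⊆ Set.range l.left := by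
    rintro _ ⟨x, rfl⟩
    exact x.2
  have h1 := IsOpenImmersion.lift_fac l.left ((b.left ⁻¹ᵁ l.left.opensRange).ι ≫ b.left) hr
  rw [← Category.assoc _ b.left, ← h1, Category.assoc, reassoc_of% hl']

/-- a nonempty scheme over a field is an epimorphism to it -/
theorem epi_of_nonempty {T : Over S} (f : T ⟶ Over.mk s) (h : Nonempty T.left) : Epi f := by
  have h1 : Subsingleton (Over.mk s).left := inferInstanceAs (Subsingleton (PrimeSpectrum k))
  have h2 : IsIntegral (Over.mk s).left := inferInstanceAs (IsIntegral (Spec (CommRingCat.of k)))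
  have h3 : Surjective f.left := ⟨fun y => by
    obtain ⟨t⟩ := h
    exact ⟨t, Subsingleton.elim _ _⟩⟩
  have h4 : Epi f.left := Flat.epi_of_flat_of_surjective f.left
  exact ⟨fun a b e => by
    ext1
    exact (cancel_epi f.left).1 (congrArg CommaMorphism.left e)⟩

/-- the largest open subscheme on which two morphisms agree -/
theorem opn_sSup {T Z : Over S} (m m' : T ⟶ Z) :
    opnι T (sSup {W : T.left.Opens | opnι T W ≫ m = opnι T W ≫ m'}) ≫ m =
      opnι T (sSup {W : T.left.Opens | opnι T W ≫ m = opnι T W ≫ m'}) ≫ m' := by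
  let Q : Set T.left.Opens := {W : T.left.Opens | opnι T W ≫ m = opnι T W ≫ m'}
  let j : ∀ i : Q, opn T i.1 ⟶ opn T (sSup Q) := fun i => Over.homMk (T.left.homOfLE (le_sSup i.2)) (by
    change T.left.homOfLE (le_sSup i.2) ≫ (sSup Q).ι ≫ T.hom = i.1.ι ≫ T.hom
    rw [Scheme.homOfLE_ι_assoc])
  have hj : ∀ i, j i ≫ opnι T (sSup Q) = opnι T i.1 := fun i => by
    ext1
    exact Scheme.homOfLE_ι T.left (le_sSup i.2)
  have hp : Part.IsPart j := by
    refine ⟨fun i => inferInstanceAs (IsOpenImmersion (T.left.homOfLE (le_sSup i.2))), ?_⟩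
    rintro ⟨t, ht⟩
    obtain ⟨W, hW, htW⟩ := TopologicalSpace.Opens.mem_sSup.1 ht
    refine ⟨⟨W, hW⟩, ⟨t, htW⟩, ?_⟩
    exact Scheme.homOfLE_apply' (le_sSup hW) t htW
  refine hp.hom_ext fun i => ?_
  change j i ≫ opnι T (sSup Q) ≫ m = j i ≫ opnι T (sSup Q) ≫ m'
  rw [← Category.assoc, ← Category.assoc, hj]
  exact i.2

end K743.GeoPt
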