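import Groth.Agent.AlgSt.K743.DistFun
import Groth.Agent.AlgSt.K743.GeoPt

/-!
# The fixed point given by the automorphisms of a geometric point (helper743)
-/

set_option autoImplicit false
set_option linter.unusedSectionVars false

universe v₂ u₂ u

open CategoryTheory CategoryTheory.Limits MonoidalCategory CartesianMonoidalCategory MonObj GrpObj AlgebraicGeometry K746
open K746.PairRep K746.ChartRep
open K734.Fib (IsVert)

namespace K743.FixPt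

open K743.DistV K743.Cst K743.DistSpec K743.DistEq K743.TwX K743.DistFun K743.GeoPt

variable (R : Type u) [CommRing R] {𝒳 : BasedCategory.{v₂, u₂} (Over (Spec (CommRingCat.of R)))}
  (h𝒳 : FibCat.IsFibGrpd 𝒳.p) {U E : Over (Spec (CommRingCat.of R))} {z : FibCat.overCat U ⥤ᵇ 𝒳}
  (Gc : ChartRep z E) {G : Type u} [Group G]
  {k : Type u} [Field k] {s : Spec (CommRingCat.of k) ⟶ Spec (CommRingCat.of R)} {u₀ : Over.mk s ⟶ U}

/-- a group of automorphisms of a point of the chart -/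
structure AutFam (z : FibCat.overCat U ⥤ᵇ 𝒳) (u₀ : Over.mk s ⟶ U) (α : G → (Xo z u₀ ⟶ Xo z u₀)) : Prop where
  vert : ∀ g, IsVert 𝒳 (α g)
  one : α 1 = 𝟙 _
  mul : ∀ g h, α (g * h) = α h ≫ α g
  inj : Function.Injective α
  surj : ∀ β : Xo z u₀ ⟶ Xo z u₀, IsVert 𝒳 β → ∃ g, α g = β

variable {α : G → (Xo z u₀ ⟶ Xo z u₀)} (hα : AutFam R z u₀ α)

include hα in
theorem exists_rho0 : ∃ ρ : G → (Over.mk s ⟶ E), ∀ g, Gc.IsArr (ρ g) (α g) :=
  ⟨fun g => (PairRep.exists_pt Gc (α g) (hα.vert g)).choose, fun g => (PairRep.exists_pt Gc (α g) (hα.vert g)).choose_spec⟩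

variable {ρ : G → (Over.mk s ⟶ E)} (hρ : ∀ g, Gc.IsArr (ρ g) (α g))

include hα hρ

theorem isFam_rho : IsFam (Gc.toOGpd h𝒳) G ρ where
  src g := (hρ g).hs.trans (hρ 1).hs.symm
  one := by
    have h1 := hρ 1
    rw [hα.one] at h1
    have h2 := h1.pt_unique (isArr_comp_e (G := Gc) u₀)
    have h3 : ρ 1 ≫ Gc.s = u₀ := h1.hs
    change ρ 1 = (ρ 1 ≫ Gc.s) ≫ Gc.e
    rw [h3]
    exact h2
  dist g h hgh T' f e := by
    by_contra hcon
    have hne : Nonempty T'.left := not_isEmpty_iff.1 hcon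
    have := epi_of_nonempty f hne
    have h1 : ρ g = ρ h := (cancel_epi f).1 e
    have h2 := hρ g
    rw [h1] at h2
    exact hgh (hα.inj (h2.arr_unique h𝒳 (hρ h)))

theorem dv_rho (g σ : G) (h : ρ (g * σ) ≫ (Gc.toOGpd h𝒳).s = ρ σ ≫ (Gc.toOGpd h𝒳).s) :
    dv (Gc.toOGpd h𝒳) (ρ (g * σ)) (ρ σ) h = ρ g := by
  symm
  have h1 : ρ g ≫ (Gc.toOGpd h𝒳).s = ρ σ ≫ (Gc.toOGpd h𝒳).t := (hρ g).hs.trans (hρ σ).ht.symm
  refine eq_dv (Gc.toOGpd h𝒳) _ _ _ h h1 ?_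
  have h2 := isArr_mul h𝒳 (hρ σ) (hρ g) h1
  have h3 := hρ (g * σ)
  rw [hα.mul] at h3
  exact h2.pt_unique h3

variable [Fintype G] [DecidableEq G] {A : Type u} [CommRing A] [Algebra R A] [MulSemiringAction G A] [SMulCommClass G R A]
  {r : G → (ConstAct.X R A ⟶ E)} (hr : IsFam (Gc.toOGpd h𝒳) G r)
  (hact : ∀ {T : Over (Spec (CommRingCat.of R))} (p : T ⟶ ConstAct.X R A) (σ g : G),
        K750.TorsPts.act (ConstAct.gaction R A G) (cg R σ T) p ≫ r g = tr (hr.comp p) σ g)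
  (hu : ∀ {T : Over (Spec (CommRingCat.of R))} (ρ : G → (T ⟶ E)), IsFam (Gc.toOGpd h𝒳) G ρ →
        ∃! v : T ⟶ ConstAct.X R A, ∀ g, v ≫ r g = ρ g)
  {v : Over.mk s ⟶ ConstAct.X R A} (hv : ∀ g, v ≫ r g = ρ g)

include hr hact hu hv

theorem act_fix (σ : G) : K750.TorsPts.act (ConstAct.gaction R A G) (cg R σ _) v = v := by
  refine (hu ρ (isFam_rho R h𝒳 Gc hα hρ)).unique (fun g => ?_) hv
  rw [hact]
  exact (dv_congr (Gc.toOGpd h𝒳) _ (hv _) (hv _)).trans (dv_rho R h𝒳 Gc hα hρ g σ _)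

theorem act_fix' (σ : G) {T : Over (Spec (CommRingCat.of R))} (f : T ⟶ Over.mk s) :
    K750.TorsPts.act (ConstAct.gaction R A G) (cg R σ T) (f ≫ v) = f ≫ v := by
  have h1 : f ≫ K750.TorsPts.act (ConstAct.gaction R A G) (cg R σ _) v = f ≫ v :=
    congrArg (f ≫ ·) (act_fix R h𝒳 Gc hα hρ hr hact hu hv σ)
  rw [K750.TorsPts.comp_act, comp_cg] at h1
  exact h1

theorem full [IsSepClosed k] (hs : Etale Gc.s.left) {T : Over (Spec (CommRingCat.of R))} (f : T ⟶ Over.mk s)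
    (β : Xo (xx R Gc r) (f ≫ v) ⟶ Xo (xx R Gc r) (f ≫ v)) (hβ : IsVert 𝒳 β) :
    ∃ (c : T ⟶ ConstAct.GR R G) (h : K750.TorsPts.act (ConstAct.gaction R A G) c (f ≫ v) = f ≫ v),
      (eqD R h𝒳 Gc hr hact).ρ c (f ≫ v) (f ≫ v) h = β := by
  obtain ⟨a, ha⟩ := PairRep.exists_pt Gc (u := (f ≫ v) ≫ r 1 ≫ Gc.s) (v := (f ≫ v) ≫ r 1 ≫ Gc.s) β hβ
  have hu0 : (f ≫ v) ≫ r 1 ≫ Gc.s = f ≫ u₀ := by
    rw [Category.assoc, ← Category.assoc v, hv, (hρ 1).hs]
  have has : a ≫ Gc.s = f ≫ u₀ := ha.hs.trans hu0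
  have hat : a ≫ Gc.t = f ≫ u₀ := ha.ht.trans hu0
  have hF : Etale (pullback.fst u₀ Gc.s).left :=
    MorphismProperty.of_isPullback (P := @Etale) ((IsPullback.of_hasPullback u₀ Gc.s).map (Over.forget _)).flip hs
  let b : T ⟶ pullback u₀ Gc.s := pullback.lift f a has.symm
  have hb1 : b ≫ pullback.fst u₀ Gc.s = f := pullback.lift_fst _ _ _
  have hb2 : b ≫ pullback.snd u₀ Gc.s = a := pullback.lift_snd _ _ _
  -- locally `a` is one of the arrows of the family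
  have key : ∀ t : T.left, ∃ (g : G) (W : T.left.Opens), t ∈ W ∧ opnι T W ≫ a = opnι T W ≫ (f ≫ v) ≫ r g := by
    intro t
    obtain ⟨l, hl, W, htW, hW⟩ := exists_open (pullback.fst u₀ Gc.s) hF b t
    have e1 : opnι T W ≫ a = (opnι T W ≫ f) ≫ l ≫ pullback.snd u₀ Gc.s := by
      have := congrArg (· ≫ pullback.snd u₀ Gc.s) hW
      simp only [Category.assoc, hb2, ← Category.assoc b, hb1] at this
      rw [this, Category.assoc]
    have hne : Nonempty (opn T W).left := ⟨⟨t, htW⟩⟩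
    have := epi_of_nonempty (opnι T W ≫ f) hne
    have e2 : (l ≫ pullback.snd u₀ Gc.s) ≫ Gc.s = u₀ := by
      rw [Category.assoc, ← pullback.condition, ← Category.assoc, hl, Category.id_comp]
    have e3 : (l ≫ pullback.snd u₀ Gc.s) ≫ Gc.t = u₀ := by
      rw [← cancel_epi (opnι T W ≫ f), ← Category.assoc, ← e1, Category.assoc, hat, Category.assoc]
    obtain ⟨m, hm⟩ := PairRep.exists_arr Gc h𝒳 (l ≫ pullback.snd u₀ Gc.s) e2 e3
    obtain ⟨g, hg⟩ := hα.surj m hm.vert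
    subst hg
    have e4 : l ≫ pullback.snd u₀ Gc.s = ρ g := hm.pt_unique (hρ g)
    refine ⟨g, W, htW, ?_⟩
    rw [e1, e4, Category.assoc f, hv, Category.assoc]
  -- the parts
  let Ug : G → T.left.Opens := fun g => sSup {W | opnι T W ≫ a = opnι T W ≫ (f ≫ v) ≫ r g}
  have hUg : ∀ g, opnι T (Ug g) ≫ a = opnι T (Ug g) ≫ (f ≫ v) ≫ r g := by
    intro g
    exact opn_sSup a ((f ≫ v) ≫ r g)
  have hpart : Part.IsPart (fun g => opnι T (Ug g)) := by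
    refine ⟨fun g => inferInstanceAs (IsOpenImmersion (Ug g).ι), fun t => ?_⟩
    obtain ⟨g, W, htW, hW⟩ := key t
    refine ⟨g, ⟨t, ?_⟩, rfl⟩
    exact (le_sSup (a := W) hW : W ≤ Ug g) htW
  obtain ⟨c, hc⟩ := hpart.glue (fun g h hgh W' a' b' e => by
    refine hr.dist g h hgh (a' ≫ opnι T (Ug g) ≫ f ≫ v) ?_
    have e1 : a' ≫ opnι T (Ug g) ≫ a = a' ≫ opnι T (Ug g) ≫ (f ≫ v) ≫ r g := congrArg (a' ≫ ·) (hUg g)
    have e2 : b' ≫ opnι T (Ug h) ≫ a = b' ≫ opnι T (Ug h) ≫ (f ≫ v) ≫ r h := congrArg (b' ≫ ·) (hUg h)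
    have e' : a' ≫ opnι T (Ug g) = b' ≫ opnι T (Ug h) := e
    have e3 : a' ≫ opnι T (Ug g) ≫ (f ≫ v) ≫ r g = (a' ≫ opnι T (Ug g)) ≫ (f ≫ v) ≫ r h := by
      rw [← e1, ← Category.assoc, e', Category.assoc, e2, ← Category.assoc b']
    rw [Category.assoc a'] at e3
    simp only [Category.assoc] at e3 ⊢
    exact e3) (fun g => cg R g (opn T (Ug g)))
  have harr : arr (O := Gc.toOGpd h𝒳) R r c (f ≫ v) = a := by
    refine hpart.hom_ext fun g => ?_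
    change opnι T (Ug g) ≫ _ = opnι T (Ug g) ≫ _
    have hcg : opnι T (Ug g) ≫ c = cg R g (opn T (Ug g)) := hc g
    refine (comp_arr (O := Gc.toOGpd h𝒳) R r (opnι T (Ug g)) c (f ≫ v)).trans ?_
    refine (congrArg (fun c' => arr (O := Gc.toOGpd h𝒳) R r c' (opnι T (Ug g) ≫ f ≫ v)) hcg).trans ?_
    refine (arr_cg (O := Gc.toOGpd h𝒳) R r g (opnι T (Ug g) ≫ f ≫ v)).trans ?_
    exact (Category.assoc _ _ _).trans (hUg g).symm
  have hcf : K750.TorsPts.act (ConstAct.gaction R A G) c (f ≫ v) = f ≫ v := by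
    refine hpart.hom_ext fun g => ?_
    change opnι T (Ug g) ≫ _ = opnι T (Ug g) ≫ _
    have hcg : opnι T (Ug g) ≫ c = cg R g (opn T (Ug g)) := hc g
    rw [K750.TorsPts.comp_act, hcg, ← Category.assoc]
    exact act_fix' R h𝒳 Gc hα hρ hr hact hu hv g (opnι T (Ug g) ≫ f)
  refine ⟨c, hcf, ?_⟩
  have h1 := isArr_rho R h𝒳 Gc hr hact c (f ≫ v) (f ≫ v) hcf
  exact (isArr_cast h1 harr).arr_unique h𝒳 ha

end K743.FixPt
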