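import Groth.Agent.LunaSt.K881.OrbFF
import Groth.Agent.MadRed.K187.TorWt
import Groth.Agent.GIT.K690.FreeHopf
import Groth.Agent.InvQ.K701.Orbit3
import Groth.Agent.InvQ.K701.SchOrbit
import Groth.Agent.HopfRep.K187.Retract

/-!
# Free neighbourhoods of closed orbits for a linearly reductive group

Let `H` be a linearly reductive Hopf algebra of finite type over an algebraically closed field.

* `surj_of_closed`: a closed orbit with trivial stabiliser is isomorphic to the group;
* `surj_all`: if all stabilisers of rational points are trivial then all orbit maps are closed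
  immersions (the action is free with closed orbits);
* `main`: let `φ : A → C` be an equivariant map of algebras of finite type such that `Spec C → Spec A`
  is open and the stabiliser of a point of `Spec C` only depends on its image.  If `w` has a
  closed orbit and the points of `Spec C` over `w` have trivial stabilisers, there is an invariant
  function `h` on `Spec A` with `h(w) = 1` such that all orbit maps of points of `Spec C` with
  `h ≠ 0` are surjective.
-/

set_option autoImplicit false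

universe u v

open TensorProduct HopfRep GLin

namespace K743.FreeNbhd

open Groth.Agent.Books.ComodBasic Groth.Agent.Books.ComodHom Groth.Agent.Books.ComodInv
open Groth.Agent.Sga3C.MatComod K701.Orbit

section Field

variable {k : Type u} [Field k] {H : Type u} [CommRing H] [HopfAlgebra k H]
variable {R : Type u} [CommRing R] [Algebra k R] [Comod k H R] [IsCoactAlg k H R]

theorem sub_mem_map (z : H ⊗[k] H) :
    z - 1 ⊗ₜ[k] (TensorProduct.lid k H
      ((CoalgebraStruct.counit (R := k) (A := H)).rTensor H z)) ∈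
    (RingHom.ker (Bialgebra.counitAlgHom k H)).map
      (Algebra.TensorProduct.includeLeft : H →ₐ[k] H ⊗[k] H) := by
  induction z with
  | zero => simp
  | add a b ha hb =>
    have := add_mem ha hb
    rw [map_add, map_add, tmul_add]
    convert this using 1
    abel
  | tmul a b =>
    rw [LinearMap.rTensor_tmul, TensorProduct.lid_tmul]
    have h1 : a - algebraMap k H (CoalgebraStruct.counit (R := k) a) ∈
        RingHom.ker (Bialgebra.counitAlgHom k H) := by
      rw [RingHom.mem_ker, map_sub, AlgHom.commutes]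
      exact sub_self _
    have h2 := Ideal.mul_mem_right ((1 : H) ⊗ₜ[k] b) _ (Ideal.mem_map_of_mem
      (Algebra.TensorProduct.includeLeft : H →ₐ[k] H ⊗[k] H) h1)
    convert h2 using 1
    rw [Algebra.TensorProduct.includeLeft_apply, Algebra.TensorProduct.tmul_mul_tmul, mul_one,
      one_mul, sub_tmul, Algebra.algebraMap_eq_smul_one, smul_tmul]

/-- A closed orbit with trivial stabiliser: the orbit map is a closed immersion. -/
theorem surj_of_closed {x : R →ₐ[k] k} (hx : IsClosedOrbit k H x)
    (hs : stabIdeal k H x = RingHom.ker (Bialgebra.counitAlgHom k H)) :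
    Function.Surjective (orbitHom k H x) := by
  intro a
  have h1 : a ∈ (orbitHom k H x).range := by
    refine K881.OrbFF.mem_range_of_comul_sub_mem hx ?_
    rw [hs]
    have h2 := sub_mem_map (k := k) (H := H) (Coalgebra.comul (R := k) a)
    have h3 : TensorProduct.lid k H ((CoalgebraStruct.counit (R := k) (A := H)).rTensor H
        (Coalgebra.comul (R := k) a)) = a := by
      have h4 := congrArg (TensorProduct.lid k H) (Coalgebra.rTensor_counit_comul (R := k) a)
      rw [TensorProduct.lid_tmul, one_smul] at h4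
      exact h4
    rw [h3] at h2
    exact h2
  exact h1

theorem stabIdeal_of_surj {x : R →ₐ[k] k} (hx : Function.Surjective (orbitHom k H x)) :
    stabIdeal k H x = RingHom.ker (Bialgebra.counitAlgHom k H) := by
  apply le_antisymm
  · rw [stabIdeal, Ideal.map_le_iff_le_comap]
    intro f hf
    rw [Ideal.mem_comap, RingHom.mem_ker]
    change CoalgebraStruct.counit (R := k) (orbitHom k H x f) = 0
    rw [counit_orbitHom]
    exact hf
  · intro a ha
    obtain ⟨f, rfl⟩ := hx a
    refine Ideal.mem_map_of_mem _ ?_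
    rw [RingHom.mem_ker] at ha ⊢
    rw [← counit_orbitHom (A := H)]
    exact ha

theorem stabIdeal_le {x : R →ₐ[k] k} :
    stabIdeal k H x ≤ RingHom.ker (Bialgebra.counitAlgHom k H) := by
  rw [stabIdeal, Ideal.map_le_iff_le_comap]
  intro f hf
  rw [Ideal.mem_comap, RingHom.mem_ker]
  change CoalgebraStruct.counit (R := k) (orbitHom k H x f) = 0
  rw [counit_orbitHom]
  exact hf

/-- Equivariant sections of orbit maps. -/
theorem exists_section (hG : IsLinearlyReductive k H) {z : R →ₐ[k] k}
    (hz : Function.Surjective (orbitHom k H z)) :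
    ∃ s : H →ₗ[k] R, IsComodHom k H s ∧ ∀ a, orbitHom k H z (s a) = a := by
  obtain ⟨N, hN, hc⟩ := K688.Reynolds.exists_isCompl_isSubcomod hG
    (LinearMap.ker (orbitHom k H z).toLinearMap) (isComodHom_orbitHom z).isSubcomod_ker
  let π : R →ₗ[k] H := (orbitHom k H z).toLinearMap
  let f : N →ₗ[k] H := π ∘ₗ N.subtype
  have hinj : Function.Injective f := by
    rw [← LinearMap.ker_eq_bot, LinearMap.ker_eq_bot']
    intro n hn
    have h1 : (n : R) ∈ LinearMap.ker π ⊓ N := ⟨hn, n.2⟩
    rw [hc.inf_eq_bot] at h1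
    exact Subtype.ext ((Submodule.mem_bot k).1 h1)
  have hsurj : Function.Surjective f := by
    intro a
    obtain ⟨r, rfl⟩ := hz a
    have h1 : r ∈ LinearMap.ker π ⊔ N := by rw [hc.sup_eq_top]; trivial
    obtain ⟨i, hi, n, hn, hin⟩ := Submodule.mem_sup.1 h1
    refine ⟨⟨n, hn⟩, ?_⟩
    change π n = π r
    rw [← hin, map_add, LinearMap.mem_ker.1 hi, zero_add]
  let e : N ≃ₗ[k] H := LinearEquiv.ofBijective f ⟨hinj, hsurj⟩
  have he : ∀ a, π (e.symm a : R) = a := fun a => e.apply_symm_apply a
  refine ⟨N.subtype ∘ₗ e.symm.toLinearMap, ?_, he⟩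
  rw [isComodHom_iff_dact]
  intro ψ a
  have h1 : dact R ψ (e.symm a : R) ∈ N := (isSubcomod_iff_dact N).1 hN ψ _ (e.symm a).2
  change ((e.symm (dact H ψ a) : N) : R) = dact R ψ (e.symm a : R)
  have h2 : e.symm (dact H ψ a) = ⟨_, h1⟩ := by
    apply hinj
    change π (e.symm (dact H ψ a) : R) = π (dact R ψ (e.symm a : R))
    rw [he]
    have h3 := (isComodHom_orbitHom (A := H) z).map_dact ψ (e.symm a : R)
    change π (dact R ψ (e.symm a : R)) = dact H ψ (π (e.symm a : R)) at h3
    rw [h3, he]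
  rw [h2]

/-- The orbit map on the entries of a matrix of elements transforming under a multiplicative
matrix. -/
theorem orbitHom_section {n : Type} [Fintype n] [DecidableEq n] {m : Matrix n n H}
    (hm : IsMult k m) {s : H →ₗ[k] R} (hs : IsComodHom k H s) (x : R →ₐ[k] k) (i j : n) :
    orbitHom k H x (s (m i j)) = ∑ l, algebraMap k H (x (s (m i l))) * m l j := by
  rw [orbitHom_apply]
  have h1 : Comod.coact (k := k) (A := H) (s (m i j)) =
      s.rTensor H (CoalgebraStruct.comul (R := k) (m i j)) := hs (m i j)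
  rw [h1, hm.comul, map_sum, map_sum, map_sum]
  refine Finset.sum_congr rfl fun l _ => ?_
  rw [LinearMap.rTensor_tmul, LinearMap.rTensor_tmul, TensorProduct.lid_tmul, Algebra.smul_def]
  rfl

section Mat

variable {n : Type} [Fintype n] [DecidableEq n] {m : Matrix n n H}

theorem map_orbitHom_section
    (hm : IsMult k m) {s : H →ₗ[k] R} (hs : IsComodHom k H s) (x : R →ₐ[k] k) :
    (m.map s).map (orbitHom k H x) = ((m.map s).map x).map (algebraMap k H) * m := by
  ext i j
  rw [Matrix.map_apply, Matrix.map_apply, orbitHom_section hm hs, Matrix.mul_apply]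
  rfl

theorem orbitHom_det
    (hm : IsMult k m) {s : H →ₗ[k] R} (hs : IsComodHom k H s) (x : R →ₐ[k] k) :
    orbitHom k H x (m.map s).det = algebraMap k H (x (m.map s).det) * m.det := by
  have h1 := congrArg Matrix.det (map_orbitHom_section hm hs x)
  rw [Matrix.det_mul] at h1
  have h2 : ((m.map s).map (orbitHom k H x)).det = orbitHom k H x (m.map s).det :=
    (RingHom.map_det (orbitHom k H x).toRingHom _).symm
  have h3 : (((m.map s).map x).map (algebraMap k H)).det = algebraMap k H (x (m.map s).det) := by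
    have h4 : ((m.map s).map x).det = x (m.map s).det := (RingHom.map_det x.toRingHom _).symm
    rw [← h4]
    exact (RingHom.map_det (algebraMap k H) _).symm
  rw [h2, h3] at h1
  exact h1

/-- If the determinant does not vanish at `x` then the orbit map of `x` is surjective. -/
theorem surj_of_det_ne (hm : IsMult k m)
    (hgen : Algebra.adjoin k (Set.range fun x : n × n => m x.1 x.2) = ⊤)
    {s : H →ₗ[k] R} (hs : IsComodHom k H s) {x : R →ₐ[k] k} (hx : x (m.map s).det ≠ 0) :
    Function.Surjective (orbitHom k H x) := by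
  have h1 := map_orbitHom_section hm hs x
  have hdet : IsUnit ((m.map s).map x).det := by
    have h4 : ((m.map s).map x).det = x (m.map s).det := (RingHom.map_det x.toRingHom _).symm
    rw [h4]
    exact isUnit_iff_ne_zero.2 hx
  have h2 : (((m.map s).map x)⁻¹).map (algebraMap k H) *
      ((m.map s).map (orbitHom k H x)) = m := by
    rw [h1, ← Matrix.mul_assoc, ← Matrix.map_mul, Matrix.nonsing_inv_mul _ hdet,
      Matrix.map_one _ (map_zero _) (map_one _), Matrix.one_mul]
  have h3 : (⊤ : Subalgebra k H) ≤ (orbitHom k H x).range := by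
    rw [← hgen, Algebra.adjoin_le_iff]
    rintro _ ⟨⟨i, j⟩, rfl⟩
    change m i j ∈ _
    rw [← h2, Matrix.mul_apply]
    refine sum_mem fun l _ => mul_mem ?_ ?_
    · exact Subalgebra.algebraMap_mem _ _
    · exact ⟨_, rfl⟩
  intro a
  exact h3 trivial

/-- The non-vanishing locus of the determinant is closed under generisation of orbits. -/
theorem det_ne_of_le (hm : IsMult k m) {s : H →ₗ[k] R} (hs : IsComodHom k H s)
    {x y : R →ₐ[k] k} (hxy : RingHom.ker (orbitHom k H x) ≤ RingHom.ker y)
    (hy : y (m.map s).det ≠ 0) : x (m.map s).det ≠ 0 := by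
  intro h0
  apply hy
  have h1 : (m.map s).det ∈ RingHom.ker (orbitHom k H x) := by
    rw [RingHom.mem_ker, orbitHom_det hm hs, h0, map_zero, zero_mul]
  exact hxy h1

theorem det_section (hm : IsMult k m) {s : H →ₗ[k] R} {z : R →ₐ[k] k}
    (hz : ∀ a, orbitHom k H z (s a) = a) : z (m.map s).det = 1 := by
  have h4 : ((m.map s).map z).det = z (m.map s).det := (RingHom.map_det z.toRingHom _).symm
  rw [← h4]
  have h5 : (m.map s).map z = 1 := by
    ext i j
    rw [Matrix.map_apply, Matrix.map_apply, ← counit_orbitHom (A := H), hz, hm.counit,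
      Matrix.one_apply]
  rw [h5, Matrix.det_one]

end Mat

end Field

section Closed

variable {k : Type u} [Field k] [IsAlgClosed k] {H : Type u} [CommRing H] [HopfAlgebra k H]
  [Algebra.FiniteType k H]
variable {R : Type u} [CommRing R] [Algebra k R] [Comod k H R] [IsCoactAlg k H R]
  [Algebra.FiniteType k R]

/-- If the stabilisers of all rational points are trivial, then all orbit maps are surjective. -/
theorem surj_all (hG : IsLinearlyReductive k H)
    (hs : ∀ x : R →ₐ[k] k, stabIdeal k H x = RingHom.ker (Bialgebra.counitAlgHom k H))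
    (x : R →ₐ[k] k) : Function.Surjective (orbitHom k H x) := by
  obtain ⟨n, _, _, m, hm, hgen⟩ := K187.TorWt.exists_gen k H
  have hne : RingHom.ker (orbitHom k H x) ≠ ⊤ := by
    intro h
    have h1 : (1 : R) ∈ RingHom.ker x := ker_orbitHom_le_ker (A := H) x (h ▸ Submodule.mem_top)
    rw [RingHom.mem_ker, map_one] at h1
    exact one_ne_zero h1
  obtain ⟨y, hy1, hy2⟩ := K701.Orbit2.exists_closed_orbit (RingHom.ker (orbitHom k H x))
    (isSubcomod_ker_orbitHom x) hne
  have hy3 : IsClosedOrbit k H y := (K701.SchOrbit.isClosedOrbit_iff y).2 hy2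
  have hy4 := surj_of_closed hy3 (hs y)
  obtain ⟨s, hs1, hs2⟩ := exists_section hG hy4
  refine surj_of_det_ne hm hgen hs1 (det_ne_of_le hm hs1 (y := y) hy1 ?_)
  rw [det_section hm hs2]
  exact one_ne_zero

section Over

variable {A C : Type u} [CommRing A] [Algebra k A] [Comod k H A] [IsCoactAlg k H A]
  [CommRing C] [Algebra k C] [Comod k H C] [IsCoactAlg k H C]

omit [IsAlgClosed k] [Algebra.FiniteType k H] in
theorem orbitHom_comp (φ : A →ₐ[k] C) (hφ : IsComodHom k H φ.toLinearMap) (z : C →ₐ[k] k)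
    (f : A) : orbitHom k H (z.comp φ) f = orbitHom k H z (φ f) := by
  rw [orbitHom_apply, orbitHom_apply]
  have h1 : Comod.coact (k := k) (A := H) (φ f) =
      φ.toLinearMap.rTensor H (Comod.coact (k := k) (A := H) f) := hφ f
  rw [h1, ← LinearMap.rTensor_comp_apply]
  rfl

omit [IsAlgClosed k] [Algebra.FiniteType k H] in
theorem actPt_comp (φ : A →ₐ[k] C) (hφ : IsComodHom k H φ.toLinearMap) (z : C →ₐ[k] k)
    (g : H →ₐ[k] k) : (actPt k g z).comp φ = actPt k g (z.comp φ) := by
  ext f
  rw [actPt_apply, orbitHom_comp φ hφ, AlgHom.comp_apply, actPt_apply]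

/-- Over a closed orbit of the base there is a point whose own orbit is closed. -/
theorem exists_closedOrb_over [Algebra.FiniteType k C] (φ : A →ₐ[k] C)
    (hφ : IsComodHom k H φ.toLinearMap)
    {w : A →ₐ[k] k} (hw : IsClosedOrbit k H w) (z : C →ₐ[k] k) (hz : z.comp φ = w) :
    ∃ z' : C →ₐ[k] k, z'.comp φ = w ∧ IsClosedOrbit k H z' := by
  have hne : RingHom.ker (orbitHom k H z) ≠ ⊤ := by
    intro h
    have h1 : (1 : C) ∈ RingHom.ker z := ker_orbitHom_le_ker (A := H) z (h ▸ Submodule.mem_top)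
    rw [RingHom.mem_ker, map_one] at h1
    exact one_ne_zero h1
  obtain ⟨y, hy1, hy2⟩ := K701.Orbit2.exists_closed_orbit (RingHom.ker (orbitHom k H z))
    (isSubcomod_ker_orbitHom z) hne
  obtain ⟨g, hg⟩ := K690.Orbits.exists_actPt_of_ker_le (z := y.comp φ) hw (by
    intro f hf
    rw [RingHom.mem_ker] at hf ⊢
    rw [AlgHom.comp_apply]
    refine hy1 _ ?_
    rw [RingHom.mem_ker, ← orbitHom_comp φ hφ, hz, hf])
  refine ⟨actPt k (K690.Orbits.invPt g) y, ?_, ?_⟩
  · rw [actPt_comp φ hφ, hg, K690.Orbits.actPt_invPt_actPt]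
  · rw [K701.SchOrbit.isClosedOrbit_iff]
    intro t ht
    rw [ker_orbitHom_actPt] at ht
    obtain ⟨g', rfl⟩ := hy2 t ht
    obtain ⟨g'', hg''⟩ : ∃ g'', y = actPt k g'' (actPt k (K690.Orbits.invPt g) y) := by
      have h1 := K701.Orbit2.exists_actPt_eq_of_ker_eq (actPt k (K690.Orbits.invPt g) y) y
        (ker_orbitHom_actPt y _)
      exact h1
    refine ⟨K690.Orbits.mulPt g'' g', ?_⟩
    rw [← K690.Orbits.actPt_actPt, ← hg'']

/-! ### The largest stable ideal inside an ideal -/

omit [IsAlgClosed k] [Algebra.FiniteType k H] in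
variable (H) in
/-- `A → (A/J) ⊗ H` -/
noncomputable def Psi (J : Ideal A) : A →ₐ[k] (A ⧸ J) ⊗[k] H :=
  (Algebra.TensorProduct.map (Ideal.Quotient.mkₐ k J) (AlgHom.id k H)).comp (coactAlgHom k H A)

omit [IsAlgClosed k] [Algebra.FiniteType k H] in
theorem mem_ker_Psi (J : Ideal A) (f : A) :
    f ∈ RingHom.ker (Psi (k := k) H J) ↔ ∀ ψ : H →ₗ[k] k, dact A ψ f ∈ J := by
  have h1 : ∀ (ψ : H →ₗ[k] k), slice (A ⧸ J) ψ (Psi (k := k) H J f) =
      Ideal.Quotient.mkₐ k J (dact A ψ f) := by
    intro ψ
    exact slice_rTensor ψ (Ideal.Quotient.mkₐ k J).toLinearMap _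
  rw [RingHom.mem_ker]
  constructor
  · intro h ψ
    have h2 := h1 ψ
    rw [h, map_zero] at h2
    exact Ideal.Quotient.eq_zero_iff_mem.1 h2.symm
  · intro h
    refine eq_zero_of_slice fun ψ => ?_
    rw [h1]
    exact Ideal.Quotient.eq_zero_iff_mem.2 (h ψ)

omit [IsAlgClosed k] [Algebra.FiniteType k H] in
theorem isSubcomod_ker_Psi (J : Ideal A) :
    IsSubcomod (k := k) (A := H) ((RingHom.ker (Psi (k := k) H J)).restrictScalars k) := by
  rw [isSubcomod_iff_dact]
  intro φ f hf
  have h1 := (mem_ker_Psi (H := H) J f).1 hf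
  refine (mem_ker_Psi (H := H) J _).2 fun ψ => ?_
  rw [dact_dact]
  exact h1 _

omit [IsAlgClosed k] [Algebra.FiniteType k H] in
theorem ker_Psi_le (J : Ideal A) : RingHom.ker (Psi (k := k) H J) ≤ J := by
  intro f hf
  have h1 := (mem_ker_Psi (H := H) J f).1 hf (CoalgebraStruct.counit (R := k) (A := H))
  rwa [dact_counit] at h1

/-- If the zero set of `J` is stable then the points of `ker Ψ` are those of `J`. -/
theorem le_ker_of_Psi [Algebra.FiniteType k A] (J : Ideal A)
    (hJ : ∀ (p : A →ₐ[k] k) (g : H →ₐ[k] k), J ≤ RingHom.ker p → J ≤ RingHom.ker (actPt k g p))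
    {x : A →ₐ[k] k} (hx : RingHom.ker (Psi (k := k) H J) ≤ RingHom.ker x) :
    J ≤ RingHom.ker x := by
  intro f hf
  have hft : Algebra.FiniteType k ((A ⧸ J) ⊗[k] H) :=
    Algebra.FiniteType.trans (S := A ⧸ J) inferInstance inferInstance
  obtain ⟨N, hN⟩ := Groth.Agent.Books.PointsAC.isNilpotent_of_forall_point k ((A ⧸ J) ⊗[k] H)
    (Psi (k := k) H J f) (by
      intro q
      let p : A →ₐ[k] k := (q.comp Algebra.TensorProduct.includeLeft).comp (Ideal.Quotient.mkₐ k J)
      let g : H →ₐ[k] k := q.comp Algebra.TensorProduct.includeRight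
      have hp : J ≤ RingHom.ker p := by
        intro a ha
        rw [RingHom.mem_ker]
        change q ((Ideal.Quotient.mkₐ k J a) ⊗ₜ 1) = 0
        have : Ideal.Quotient.mkₐ k J a = 0 := Ideal.Quotient.eq_zero_iff_mem.2 ha
        rw [this, zero_tmul, map_zero]
      have h2 : q (Psi (k := k) H J f) = actPt k g p f := by
        have h3 : q.comp (Algebra.TensorProduct.map (Ideal.Quotient.mkₐ k J) (AlgHom.id k H)) =
            (g.comp (Algebra.TensorProduct.lid k H).toAlgHom).comp
              (Algebra.TensorProduct.map p (AlgHom.id k H)) := by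
          apply Algebra.TensorProduct.ext'
          intro a b
          simp only [AlgHom.comp_apply, Algebra.TensorProduct.map_tmul, AlgHom.id_apply]
          have h4 : (Algebra.TensorProduct.lid k H).toAlgHom (p a ⊗ₜ b) = p a • b :=
            Algebra.TensorProduct.lid_tmul _ _
          rw [h4, map_smul, smul_eq_mul]
          change q (_ ⊗ₜ _) = q (_ ⊗ₜ 1) * q (1 ⊗ₜ _)
          rw [← map_mul, Algebra.TensorProduct.tmul_mul_tmul, mul_one, one_mul]
          rfl
        exact DFunLike.congr_fun h3 (coactAlgHom k H A f)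
      rw [h2]
      exact hJ p g hp hf)
  rw [← map_pow] at hN
  have h1 : f ^ N ∈ RingHom.ker x := hx hN
  rw [RingHom.mem_ker, map_pow] at h1
  by_contra hne
  exact pow_ne_zero N hne h1

/-- A rational point of `A` in the image of the open set `d ≠ 0` lifts to a rational point with
`d ≠ 0`. -/
theorem exists_point_over [Algebra.FiniteType k C] (φ : A →ₐ[k] C) (d : C) (p : A →ₐ[k] k)
    (hp : (⟨RingHom.ker p, RingHom.ker_isPrime p⟩ : PrimeSpectrum A) ∈
      PrimeSpectrum.comap φ.toRingHom '' (PrimeSpectrum.basicOpen d : Set (PrimeSpectrum C))) :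
    ∃ c : C →ₐ[k] k, c.comp φ = p ∧ c d ≠ 0 := by
  obtain ⟨q, hq, hqp⟩ := hp
  have hqd : d ∉ q.asIdeal := hq
  have hq' : q.asIdeal.comap φ.toRingHom = RingHom.ker p := congrArg PrimeSpectrum.asIdeal hqp
  by_contra hcon
  push Not at hcon
  apply hqd
  have h1 : d ∈ ((RingHom.ker p).map φ.toRingHom).radical := by
    refine K701.Basic.mem_radical_of_forall_point (k := k) _ _ fun c hc => ?_
    refine hcon c ?_
    have h2 : ∀ f ∈ RingHom.ker p, c (φ f) = 0 := fun f hf => hc _ (Ideal.mem_map_of_mem _ hf)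
    ext f
    have h3 : f - algebraMap k A (p f) ∈ RingHom.ker p := by
      rw [RingHom.mem_ker, map_sub, AlgHom.commutes]
      exact sub_self _
    have h4 := h2 _ h3
    rw [map_sub, AlgHom.commutes, map_sub, AlgHom.commutes, sub_eq_zero] at h4
    exact h4
  have h5 : (RingHom.ker p).map φ.toRingHom ≤ q.asIdeal := by
    rw [Ideal.map_le_iff_le_comap, hq']
  exact (Ideal.IsPrime.radical_le_iff q.2).2 h5 h1

omit [IsAlgClosed k] [Algebra.FiniteType k H] [Comod k H A] [IsCoactAlg k H A] [Comod k H C]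
  [IsCoactAlg k H C] [HopfAlgebra k H] [CommRing H] in
theorem mem_image_of_point (φ : A →ₐ[k] C) (d : C) (p : A →ₐ[k] k) (c : C →ₐ[k] k)
    (hc : c.comp φ = p) (hd : c d ≠ 0) :
    (⟨RingHom.ker p, RingHom.ker_isPrime p⟩ : PrimeSpectrum A) ∈
      PrimeSpectrum.comap φ.toRingHom '' (PrimeSpectrum.basicOpen d : Set (PrimeSpectrum C)) := by
  refine ⟨⟨RingHom.ker c, RingHom.ker_isPrime c⟩, ?_, ?_⟩
  · exact hd
  · subst hc
    rfl

/-- **Free neighbourhoods of closed orbits.** -/
theorem exists_invariant (hG : IsLinearlyReductive k H) [Algebra.FiniteType k A]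
    [Algebra.FiniteType k C] (φ : A →ₐ[k] C) (hφ : IsComodHom k H φ.toLinearMap)
    (hopen : ∀ d : C, IsOpen (PrimeSpectrum.comap φ.toRingHom ''
      (PrimeSpectrum.basicOpen d : Set (PrimeSpectrum C))))
    (hst : ∀ x x' : C →ₐ[k] k, x.comp φ = x'.comp φ → stabIdeal k H x = stabIdeal k H x')
    (w : A →ₐ[k] k) (hw : IsClosedOrbit k H w) (z : C →ₐ[k] k) (hz : z.comp φ = w)
    (hs : ∀ z : C →ₐ[k] k, z.comp φ = w →
      stabIdeal k H z = RingHom.ker (Bialgebra.counitAlgHom k H)) :
    ∃ h ∈ invariants k H A, w h = 1 ∧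
      ∀ x : C →ₐ[k] k, x (φ h) ≠ 0 → stabIdeal k H x = RingHom.ker (Bialgebra.counitAlgHom k H) := by
  obtain ⟨n, _, _, m, hm, hgen⟩ := K187.TorWt.exists_gen k H
  obtain ⟨z', hz', hzc⟩ := exists_closedOrb_over φ hφ hw z hz
  have hsurj := surj_of_closed hzc (hs z' hz')
  obtain ⟨s, hs1, hs2⟩ := exists_section hG hsurj
  set d : C := (m.map s).det with hd
  have hd1 : z' d ≠ 0 := by
    rw [hd, det_section hm hs2]
    exact one_ne_zero
  let U : Set (PrimeSpectrum A) := PrimeSpectrum.comap φ.toRingHom ''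
      (PrimeSpectrum.basicOpen d : Set (PrimeSpectrum C))
  have hU : IsOpen U := hopen d
  let J : Ideal A := PrimeSpectrum.vanishingIdeal Uᶜ
  have hJ : ∀ p : A →ₐ[k] k, J ≤ RingHom.ker p ↔
      (⟨RingHom.ker p, RingHom.ker_isPrime p⟩ : PrimeSpectrum A) ∉ U := by
    intro p
    have h1 := (PrimeSpectrum.zeroLocus_vanishingIdeal_eq_closure (Uᶜ)).symm
    rw [hU.isClosed_compl.closure_eq] at h1
    change J ≤ RingHom.ker p ↔ (⟨RingHom.ker p, RingHom.ker_isPrime p⟩ : PrimeSpectrum A) ∈ Uᶜ
    rw [h1, PrimeSpectrum.mem_zeroLocus]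
    rfl
  have hstab : ∀ (p : A →ₐ[k] k) (g : H →ₐ[k] k), J ≤ RingHom.ker p →
      J ≤ RingHom.ker (actPt k g p) := by
    intro p g hp
    rw [hJ] at hp ⊢
    intro hcon
    apply hp
    obtain ⟨c, hc1, hc2⟩ := exists_point_over φ d _ hcon
    refine mem_image_of_point φ d p (actPt k (K690.Orbits.invPt g) c) ?_ ?_
    · rw [actPt_comp φ hφ, hc1, K690.Orbits.actPt_invPt_actPt]
    · refine det_ne_of_le hm hs1 (y := c) ?_ hc2
      rw [ker_orbitHom_actPt]
      exact ker_orbitHom_le_ker c
  have htop : RingHom.ker (Psi (k := k) H J) ⊔ RingHom.ker (orbitHom k H w) = ⊤ := by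
    by_contra hne
    obtain ⟨y, hy⟩ := K690.Orbits.exists_point_of_ne_top (k := k) _ hne
    obtain ⟨g, rfl⟩ := K690.Orbits.exists_actPt_of_ker_le hw (le_sup_right.trans hy)
    have h1 := le_ker_of_Psi J hstab (le_sup_left.trans hy)
    have h2 := hstab _ (K690.Orbits.invPt g) h1
    rw [K690.Orbits.actPt_invPt_actPt, hJ] at h2
    exact h2 (mem_image_of_point φ d w z' hz' hd1)
  obtain ⟨h, hinv, hmem, hsub⟩ := K690.Orbits.exists_invariant_sub_mem hG
    (RingHom.ker (Psi (k := k) H J)) (RingHom.ker (orbitHom k H w)) (isSubcomod_ker_Psi J)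
    (isSubcomod_ker_orbitHom w) htop
  refine ⟨h, hinv, ?_, ?_⟩
  · have h1 := ker_orbitHom_le_ker (A := H) w hsub
    rw [RingHom.mem_ker, map_sub, map_one, sub_eq_zero] at h1
    exact h1.symm
  · intro x hx
    have h1 : ¬ J ≤ RingHom.ker (x.comp φ) := fun hle => hx (hle (ker_Psi_le J hmem))
    rw [hJ, not_not] at h1
    obtain ⟨c, hc1, hc2⟩ := exists_point_over φ d _ h1
    rw [hst x c hc1.symm]
    exact stabIdeal_of_surj (surj_of_det_ne hm hgen hs1 hc2)

omit [IsAlgClosed k] [Algebra.FiniteType k H] in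
/-- Stabilisers and equivariant maps. -/
theorem stabIdeal_comp_le (j : A →ₐ[k] C) (hj : IsComodHom k H j.toLinearMap) (x : C →ₐ[k] k) :
    stabIdeal k H (x.comp j) ≤ stabIdeal k H x := by
  rw [stabIdeal, Ideal.map_le_iff_le_comap]
  intro f hf
  rw [Ideal.mem_comap, orbitHom_comp j hj]
  exact Ideal.mem_map_of_mem _ hf

/-- **Free neighbourhoods of closed orbits**, second form: all orbit maps over the locus `h ≠ 0`
are surjective. -/
theorem main (hG : IsLinearlyReductive k H) [Algebra.FiniteType k A]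
    [Algebra.FiniteType k C] (φ : A →ₐ[k] C) (hφ : IsComodHom k H φ.toLinearMap)
    (hopen : ∀ d : C, IsOpen (PrimeSpectrum.comap φ.toRingHom ''
      (PrimeSpectrum.basicOpen d : Set (PrimeSpectrum C))))
    (hst : ∀ x x' : C →ₐ[k] k, x.comp φ = x'.comp φ → stabIdeal k H x = stabIdeal k H x')
    (w : A →ₐ[k] k) (hw : IsClosedOrbit k H w) (z : C →ₐ[k] k) (hz : z.comp φ = w)
    (hs : ∀ z : C →ₐ[k] k, z.comp φ = w →
      stabIdeal k H z = RingHom.ker (Bialgebra.counitAlgHom k H)) :
    ∃ h ∈ invariants k H A, w h = 1 ∧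
      ∀ (C' : Type u) [CommRing C'] [Algebra k C'] [Algebra.FiniteType k C'] [Comod k H C']
        [IsCoactAlg k H C'] (j : C →ₐ[k] C'), IsComodHom k H j.toLinearMap → IsUnit (j (φ h)) →
        ∀ x : C' →ₐ[k] k, Function.Surjective (orbitHom k H x) := by
  obtain ⟨h, h1, h2, h3⟩ := exists_invariant hG φ hφ hopen hst w hw z hz hs
  refine ⟨h, h1, h2, fun C' _ _ _ _ _ j hj hu x => ?_⟩
  refine surj_all hG (fun x => le_antisymm stabIdeal_le ?_) x
  rw [← h3 (x.comp j) (hu.map x).ne_zero]
  exact stabIdeal_comp_le j hj x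

end Over

end Closed

end K743.FreeNbhd
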