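import Groth.Agent.AlgSt.K743.Name
import Groth.Agent.AlgSt.K747.AffAct
import Groth.Agent.AlgSt.K747.SecFp
import Groth.Agent.AlgSt.K750.QOpen
import Groth.Agent.AlgSt.K734.Grpd
import Groth.Agent.AlgSt.K736.Prod
import Groth.Agent.AlgSt.K736.Props
import Groth.Agent.AlgSp.K594.Quot
import Groth.Agent.AlgSp.K607.Pt
import Groth.Agent.AlgSp.K628.Props
import Groth.Agent.NonAbH1.K551.Tors
import Groth.Agent.S12762
import Groth.Agent.S13571
import Groth.Agent.S12844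

/-!
# Free quotients and affineness of functors on `[U/H]`

`main`: let `f : [W/H] ⟶ 𝒳`, `v : V ⟶ 𝒳` a smooth surjective chart, `E = W ×_𝒳 V` with its `H`-action, `U ⊆ W` a stable open
subscheme with preimage `X ⊆ E`.  If `X` is a torsor over an affine scheme `Q` then `[U/H] ⟶ 𝒳` is representable and affine.
-/

set_option autoImplicit false
set_option backward.isDefEq.respectTransparency false
set_option backward.isDefEq.respectTransparency.types false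

universe w v u

open CategoryTheory CategoryTheory.Limits MonoidalCategory CartesianMonoidalCategory MonObj GrpObj AlgebraicGeometry
open Opposite Groth.Agent.Books.BorelOrb AlgSt

namespace K743.FreeRep

open K744.Quot K739.Psh K750.QStab K747.Sc K747.AffAct K734.Fib K743.Name

section pts

variable {S : Scheme.{u}} {K : Precoverage Scheme.{u}} [K.HasIsos] {H W : Over S} [GrpObj H] {aW : AlgGrp.Action H W}
  (U : W.left.Opens) (hU : aW.act.left ⁻¹ᵁ U = (snd H W).left ⁻¹ᵁ U)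

/-- the morphism `t : T ⟶ W` lands in `U` -/
def InU {T : Over S} (t : T ⟶ W) : Prop := t.left ⁻¹ᵁ U = ⊤

variable {U}

theorem InU.comp {T T' : Over S} {t : T ⟶ W} (h : InU U t) (g : T' ⟶ T) : InU U (g ≫ t) := by
  rw [InU, Over.comp_left, Scheme.Hom.comp_preimage, h]
  rfl

include hU in
theorem inU_triv {T : Over S} {t : T ⟶ W} (h : InU U t) :
    ((Y K aW).obj (Over.mk t)).φ.left ⁻¹ᵁ U = ⊤ := by
  change ((H ◁ t) ≫ aW.act).left ⁻¹ᵁ U = ⊤
  rw [Over.comp_left, Scheme.Hom.comp_preimage, hU, ← Scheme.Hom.comp_preimage, ← Over.comp_left, whiskerLeft_snd,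
    Over.comp_left, Scheme.Hom.comp_preimage, h]
  rfl

end pts

section obj

variable {S : Scheme.{u}} {K : Precoverage Scheme.{u}} [K.HasIsos] {H W : Over S} [GrpObj H] {aW : AlgGrp.Action H W}
  {𝒳 : BasedCategory.{u, w} (Over S)} (h𝒳 : FibCat.IsFibGrpd 𝒳.p) (f : QuotSt K H aW ⥤ᵇ 𝒳) {V : Over S}
  (v : FibCat.overCat V ⥤ᵇ 𝒳) (U : W.left.Opens) (hU : aW.act.left ⁻¹ᵁ U = (snd H W).left ⁻¹ᵁ U)

/-- the functor on the open substack -/
noncomputable abbrev fU : AlgSt.fullSub (QuotSt K H aW) (fun o => o.φ.left ⁻¹ᵁ U = ⊤) ⥤ᵇ 𝒳 :=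
  BasedFunctor.comp (AlgSt.subIncl (QuotSt K H aW) (fun o => o.φ.left ⁻¹ᵁ U = ⊤)) f

variable {v}

/-- the object of `V ×_𝒳 [U/H]` given by a section -/
noncomputable def qobj {T : Over S} (s : Sec (Yf f) v T) (hs : InU U s.t) : (FibCat.fp v (fU f U)).obj :=
  mkObj (F := v) (G := fU f U) (Over.mk s.u)
    (⟨(Y K aW).obj (Over.mk s.t), inU_triv hU hs⟩ :
      (AlgSt.fullSub (QuotSt K H aW) (fun o => o.φ.left ⁻¹ᵁ U = ⊤)).obj)
    (s.iso h𝒳).symm (IsVert.inv s.vert)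

/-- morphisms from restriction -/
noncomputable def qmap {T T' : Over S} {m : T' ⟶ T} {s : Sec (Yf f) v T} {s' : Sec (Yf f) v T'} (h : IsRes m s s')
    (hs : InU U s.t) (hs' : InU U s'.t) : qobj h𝒳 f U hU s' hs' ⟶ qobj h𝒳 f U hU s hs :=
  mkHomFp (F := v) (G := fU f U) (a := qobj h𝒳 f U hU s' hs') (b := qobj h𝒳 f U hU s hs)
    (om m s.u s'.u h.hu) (ObjectProperty.homMk ((Y K aW).map (om m s.t s'.t h.ht))) (by
      change v.map (om m s.u s'.u h.hu) ≫ (s.iso h𝒳).inv = (s'.iso h𝒳).inv ≫ f.map ((Y K aW).map _)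
      rw [Iso.comp_inv_eq, Category.assoc, Iso.eq_inv_comp]
      exact h.hφ)

theorem qmap_lift {T T' : Over S} {m : T' ⟶ T} {s : Sec (Yf f) v T} {s' : Sec (Yf f) v T'} (h : IsRes m s s')
    (hs : InU U s.t) (hs' : InU U s'.t) : (FibCat.fp v (fU f U)).p.IsHomLift m (qmap h𝒳 f U hU h hs hs') := by
  have h1 : (FibCat.fp v (fU f U)).p.IsHomLift ((FibCat.fp v (fU f U)).p.map (qmap h𝒳 f U hU h hs hs'))
      (qmap h𝒳 f U hU h hs hs') := IsHomLift.map _ _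
  exact h1

/-- morphisms from the action -/
noncomputable def qact {T : Over S} (g : T ⟶ H) (s : Sec (Yf f) v T) (hs : InU U s.t) (hs' : InU U (gs f g s).t) :
    qobj h𝒳 f U hU (gs f g s) hs' ⟶ qobj h𝒳 f U hU s hs :=
  mkHomFp (F := v) (G := fU f U) (a := qobj h𝒳 f U hU (gs f g s) hs') (b := qobj h𝒳 f U hU s hs)
    (om (𝟙 T) s.u s.u (Category.id_comp _)) (ObjectProperty.homMk (arr K aW g s.t)) (by
      change v.map (om (𝟙 T) s.u s.u _) ≫ (s.iso h𝒳).inv = ((gs f g s).iso h𝒳).inv ≫ f.map (arr K aW g s.t)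
      rw [map_om_id, Category.id_comp, Iso.eq_inv_comp]
      change (f.map (arr K aW g s.t) ≫ s.φ) ≫ (s.iso h𝒳).inv = _
      rw [Category.assoc]
      have h1 : s.φ ≫ (s.iso h𝒳).inv = 𝟙 _ := (s.iso h𝒳).hom_inv_id
      rw [h1]
      exact Category.comp_id _)

theorem qact_lift {T : Over S} (g : T ⟶ H) (s : Sec (Yf f) v T) (hs : InU U s.t) (hs' : InU U (gs f g s).t) :
    (FibCat.fp v (fU f U)).p.IsHomLift (𝟙 T) (qact h𝒳 f U hU g s hs hs') := by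
  have h1 : (FibCat.fp v (fU f U)).p.IsHomLift ((FibCat.fp v (fU f U)).p.map (qact h𝒳 f U hU g s hs hs'))
      (qact h𝒳 f U hU g s hs hs') := IsHomLift.map _ _
  exact h1

/-- every vertical morphism between objects given by sections comes from the action -/
theorem exists_gs {T : Over S} {s s' : Sec (Yf f) v T} {hs : InU U s.t} {hs' : InU U s'.t}
    (ψ : qobj h𝒳 f U hU s hs ⟶ qobj h𝒳 f U hU s' hs') (hψ : (FibCat.fp v (fU f U)).p.IsHomLift (𝟙 T) ψ) :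
    ∃ g : T ⟶ H, s = gs f g s' := by
  let α : Over.mk s.u ⟶ Over.mk s'.u := ψ.hom.fst
  let β : (Y K aW).obj (Over.mk s.t) ⟶ (Y K aW).obj (Over.mk s'.t) := ψ.hom.snd.hom
  have hw : v.map α ≫ (s'.iso h𝒳).inv = (s.iso h𝒳).inv ≫ f.map β := ψ.hom.w
  have hα : α.left = 𝟙 T := by
    let g' : (FibCat.fp v (fU f U)).p.obj (qobj h𝒳 f U hU s hs) ⟶
        (FibCat.fp v (fU f U)).p.obj (qobj h𝒳 f U hU s' hs') := 𝟙 T
    have h1 : (FibCat.fp v (fU f U)).p.IsHomLift g' ψ := hψ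
    exact (IsHomLift.eq_of_isHomLift (FibCat.fp v (fU f U)).p g' ψ).symm
  have hβ : β.base = 𝟙 T := by
    have h1 : (AlgSt.fullSub (QuotSt K H aW) (fun o => o.φ.left ⁻¹ᵁ U = ⊤)).p.IsHomLift
      ((FibCat.fp v (fU f U)).p.map ψ) ψ.hom.snd := FibCat.fp_isHomLift_snd v (fU f U) ψ
    have h2 : (FibCat.fp v (fU f U)).p.map ψ = 𝟙 T := hα
    rw [h2] at h1
    let g' : (AlgSt.fullSub (QuotSt K H aW) (fun o => o.φ.left ⁻¹ᵁ U = ⊤)).p.obj
        (qobj h𝒳 f U hU s hs).obj.snd ⟶ (AlgSt.fullSub (QuotSt K H aW) (fun o => o.φ.left ⁻¹ᵁ U = ⊤)).p.obj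
        (qobj h𝒳 f U hU s' hs').obj.snd := 𝟙 T
    have h3 : (AlgSt.fullSub (QuotSt K H aW) (fun o => o.φ.left ⁻¹ᵁ U = ⊤)).p.IsHomLift g' ψ.hom.snd := h1
    exact (IsHomLift.eq_of_isHomLift (AlgSt.fullSub (QuotSt K H aW) (fun o => o.φ.left ⁻¹ᵁ U = ⊤)).p g'
      ψ.hom.snd).symm
  let p₀ : T ⟶ H ⊗ T := pt β
  let g : T ⟶ H := p₀ ≫ fst H T
  have h1 : p₀ ≫ snd H T = 𝟙 T := (pt_π β).trans hβ
  have hp : p₀ = lift g (𝟙 T) := by
    apply CartesianMonoidalCategory.hom_ext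
    · rw [lift_fst]
    · rw [lift_snd, h1]
  have h2 : sm aW g s'.t = s.t := by
    have h3 : p₀ ≫ (H ◁ s'.t) ≫ aW.act = s.t := pt_φ β
    rw [hp, ← Category.assoc, lift_whiskerLeft, Category.id_comp] at h3
    exact h3
  have ht : 𝟙 T ≫ sm aW g s'.t = s.t := by rw [Category.id_comp, h2]
  have hu : 𝟙 T ≫ s'.u = s.u := by
    have h3 : α.left ≫ s'.u = s.u := Over.w α
    rw [hα] at h3
    exact h3
  have hα' : α = om (𝟙 T) s'.u s.u hu := by
    ext1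
    exact hα
  have e : sm aW g (𝟙 T ≫ s'.t) = s.t := by rw [Category.id_comp, h2]
  have hβ' : β = ar K aW (T' := Over.mk s.t) (T := Over.mk s'.t) g (𝟙 T) e :=
    hom_ext_pt (by rw [pt_ar]; exact hp)
  have hβ'' : ar K aW (T' := Over.mk s.t) (T := Over.mk s'.t) g (𝟙 T) e =
      (Y K aW).map (om (𝟙 T) (sm aW g s'.t) s.t ht) ≫ arr K aW g s'.t := by
    rw [map_eq_ar, arr, ar_comp]
    exact ar_congr (by simp) (by simp) _
  have hw' : s.φ ≫ v.map α = f.map β ≫ s'.φ := by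
    rw [Iso.comp_inv_eq, Category.assoc, Iso.eq_inv_comp] at hw
    exact hw
  refine ⟨g, IsRes.unique h𝒳 (g := 𝟙 T) (s := gs f g s') ⟨ht, hu, ?_⟩ (IsRes.id _)⟩
  change s.φ ≫ v.map (om (𝟙 T) s'.u s.u hu) = f.map ((Y K aW).map (om (𝟙 T) (sm aW g s'.t) s.t ht)) ≫
    f.map (arr K aW g s'.t) ≫ s'.φ
  rw [← hα', hw', hβ', hβ'', f.map_comp, Category.assoc]

/-- Every object of `V ×_𝒳 [U/H]` is given by a section over its torsor. -/
theorem exists_sec (ξ : (FibCat.fp v (fU f U)).obj) (hb : ξ.obj.snd.obj.base = ξ.obj.fst.left) :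
    ∃ (s : Sec (Yf f) v ξ.obj.snd.obj.P) (hs : InU U s.t) (ψ : qobj h𝒳 f U hU s hs ⟶ ξ),
      (FibCat.fp v (fU f U)).p.IsHomLift (ξ.obj.snd.obj.π ≫ eqToHom hb) ψ := by
  let o : QuotObj K H aW := ξ.obj.snd.obj
  let p : o.P ⟶ ξ.obj.fst.left := o.π ≫ eqToHom hb
  let τ : (Y K aW).obj (Over.mk o.φ) ⟶ o := K750.QOpen.ta o
  have hτ : (QuotSt K H aW).p.IsHomLift p τ := by
    apply IsHomLift.of_fac' (QuotSt K H aW).p p τ rfl hb
    change 𝟙 o.P ≫ o.π = 𝟙 _ ≫ (o.π ≫ eqToHom _) ≫ eqToHom _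
    simp
  have hfτ : 𝒳.p.IsHomLift p (f.map τ) := BasedFunctor.preserves_isHomLift f _ _
  have hi : 𝒳.p.IsHomLift (𝟙 ξ.obj.fst.left) ξ.obj.iso.inv := (IsVert.inv (iso_vert ξ)).lift' (v.w_obj _)
  let κ : Over.mk (p ≫ ξ.obj.fst.hom) ⟶ ξ.obj.fst := Over.homMk p rfl
  have hκ : 𝒳.p.IsHomLift p (v.map κ) := by
    have h1 : (FibCat.overCat V).p.IsHomLift p κ := IsHomLift.map (FibCat.overCat V).p κ
    exact BasedFunctor.preserves_isHomLift v _ _
  have h2 : 𝒳.p.IsHomLift p (f.map τ ≫ ξ.obj.iso.inv) := K747.Fib.isHomLift_comp_id hfτ hi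
  obtain ⟨χ, ⟨hχ, hχ'⟩, -⟩ := K747.Fib.existsUnique_fac h𝒳 hκ h2 (𝟙 o.P) (Category.id_comp _)
  let s : Sec (Yf f) v o.P := ⟨o.φ, p ≫ ξ.obj.fst.hom, χ, hχ⟩
  have hs : InU U s.t := ξ.obj.snd.property
  let ψ : qobj h𝒳 f U hU s hs ⟶ ξ := mkHomFp (F := v) (G := fU f U) (a := qobj h𝒳 f U hU s hs) (b := ξ)
    κ (ObjectProperty.homMk τ) (by
      change v.map κ ≫ ξ.obj.iso.hom = (s.iso h𝒳).inv ≫ f.map τ
      rw [Iso.eq_inv_comp]
      change χ ≫ v.map κ ≫ ξ.obj.iso.hom = _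
      rw [← Category.assoc, hχ', Category.assoc, Iso.inv_hom_id]
      exact Category.comp_id _)
  refine ⟨s, hs, ψ, ?_⟩
  have h3 : (FibCat.fp v (fU f U)).p.IsHomLift ((FibCat.fp v (fU f U)).p.map ψ) ψ := IsHomLift.map _ _
  exact h3

end obj

section names

variable {S : Scheme.{u}} {H W : Over S} [GrpObj H] {aW : AlgGrp.Action H W}
  {𝒳 : BasedCategory.{u, w} (Over S)} (h𝒳 : FibCat.IsFibGrpd 𝒳.p)
  (f : QuotSt Scheme.fppfPrecoverage H aW ⥤ᵇ 𝒳) {V : Over S}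
  {v : FibCat.overCat V ⥤ᵇ 𝒳} (U : W.left.Opens) (hU : aW.act.left ⁻¹ᵁ U = (snd H W).left ⁻¹ᵁ U)

/-- Every object of `V ×_𝒳 [U/H]` is given by a section fppf-locally. -/
theorem exists_cover_sec (ξ : (FibCat.fp v (fU f U)).obj) {T : Over S} (hT : (FibCat.fp v (fU f U)).p.obj ξ = T) :
    ∃ (T' : Over S) (c : T' ⟶ T) (s : Sec (Yf f) v T') (hs : InU U s.t) (ψ : qobj h𝒳 f U hU s hs ⟶ ξ),
      K594.Cover.Cov c ∧ (FibCat.fp v (fU f U)).p.IsHomLift c ψ := by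
  subst hT
  have hb : ξ.obj.snd.obj.base = ξ.obj.fst.left := (FibCat.fpSnd v (fU f U)).w_obj ξ
  obtain ⟨s, hs, ψ, hψ⟩ := exists_sec h𝒳 f U hU ξ hb
  obtain ⟨S', c, hc1, hc2, hc3, s₀, hs₀⟩ := K551.Tors.exists_cover_of_isLocallyTrivial ξ.obj.snd.obj.loc
  have hs₀' : s₀ ≫ ξ.obj.snd.obj.π.left = c := hs₀
  let T' : Over S := Over.mk (c ≫ ξ.obj.snd.obj.base.hom)
  let k : T' ⟶ ξ.obj.snd.obj.P := Over.homMk s₀ (by
    change s₀ ≫ ξ.obj.snd.obj.P.hom = c ≫ ξ.obj.snd.obj.base.hom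
    rw [← hs₀', Category.assoc, Over.w])
  have hk : (k ≫ ξ.obj.snd.obj.π).left = c := hs₀'
  have hcov : K594.Cover.Cov (k ≫ ξ.obj.snd.obj.π) := ⟨by rw [hk]; exact hc2, by rw [hk]; exact hc3, by rw [hk]; exact hc1⟩
  have hcov' : K594.Cover.Cov (k ≫ ξ.obj.snd.obj.π ≫ eqToHom hb) := by
    rw [← Category.assoc]
    have h1 : ∀ {A B C : Over S} (g : A ⟶ B) (h : B = C), K594.Cover.Cov g → K594.Cover.Cov (g ≫ eqToHom h) := by
      intro A B C g h hg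
      subst h
      simpa using hg
    exact h1 _ hb hcov
  have hs' : InU U (res h𝒳 k s).t := by
    rw [← (isRes_res h𝒳 k s).ht]
    exact hs.comp k
  refine ⟨T', k ≫ ξ.obj.snd.obj.π ≫ eqToHom hb, res h𝒳 k s, hs', qmap h𝒳 f U hU (isRes_res h𝒳 k s) hs hs' ≫ ψ,
    hcov', ?_⟩
  have h2 := qmap_lift h𝒳 f U hU (isRes_res h𝒳 k s) hs hs'
  exact K747.Fib.isHomLift_comp h2 hψ

section pointed

variable {F : AlgSp.Sp S} {e : AlgSt.ofSp F ⥤ᵇ FibCat.fp v (fU f U)} (he : FibCat.IsEquivOver e)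
  (hfp : FibCat.IsFibGrpd (FibCat.fp v (fU f U)).p)
  {E : Over S} {uni : Sec (Yf f) v E} (hu : IsUni uni) {X : Over S} (x : X ⟶ E) [hx : IsOpenImmersion x.left]
  (hxU : Set.range x.left = uni.t.left ⁻¹' (U : Set W.left))

include hxU in
theorem inU_comp {T : Over S} (m : T ⟶ X) : InU U ((m ≫ x) ≫ uni.t) := by
  have h1 : InU U (x ≫ uni.t) := by
    rw [InU]
    ext p
    refine ⟨fun _ => trivial, fun _ => ?_⟩
    have h2 : x.left p ∈ Set.range x.left := ⟨p, rfl⟩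
    rw [hxU] at h2
    change (x ≫ uni.t).left p ∈ U
    rw [Over.comp_left, Scheme.Hom.comp_apply]
    exact h2
  rw [Category.assoc]
  exact h1.comp m

/-- the section over `T` given by a point of `X` -/
noncomputable abbrev sm' {T : Over S} (m : T ⟶ X) : Sec (Yf f) v T := res h𝒳 (m ≫ x) uni

include hxU in
theorem inU_sm' {T : Over S} (m : T ⟶ X) : InU U (sm' h𝒳 f (uni := uni) x m).t := by
  rw [← (isRes_res h𝒳 (m ≫ x) uni).ht]
  exact inU_comp f U x hxU m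

/-- the tautological object over a point of `X` -/
noncomputable abbrev tob {T : Over S} (m : T ⟶ X) : (FibCat.fp v (fU f U)).obj :=
  qobj h𝒳 f U hU (sm' h𝒳 f (uni := uni) x m) (inU_sm' h𝒳 f U x hxU m)

theorem isRes_sm' {T : Over S} (m : T ⟶ X) :
    IsRes m (sm' h𝒳 f (uni := uni) x (𝟙 X)) (sm' h𝒳 f (uni := uni) x m) := by
  have h1 := (isRes_res h𝒳 (𝟙 X ≫ x) uni).comp (isRes_res h𝒳 m (sm' h𝒳 f (uni := uni) x (𝟙 X)))
  have h2 : m ≫ 𝟙 X ≫ x = m ≫ x := by rw [Category.id_comp]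
  rw [h2] at h1
  have h3 := h1.unique h𝒳 (isRes_res h𝒳 (m ≫ x) uni)
  have h4 := isRes_res h𝒳 m (sm' h𝒳 f (uni := uni) x (𝟙 X))
  rwa [h3] at h4

include he hfp in
/-- the name of the tautological object over a point is the restriction of the name of the one over `X` -/
theorem names_sm' {y₀ : F.obj.obj (op X)} (hy₀ : Names e y₀ (tob h𝒳 f U hU x hxU (𝟙 X))) {T : Over S} (m : T ⟶ X) :
    Names e (F.obj.map m.op y₀) (tob h𝒳 f U hU x hxU m) := by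
  obtain ⟨y, hy⟩ := exists_names he (T := T) (tob h𝒳 f U hU x hxU m) rfl
  have h1 := names_hom hfp he hy₀ hy m _ (qmap_lift h𝒳 f U hU (isRes_sm' h𝒳 f x m) (inU_sm' h𝒳 f U x hxU (𝟙 X))
    (inU_sm' h𝒳 f U x hxU m))
  rw [h1]
  exact hy

end pointed

end names

end K743.FreeRep
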