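import Groth.Agent.AlgSt.K743.FreeRep

/-!
# Free quotients and affineness of functors on `[U/H]`: the representing sheaf is an affine scheme
-/

set_option autoImplicit false
set_option backward.isDefEq.respectTransparency false
set_option backward.isDefEq.respectTransparency.types false

universe w v u

open CategoryTheory CategoryTheory.Limits MonoidalCategory CartesianMonoidalCategory MonObj GrpObj AlgebraicGeometry
open Opposite Groth.Agent.Books.BorelOrb AlgSt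

namespace K743.FreeRep

open K744.Quot K739.Psh K750.QStab K747.Sc K747.AffAct K734.Fib K743.Name K594.Elem K594.Cover AlgSp

section pointed

variable {S : Scheme.{u}} {H W : Over S} [GrpObj H] {aW : AlgGrp.Action H W}
  {𝒳 : BasedCategory.{u, w} (Over S)} (h𝒳 : FibCat.IsFibGrpd 𝒳.p)
  (f : QuotSt Scheme.fppfPrecoverage H aW ⥤ᵇ 𝒳) {V : Over S}
  {v : FibCat.overCat V ⥤ᵇ 𝒳} (U : W.left.Opens) (hU : aW.act.left ⁻¹ᵁ U = (snd H W).left ⁻¹ᵁ U)
  {F : AlgSp.Sp S} {e : AlgSt.ofSp F ⥤ᵇ FibCat.fp v (fU f U)} (he : FibCat.IsEquivOver e)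
  (hfp : FibCat.IsFibGrpd (FibCat.fp v (fU f U)).p)
  {E : Over S} {uni : Sec (Yf f) v E} (hu : IsUni uni) {X : Over S} (x : X ⟶ E) [hx : IsOpenImmersion x.left]
  (hxU : Set.range x.left = uni.t.left ⁻¹' (U : Set W.left)) {aX : AlgGrp.Action H X}
  (haX : aX.act ≫ x = (H ◁ x) ≫ (aE f hu h𝒳).act)

include hx in
theorem mono_x : Mono x := by
  have h1 : Mono x.left := inferInstance
  exact Over.mono_of_mono_left x

include he hfp haX hx in
theorem map_eq_iff {y₀ : F.obj.obj (op X)} (hy₀ : Names e y₀ (tob h𝒳 f U hU x hxU (𝟙 X))) {T : Over S}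
    (m₁ m₂ : T ⟶ X) : F.obj.map m₁.op y₀ = F.obj.map m₂.op y₀ ↔ ∃ g : T ⟶ H, m₁ = sm aX g m₂ := by
  have hn := @names_sm' _ _ _ _ _ _ h𝒳 f _ _ U hU _ _ he hfp _ _ _ x _ hxU y₀ hy₀
  have hm := mono_x x
  constructor
  · intro h
    obtain ⟨ψ, hψ⟩ := names_of_hom hfp (hn m₂) (hn m₁) (𝟙 T) (by
      rw [h]
      exact map_id_apply F _)
    obtain ⟨g, hg⟩ := exists_gs h𝒳 f U hU ψ hψ
    refine ⟨g, ?_⟩
    rw [← cancel_mono x, sm_comp_of_eqv haX]
    have h1 := isRes_sm f hu h𝒳 g (m₂ ≫ x)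
    have h2 := isRes_res h𝒳 (m₁ ≫ x) uni
    have h3 : res h𝒳 (m₁ ≫ x) uni = gs f g (res h𝒳 (m₂ ≫ x) uni) := hg
    rw [h3] at h2
    exact uni_ext hu h2 h1
  · rintro ⟨g, hg⟩
    have h0 : m₁ ≫ x = sm (aE f hu h𝒳) g (m₂ ≫ x) := by rw [hg, sm_comp_of_eqv haX]
    have h1 := isRes_sm f hu h𝒳 g (m₂ ≫ x)
    rw [← h0] at h1
    have h3 : res h𝒳 (m₁ ≫ x) uni = gs f g (res h𝒳 (m₂ ≫ x) uni) := (isRes_res h𝒳 (m₁ ≫ x) uni).unique h𝒳 h1
    have key : ∀ (s s' : Sec (Yf f) v T) (hs : InU U s.t) (hs' : InU U s'.t), s = gs f g s' →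
        ∃ ψ : qobj h𝒳 f U hU s hs ⟶ qobj h𝒳 f U hU s' hs', (FibCat.fp v (fU f U)).p.IsHomLift (𝟙 T) ψ := by
      intro s s' hs hs' h
      subst h
      exact ⟨qact h𝒳 f U hU g s' hs' hs, qact_lift h𝒳 f U hU g s' hs' hs⟩
    obtain ⟨ψ, hψ⟩ := key _ _ (inU_sm' h𝒳 f U x hxU m₁) (inU_sm' h𝒳 f U x hxU m₂) h3
    have h4 := names_hom hfp he (hn m₂) (hn m₁) (𝟙 T) ψ hψ
    rw [← h4]
    exact map_id_apply F _

include he hfp hu hx in
theorem exists_cov {y₀ : F.obj.obj (op X)} (hy₀ : Names e y₀ (tob h𝒳 f U hU x hxU (𝟙 X))) {T : Over S}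
    (y : F.obj.obj (op T)) : ∃ (T' : Over S) (c : T' ⟶ T) (m : T' ⟶ X), Cov c ∧
      F.obj.map m.op y₀ = F.obj.map c.op y := by
  have hn := @names_sm' _ _ _ _ _ _ h𝒳 f _ _ U hU _ _ he hfp _ _ _ x _ hxU y₀ hy₀
  obtain ⟨T', c, s, hs, ψ, hc, hψ⟩ := exists_cover_sec h𝒳 f U hU (e.obj (⟨T, y⟩ : (AlgSt.ofSp F).obj)) (e.w_obj _)
  have h1 := isRes_um hu s
  have hr : Set.range (um hu s).left ⊆ Set.range x.left := by
    rw [hxU]
    rintro _ ⟨p, rfl⟩
    have h2 : (um hu s).left ≫ uni.t.left = s.t.left := by rw [← Over.comp_left, h1.ht]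
    change uni.t.left ((um hu s).left p) ∈ U
    rw [← Scheme.Hom.comp_apply, h2]
    have h3 : p ∈ s.t.left ⁻¹ᵁ U := by
      have h4 : s.t.left ⁻¹ᵁ U = ⊤ := hs
      rw [h4]
      trivial
    exact h3
  let m₀ : T'.left ⟶ X.left := IsOpenImmersion.lift x.left (um hu s).left hr
  have hm₀ : m₀ ≫ x.left = (um hu s).left := IsOpenImmersion.lift_fac _ _ _
  let m : T' ⟶ X := Over.homMk m₀ (by
    rw [← Over.w x, ← Category.assoc, hm₀, Over.w])
  have hm : m ≫ x = um hu s := by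
    ext1
    exact hm₀
  have h2 : sm' h𝒳 f (uni := uni) x m = s := by
    have h3 := isRes_res h𝒳 (m ≫ x) uni
    have h4 := h1
    rw [← hm] at h4
    exact h3.unique h𝒳 h4
  have key : ∀ (s s' : Sec (Yf f) v T') (hs : InU U s.t) (hs' : InU U s'.t), s = s' →
      qobj h𝒳 f U hU s hs = qobj h𝒳 f U hU s' hs' := by
    intro s s' hs hs' h
    subst h
    rfl
  have h3 : tob h𝒳 f U hU x hxU m = qobj h𝒳 f U hU s hs := key _ _ _ _ h2
  have h4 := hn m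
  rw [h3] at h4
  have h5 : Names e y (e.obj (⟨T, y⟩ : (AlgSt.ofSp F).obj)) := ⟨𝟙 _, IsHomLift.id (e.w_obj _)⟩
  exact ⟨T', c, m, hc, (names_hom hfp he h5 h4 c ψ hψ).symm⟩

theorem isLocallySurjective_yon_map {X Q : Over S} (q : X ⟶ Q) (hq : Cov q) :
    Sheaf.IsLocallySurjective ((yon S).map q) := by
  rw [isLocallySurjective_iff]
  rintro T ⟨t⟩
  obtain ⟨U', g', h', sq, hc⟩ := hq.exists_baseChange t
  exact ⟨U', g', ⟨h'⟩, hc, congrArg ULift.up sq.w⟩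

include hU hxU he hfp haX hu hx in
/-- the sheaf is represented by the free quotient -/
theorem exists_iso {Q : Over S} (q : X ⟶ Q) (hq : IsPullback aX.act (snd H X) q q) (hqc : Cov q) :
    Nonempty (F ≅ (yon S).obj Q) := by
  obtain ⟨y₀, hy₀⟩ := exists_names he (T := X) (tob h𝒳 f U hU x hxU (𝟙 X)) rfl
  have hiff := @map_eq_iff _ _ _ _ _ _ h𝒳 f _ _ U hU _ _ he hfp _ _ hu _ x _ hxU _ haX y₀ hy₀
  let q' : (yon S).obj X ⟶ F := secEquiv.symm y₀
  have hsurj : Sheaf.IsLocallySurjective q' := by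
    rw [isLocallySurjective_iff]
    intro T y
    obtain ⟨T', c, m, hc, hm⟩ := exists_cov h𝒳 f U hU he hfp hu x hxU hy₀ y
    refine ⟨T', c, ⟨m⟩, hc, ?_⟩
    rw [yonEquiv_symm_apply]
    exact hm
  have sq : IsPullback ((yon S).map aX.act) ((yon S).map (snd H X)) q' q' := by
    rw [isPullback_iff]
    refine ⟨?_, ?_, ?_⟩
    · apply K594.Elem.hom_ext
      rintro T ⟨z⟩
      change q'.hom.app (op T) ⟨z ≫ aX.act⟩ = q'.hom.app (op T) ⟨z ≫ snd H X⟩
      rw [yonEquiv_symm_apply, yonEquiv_symm_apply, hiff]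
      refine ⟨z ≫ fst H X, ?_⟩
      rw [sm, ← comp_lift, lift_fst_snd, Category.comp_id]
    · rintro T ⟨a⟩ ⟨b⟩ h1 h2
      exact congrArg ULift.up (hq.hom_ext (congrArg ULift.down h1) (congrArg ULift.down h2))
    · rintro T ⟨m₁⟩ ⟨m₂⟩ h
      rw [yonEquiv_symm_apply, yonEquiv_symm_apply, hiff] at h
      obtain ⟨g, hg⟩ := h
      exact ⟨⟨lift g m₂⟩, congrArg ULift.up hg.symm, congrArg ULift.up (lift_snd g m₂)⟩
  have hsurj' := isLocallySurjective_yon_map q hqc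
  have sq' : IsPullback ((yon S).map aX.act) ((yon S).map (snd H X)) ((yon S).map q) ((yon S).map q) :=
    hq.map (yon S)
  obtain ⟨h1⟩ := K594.Quot.isColimit_of_kernelPair q' sq
  obtain ⟨h2⟩ := K594.Quot.isColimit_of_kernelPair ((yon S).map q) sq'
  exact ⟨h1.coconePointUniqueUpToIso h2⟩

end pointed

end K743.FreeRep
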