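import Groth.Agent.AlgSt.K743.Coarse818
import Groth.Agent.AlgSt.K743.DiagQA
import Groth.Agent.AlgSt.K743.Comp
import Groth.Agent.AlgSt.K735.Lift
import Groth.Agent.AlgSt.K734.QDM
import Groth.Agent.AlgSt.K735.EtQuot
import Groth.Agent.S10649
import Groth.Agent.AlgSt.K747.EtAlias
import Groth.Agent.AlgSp.K597.Affine
import Groth.Agent.S16822

/-!
# Affine étale charts of a separated Deligne-Mumford stack through a geometric point (helper743)
-/

set_option autoImplicit false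
set_option backward.isDefEq.respectTransparency false
set_option backward.isDefEq.respectTransparency.types false

universe w u

open CategoryTheory CategoryTheory.Limits AlgebraicGeometry

namespace K743.SetUp

variable {S : Scheme.{u}} {𝒳 : BasedCategory.{u, w} (Over S)}

theorem locP_etale_of {U : Over S} {x : FibCat.overCat U ⥤ᵇ 𝒳} (h : AlgSt.RepByAlgSpWith AlgSp.IsEtaleMor x) :
    AlgSt.RepByAlgSpWith (AlgSp.LocP @Etale) x :=
  K735.Rep.AlgSt_RepByAlgSpWith_mono (fun _ _ _ h => K597.locP_etale_of_isEtaleMor h) h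

theorem etale_of_locP {U : Over S} {x : FibCat.overCat U ⥤ᵇ 𝒳} (h : AlgSt.RepByAlgSpWith (AlgSp.LocP @Etale) x) :
    AlgSt.RepByAlgSpWith AlgSp.IsEtaleMor x := by
  intro T y
  obtain ⟨F, e, he, hF⟩ := h T y
  exact ⟨F, e, he, K597.isEtaleMor_of_locP_etale K597.etLoc_etale (AlgSp.IsAlgSpace.yon_obj T) hF⟩

theorem etale_overMap_comp {W V : Over S} (h : W ⟶ V) (hh : Etale h.left) (y : FibCat.overCat V ⥤ᵇ 𝒳)
    (hy : AlgSt.RepByAlgSpWith AlgSp.IsEtaleMor y) :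
    AlgSt.RepByAlgSpWith AlgSp.IsEtaleMor (BasedFunctor.comp (AlgSt.overMap h) y) :=
  etale_of_locP (K743.Comp.locP_overMap_comp K597.etLoc_etale h hh y (locP_etale_of hy))

/-- lifting a geometric point to an affine open of an étale chart -/
theorem exists_lift (h𝒳 : FibCat.IsFibGrpd 𝒳.p) {U : Over S} (x : FibCat.overCat U ⥤ᵇ 𝒳)
    (hx : AlgSt.RepByAlgSpWith AlgSp.IsEtaleMor x) (hxs : AlgSt.RepByAlgSpWith AlgSp.IsSurjectiveMor x)
    {k : Type u} [Field k] [IsAlgClosed k] {s : Spec (CommRingCat.of k) ⟶ S}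
    (ξ : FibCat.overCat (Over.mk s) ⥤ᵇ 𝒳) :
    ∃ (V : Over S) (_ : IsAffine V.left) (z : FibCat.overCat V ⥤ᵇ 𝒳) (_ : AlgSt.RepByAlgSpWith AlgSp.IsEtaleMor z)
      (v : Over.mk s ⟶ V), Nonempty (BasedFunctor.comp (AlgSt.overMap v) z ≅ ξ) := by
  have h1 : AlgSt.RepByAlgSpWith (AlgSp.LocP @LocallyOfFiniteType) x :=
    K735.Rep.AlgSt_RepByAlgSpWith_mono (fun _ _ _ h => K597.locP_mono
      (fun _ _ f (_ : Etale f) => (inferInstance : LocallyOfFiniteType f)) (K597.locP_etale_of_isEtaleMor h)) hx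
  have h2 := K735.Top.surjective_of_repByAlgSpWith h𝒳 (K735.Fp.isFibGrpd_overCat U) hxs
  obtain ⟨a, φ, ha, hφ⟩ := K735.Lift.exists_lift_of_mem_range h𝒳 (K735.Fp.isFibGrpd_overCat U) h1
    (ξ.obj (Over.mk (𝟙 _))) (ξ.w_obj _) (h2 _)
  obtain ⟨a', r, g⟩ := a
  change a' = Over.mk s at ha
  subst ha
  obtain ⟨V₀, hV, hp, -⟩ := exists_isAffineOpen_mem_and_subset
    (show g.left (IsLocalRing.closedPoint k) ∈ (⊤ : U.left.Opens) from trivial)
  have hr : Set.range g.left ⊆ Set.range V₀.ι := by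
    rintro _ ⟨t, rfl⟩
    rw [Scheme.Opens.range_ι]
    have : t = IsLocalRing.closedPoint k := Subsingleton.elim (α := PrimeSpectrum k) _ _
    rw [this]
    exact hp
  let V : Over S := Over.mk (V₀.ι ≫ U.hom)
  let j : V ⟶ U := Over.homMk V₀.ι rfl
  let v : Over.mk s ⟶ V := Over.homMk (IsOpenImmersion.lift V₀.ι g.left hr) (by
    change IsOpenImmersion.lift V₀.ι g.left hr ≫ V₀.ι ≫ U.hom = _
    rw [IsOpenImmersion.lift_fac_assoc]
    exact Over.w g)
  have hv : v ≫ j = g := Over.OverMorphism.ext (IsOpenImmersion.lift_fac _ _ _)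
  refine ⟨V, hV, BasedFunctor.comp (AlgSt.overMap j) x, etale_overMap_comp j (inferInstanceAs (Etale V₀.ι)) x hx, v, ?_⟩
  let m : Over.mk ((𝟙 _ ≫ v) ≫ j) ⟶ (⟨Over.mk s, r, g⟩ : Over U) := Over.homMk (𝟙 _) (by
    change 𝟙 _ ≫ g = (𝟙 _ ≫ v) ≫ j
    rw [Category.id_comp, Category.id_comp, hv])
  have hm : K735.Fib.Vert (FibCat.overCat U).p m := IsHomLift.map (FibCat.overCat U).p m
  exact ⟨K735.Fp.yonIso h𝒳 (BasedFunctor.comp (AlgSt.overMap v) (BasedFunctor.comp (AlgSt.overMap j) x)) ξ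
    (x.map m ≫ φ) ((hm.map x).comp (K735.Fib.vert_of_isHomLift hφ))⟩

/-- the category of a separated Deligne-Mumford stack has finite diagonal -/
theorem finite_diag {𝒳 : AlgSt.Cat S} (h𝒳 : AlgSt.IsDM Scheme.etalePrecoverage 𝒳) (hsep : AlgSt.IsSeparatedOver 𝒳) :
    AlgSt.RepByAlgSpWith AlgSp.IsFiniteMor (FibCat.diag (FibCat.toSelf 𝒳)) :=
  K743.KM818.finite_diag hsep ((Groth.Agent.S16822.result 𝒳 h𝒳.1).1 h𝒳)

theorem isAffineMor_eq : (AlgSp.IsAffineMor : MorphismProperty (AlgSp.Sp S)) = AlgSp.RepWith @IsAffineHom := by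
  ext F G f
  exact K597.Affine.isAffineMor_iff

theorem isFiniteMor_eq : (AlgSp.IsFiniteMor : MorphismProperty (AlgSp.Sp S)) = AlgSp.RepWith @IsFinite := by
  ext F G f
  exact K617.FinLoc.isFiniteMor_iff

instance : (AlgSp.IsAffineMor : MorphismProperty (AlgSp.Sp S)).IsStableUnderBaseChange := by
  rw [isAffineMor_eq]
  infer_instance

instance : (AlgSp.IsAffineMor : MorphismProperty (AlgSp.Sp S)).IsMultiplicative := by
  rw [isAffineMor_eq]
  infer_instance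

instance : (AlgSp.IsFiniteMor : MorphismProperty (AlgSp.Sp S)).IsStableUnderBaseChange := by
  rw [isFiniteMor_eq]
  infer_instance

theorem finite_le_affine {F G : AlgSp.Sp S} {f : F ⟶ G} (h : AlgSp.IsFiniteMor f) : AlgSp.IsAffineMor f := by
  intro Z hZ g
  obtain ⟨W, i, fst, sq, hW, -⟩ := h hZ g
  exact ⟨W, i, fst, sq, hW⟩

theorem affine_of_diag {𝒳 : AlgSt.Cat S} [IsAffine S] (h𝒳 : FibCat.IsFibGrpd 𝒳.p)
    (hΔ : AlgSt.RepByAlgSpWith AlgSp.IsFiniteMor (FibCat.diag (FibCat.toSelf 𝒳)))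
    {U : Over S} (hU : IsAffine U.left) (z : FibCat.overCat U ⥤ᵇ 𝒳) : AlgSt.RepByAlgSpWith AlgSp.IsAffineMor z := by
  refine K743.DiagQA.with_of_diag z h𝒳 AlgSp.IsAffineMor
    (K735.Rep.AlgSt_RepByAlgSpWith_mono (fun _ _ _ h => finite_le_affine h) hΔ) fun T => ?_
  refine K735.EtQuot.isAffineMor_yon_map _ ?_
  exact MorphismProperty.of_isPullback (P := @IsAffineHom) (K743.DiagQA.isPullback_left T U).flip
    (inferInstanceAs (IsAffineHom U.hom))

theorem isAffine_prod [IsAffine S] {U : Over S} (hU : IsAffine U.left) : IsAffine (U ⨯ U : Over S).left := by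
  have h1 : IsAffineHom (prod.fst : U ⨯ U ⟶ U).left :=
    MorphismProperty.of_isPullback (P := @IsAffineHom) (K743.DiagQA.isPullback_left U U).flip
      (inferInstanceAs (IsAffineHom U.hom))
  exact isAffine_of_isAffineHom (prod.fst : U ⨯ U ⟶ U).left

theorem lqf_sep_of_finite {F : AlgSp.Sp S} {T : Over S} (f : F ⟶ (AlgSp.yon S).obj T) (hF : AlgSp.IsAlgSpace F)
    (h : AlgSp.IsFiniteMor f) :
    AlgSp.LocP (@LocallyQuasiFinite ⊓ @LocallyOfFiniteType) f ∧ AlgSp.IsSeparatedMor f := by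
  have h2 := Groth.Agent.S10649.result (X := ⟨F, hF⟩) (Y := ⟨_, AlgSp.IsAlgSpace.yon_obj T⟩)
    (ObjectProperty.homMk f)
  have h3 : (AlgSp.IsProperMor f ∧ AlgSp.LocP (@LocallyQuasiFinite ⊓ @LocallyOfFiniteType) f) ↔ AlgSp.IsFiniteMor f :=
    h2.out 1 0
  exact ⟨(h3.2 h).2, (h3.2 h).1.1⟩

theorem exists_chartRep {𝒳 : AlgSt.Cat S} [IsAffine S] (h𝒳 : FibCat.IsFibGrpd 𝒳.p)
    (hΔ : AlgSt.RepByAlgSpWith AlgSp.IsFiniteMor (FibCat.diag (FibCat.toSelf 𝒳)))
    {U : Over S} (hU : IsAffine U.left) (z : FibCat.overCat U ⥤ᵇ 𝒳) (hz : AlgSt.RepByAlgSpWith AlgSp.IsEtaleMor z) :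
    ∃ (E : Over S) (Gc : K746.ChartRep z E), Etale Gc.s.left ∧ IsAffineHom Gc.s.left := by
  obtain ⟨E, Gc, π, h1, h2, h3⟩ := K734.Pair.exists_pairRep_of_diag h𝒳 (x := z) (y := z) (W := U ⨯ U)
    (a := prod.fst) (b := prod.snd) (P := AlgSp.IsFiniteMor) (fun f hF hf => lqf_sep_of_finite f hF hf) hΔ
    (fun {T} u v => ⟨prod.lift u v, prod.lift_fst _ _, prod.lift_snd _ _⟩)
    (fun w w' ha hb => Limits.prod.hom_ext ha hb)
  refine ⟨E, Gc, ?_, ?_⟩
  · have e1 := K734.Rep.IsRep.prop K734.Rep.nice_isEtaleMor.bc K734.Rep.nice_isEtaleMor.loc hz (AlgSp.IsAlgSpace.yon_obj U)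
      (K734.Rep.isRep_of_pair Gc h𝒳)
    exact (AlgSp.isEtaleMor_yon_map_iff _).1 e1
  · have h4 := isAffine_prod hU
    have h5 : IsFinite π.left := by
      rw [K617.FinLoc.isFiniteMor_iff, AlgSp.repWith_yon_map_iff] at h3
      exact h3
    have h6 : IsAffine E.left := isAffine_of_isAffineHom π.left
    exact K597.Affine.isAffineHom_of_isAffine _ h6 hU

end K743.SetUp
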