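import Groth.Agent.AlgSt.K743.FreeRep2
import Groth.Agent.AlgSt.K743.SetUp
import Groth.Agent.AlgSt.K734.Rep
import Groth.Agent.AlgSp.K605.LfpLim
import Groth.Agent.AlgSp.K605.LimImg

/-!
# Free quotients and affineness of functors on `[U/H]`: the main statement
-/

set_option autoImplicit false
set_option backward.isDefEq.respectTransparency false
set_option backward.isDefEq.respectTransparency.types false

universe w v u

open CategoryTheory CategoryTheory.Limits MonoidalCategory CartesianMonoidalCategory MonObj GrpObj AlgebraicGeometry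
open Opposite Groth.Agent.Books.BorelOrb AlgSt

namespace K743.FreeRep

open K744.Quot K739.Psh K750.QStab K750.QTriv K747.Sc K747.AffAct K734.Fib K743.Name K594.Elem K594.Cover AlgSp

section triv

variable {S : Scheme.{u}} {K : Precoverage Scheme.{u}} [K.HasIsos] {H W : Over S} [GrpObj H] {aW : AlgGrp.Action H W}
  {𝒳 : BasedCategory.{u, w} (Over S)} (h𝒳 : FibCat.IsFibGrpd 𝒳.p)
  (f : QuotSt K H aW ⥤ᵇ 𝒳) {V : Over S}
  {v : FibCat.overCat V ⥤ᵇ 𝒳} (U : W.left.Opens)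
  {E : Over S} {uni : Sec (Yf f) v E} (hu : IsUni uni) {X : Over S} (x : X ⟶ E) [hx : IsOpenImmersion x.left]
  (hxU : Set.range x.left = uni.t.left ⁻¹' (U : Set W.left)) {aX : AlgGrp.Action H X}
  (haX : aX.act ≫ x = (H ◁ x) ≫ (aE f hu h𝒳).act)

include h𝒳 hxU haX hx in
/-- the kernel of the stabilizer map is trivial over `U` if the action on `X` is free -/
theorem trivW {Q : Over S} (q : X ⟶ Q) (hq : IsPullback aX.act (snd H X) q q) (hcov : Cov uni.t) : TrivW f U.ι := by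
  intro T t ht h hN
  obtain ⟨P, p₁, p₂, sq, hc⟩ := hcov.exists_baseChange T.hom
  have hr : Set.range p₂.left ⊆ Set.range x.left := by
    rw [hxU]
    rintro _ ⟨p, rfl⟩
    have h2 : p₂.left ≫ uni.t.left = p₁.left ≫ T.hom.left := by
      rw [← Over.comp_left, ← Over.comp_left, sq.w]
    change uni.t.left (p₂.left p) ∈ U
    rw [← Scheme.Hom.comp_apply, h2, ← ht, Scheme.Hom.comp_apply, Scheme.Hom.comp_apply]
    have h3 : U.ι (t (p₁.left p)) ∈ Set.range U.ι := ⟨_, rfl⟩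
    rwa [Scheme.Opens.range_ι] at h3
  let m₀ : P.left ⟶ X.left := IsOpenImmersion.lift x.left p₂.left hr
  have hm₀ : m₀ ≫ x.left = p₂.left := IsOpenImmersion.lift_fac _ _ _
  let m : P ⟶ X := Over.homMk m₀ (by
    rw [← Over.w x, ← Category.assoc, hm₀, Over.w])
  have hm : m ≫ x = p₂ := by
    ext1
    exact hm₀
  have hmx := mono_x x
  have h1 : (m ≫ x) ≫ uni.t = p₁ ≫ T.hom := by rw [hm, sq.w]
  have h2 : Nm f (Over.mk ((m ≫ x) ≫ uni.t)) (p₁ ≫ h) := by
    let j : Over.mk ((m ≫ x) ≫ uni.t) ⟶ T := Over.homMk p₁ h1.symm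
    exact Nm_res h𝒳 f j hN
  have h3 : sm (aE f hu h𝒳) (p₁ ≫ h) (m ≫ x) = m ≫ x := (sm_eq_iff f hu h𝒳 _ _).2 h2
  rw [← sm_comp_of_eqv haX, cancel_mono] at h3
  have h4 : lift (p₁ ≫ h) m = lift 1 m := by
    apply hq.hom_ext
    · exact h3.trans (one_sm aX m).symm
    · rw [lift_snd, lift_snd]
  have h5 : p₁ ≫ h = 1 := by
    have h6 := congrArg (· ≫ fst H X) h4
    rwa [lift_fst, lift_fst] at h6
  apply K594.Quot.hom_ext_cov hc
  rw [h5, comp_one]

end triv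

/-- the universal section over the chart `v`: its projection to `W` is smooth and surjective -/
theorem props_of_isIso {S : Scheme.{u}} {𝒳 : AlgSt.Cat S} (h𝒳 : FibCat.IsFibGrpd 𝒳.p) {W V E : Over S}
    {y : FibCat.overCat W ⥤ᵇ 𝒳} {v : FibCat.overCat V ⥤ᵇ 𝒳}
    (hv₁ : AlgSt.RepByAlgSpWith (AlgSp.LocP @Smooth) v) (hv₂ : AlgSt.RepByAlgSpWith AlgSp.IsSurjectiveMor v)
    (θ : (AlgSp.pyon S).obj E ⟶ P h𝒳 y v) [IsIso θ] :
    Smooth (θ.app (op E) ⟨𝟙 E⟩).down.t.left ∧ Surjective (θ.app (op E) ⟨𝟙 E⟩).down.t.left :=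
  ⟨K741.locP_yon_left (prop_of_isIso y v h𝒳 (AlgSp.LocP @Smooth) hv₁ θ),
    (K741.surjective_left_iff _).1 (prop_of_isIso y v h𝒳 AlgSp.IsSurjectiveMor hv₂ θ)⟩

section main

variable {S : Scheme.{u}} {𝒳 : AlgSt.Cat S} (h𝒳 : AlgSt.IsAlgStack Scheme.fppfPrecoverage 𝒳)
  {H W : Over S} [GrpObj H] [IsAffineHom H.hom] [Flat H.hom] [LocallyOfFinitePresentation H.hom]
  {aW : AlgGrp.Action H W} (f : QuotSt Scheme.fppfPrecoverage H aW ⥤ᵇ 𝒳) {V : Over S} [IsAffine V.left]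
  {v : FibCat.overCat V ⥤ᵇ 𝒳}
  (hv₁ : AlgSt.RepByAlgSpWith (AlgSp.LocP @Smooth) v) (hv₂ : AlgSt.RepByAlgSpWith AlgSp.IsSurjectiveMor v)
  (U : W.left.Opens) (hU : aW.act.left ⁻¹ᵁ U = (snd H W).left ⁻¹ᵁ U)
  {E : Over S} {uni : Sec (Yf f) v E} (hu : IsUni uni)
  [Flat uni.t.left] [LocallyOfFinitePresentation uni.t.left] [Surjective uni.t.left]
  {X : Over S} (x : X ⟶ E) [IsOpenImmersion x.left]
  (hxU : Set.range x.left = uni.t.left ⁻¹' (U : Set W.left)) (aX : AlgGrp.Action H X)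
  (haX : aX.act ≫ x = (H ◁ x) ≫ (aE f hu h𝒳.isStack.1).act)
  {Q : Over S} [IsAffine Q.left] (q : X ⟶ Q) (hq : IsPullback aX.act (snd H X) q q)
  [Flat q.left] [LocallyOfFinitePresentation q.left] [Surjective q.left]

include h𝒳 hv₁ hv₂ hU hxU haX hq in
/-- **Affineness of `[U/H] ⟶ 𝒳`** -/
theorem main : AlgSt.RepByAlgSpWith AlgSp.IsAffineMor (fU f U) := by
  have hcov : Cov uni.t := ⟨inferInstance, inferInstance, inferInstance⟩
  have hqc : Cov q := ⟨inferInstance, inferInstance, inferInstance⟩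
  have h𝒲 : AlgSt.IsAlgStack Scheme.fppfPrecoverage (QuotSt Scheme.fppfPrecoverage H aW) :=
    Groth.Agent.S13571.result H W aW
  have hG := h𝒳.isStack.1
  have hG' := h𝒲.isStack.1
  have hT := trivW hG f U hu x hxU haX q hq hcov
  have hop := K899.OpenCrit.isOpenSubstack h𝒲 (K750.QOpen.hasOpenLocus U hU)
  have hrep : AlgSt.RepByAlgSp1 (fU f U) :=
    (Groth.Agent.S12762.result hop.2.1 h𝒳 _).1 (K750.QOpen.faithful hG f U hG' hT)
  have hfp : FibCat.IsFibGrpd (FibCat.fp v (fU f U)).p :=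
    K735.Fp.isFibGrpd_fp (K735.Fp.isFibGrpd_overCat V) hop.2.1.isStack.1 hG v (fU f U)
  obtain ⟨F, e, he⟩ := hrep V v
  obtain ⟨θ⟩ := exists_iso hG f U hU he hfp hu x hxU haX q hq hqc
  have hbc := K736.Rep.isBC_spMapOfOver he
  have haff : AlgSp.IsAffineMor (AlgSt.spMapOfOver (BasedFunctor.comp e (FibCat.fpFst v (fU f U)))) := by
    obtain ⟨ψ, hψ⟩ := (yon S).map_surjective
      (θ.inv ≫ AlgSt.spMapOfOver (BasedFunctor.comp e (FibCat.fpFst v (fU f U))))
    have h1 : AlgSp.IsAffineMor ((yon S).map ψ) := K605.LfpLim.isAffineMor_yon_map ψ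
    have h2 : AlgSt.spMapOfOver (BasedFunctor.comp e (FibCat.fpFst v (fU f U))) = θ.hom ≫ (yon S).map ψ := by
      rw [hψ, Iso.hom_inv_id_assoc]
    rw [h2]
    exact K605.LimImg.isAffineMor_of_isPullback h1
      (IsPullback.of_horiz_isIso ⟨by simp⟩ : IsPullback θ.hom (θ.hom ≫ (yon S).map ψ) ((yon S).map ψ) (𝟙 _))
  have hloc : AlgSp.IsLocalOnBase AlgSp.IsFppfCover (AlgSp.IsAffineMor (S := S)) :=
    K734.Rep.isLocalOnBase_of_fpqc K628.Props.isLocalOnBase_isAffineMor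
  have hw : ∀ P : MorphismProperty Scheme.{u}, (@Smooth : MorphismProperty Scheme.{u}) ≤ P →
      AlgSt.RepByAlgSpWith (AlgSp.LocP P) (BasedFunctor.comp (AlgSt.toOverCat V) v) := by
    intro P hP
    refine (K736.Prod.algRep_comp_equiv_iff (K736.Rep.isEquivOver_toOverCat V)).2 fun U y => ?_
    obtain ⟨F, e, he, h⟩ := hv₁ U y
    exact ⟨F, e, he, K597.locP_mono hP h⟩
  obtain ⟨e', he', hi⟩ := K736.Fib.isBC_iff.1 hbc
  exact (K736.Props.s12844 hop.2.1.isStack.1 hG (fun X₁ Y₁ X₂ Y₂ _ _ _ _ a b a' b' sq ha =>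
      K605.LimImg.isAffineMor_of_isPullback ha sq) hloc hrep ⟨(yon S).obj V, IsAlgSpace.yon_obj V⟩
      (BasedFunctor.comp (AlgSt.toOverCat V) v)
      (hw _ fun _ _ g hg => by have : Smooth g := hg; infer_instance)
      (hw _ fun _ _ g hg => by have : Smooth g := hg; infer_instance)
      ((K736.Prod.algRep_comp_equiv_iff (K736.Rep.isEquivOver_toOverCat V)).2 hv₂)).2
    ⟨F, ObjectProperty.homMk (AlgSt.spMapOfOver (BasedFunctor.comp e (FibCat.fpFst v (fU f U)))), e', he', hi, haff⟩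

end main

end K743.FreeRep
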