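import Groth.Agent.AlgSt.K735.SpFp
import Groth.Agent.AlgSt.K734.FibFp
import Groth.Prelude.Def_AlgSt3
import Groth.Agent.AlgSp.K634.FSLift

/-!
# Lifting functors from schemes through representable morphisms

* `exists_lift`: if `g : 𝒱 ⥤ᵇ 𝒲` is representable with `P`, and `h_{T₀} ⟶ h_T` has the left lifting property against
  every map of algebraic spaces `F ⟶ h_T` with `P`, then every functor `(Sch/T₀) ⥤ᵇ (Sch/T) ×_𝒲 𝒱` over `(Sch/T)` extends
  to a section over `(Sch/T)`.
* `lft_of_isNilpotent`: formally smooth maps lift along nilpotent thickenings of affine schemes.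
-/

set_option autoImplicit false
set_option backward.isDefEq.respectTransparency false
set_option backward.isDefEq.respectTransparency.types false

universe w₂ v₂ w₁ v₁ w v u

open CategoryTheory CategoryTheory.Limits AlgebraicGeometry Opposite
open K735.Fib K735.Fp K735.Rep K634.Formal

namespace K743.InfLift

variable {S : Scheme.{u}}

section Functors

variable {𝒱 : BasedCategory.{v₁, w₁} (Over S)} {𝒲 : BasedCategory.{v₂, w₂} (Over S)}

/-- Lifting through a representable morphism. -/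
theorem exists_lift {P : MorphismProperty (AlgSp.Sp S)} {g : 𝒱 ⥤ᵇ 𝒲} (hg : AlgSt.RepByAlgSpWith P g)
    {T₀ T : Over S} (j : T₀ ⟶ T)
    (hj : ∀ (F : AlgSp.Sp S) (q : F ⟶ (AlgSp.yon S).obj T), AlgSp.IsAlgSpace F → P q → Lft ((AlgSp.yon S).map j) q)
    (y : FibCat.overCat T ⥤ᵇ 𝒲) (H : FibCat.overCat T₀ ⥤ᵇ FibCat.fp y g)
    (β : BasedFunctor.comp H (FibCat.fpFst y g) ≅ AlgSt.overMap j) :
    ∃ c : FibCat.overCat T ⥤ᵇ FibCat.fp y g,
      Nonempty (BasedFunctor.comp c (FibCat.fpFst y g) ≅ BasedFunctor.id (FibCat.overCat T)) ∧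
      Nonempty (BasedFunctor.comp (AlgSt.overMap j) c ≅ H) := by
  obtain ⟨F, e, he, hq⟩ := hg T y
  obtain ⟨e', he', ⟨i₁⟩, ⟨i₂⟩⟩ := IsEquivOver.exists_inv he
  set q := AlgSt.spMapOfOver (BasedFunctor.comp e (FibCat.fpFst y g)) with hqdef
  obtain ⟨iq⟩ := exists_iso_spMapOfOver (BasedFunctor.comp e (FibCat.fpFst y g))
  let H₁ : FibCat.overCat T₀ ⥤ᵇ AlgSt.ofSp F.obj := BasedFunctor.comp H e'
  let s₀ := K735.SpFp.unchart H₁
  obtain ⟨k₀⟩ := K735.SpFp.exists_iso_chart H₁
  -- the section over `T₀`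
  have hs₀ : s₀ ≫ q = (AlgSp.yon S).map j := by
    have a1 : BasedFunctor.comp (AlgSt.ofSpMap (s₀ ≫ q)) (AlgSt.toOverCat T) ≅
        BasedFunctor.comp (AlgSt.ofSpMap ((AlgSp.yon S).map j)) (AlgSt.toOverCat T) :=
      calc BasedFunctor.comp (AlgSt.ofSpMap (s₀ ≫ q)) (AlgSt.toOverCat T)
          ≅ BasedFunctor.comp (AlgSt.ofSpMap s₀) (BasedFunctor.comp (AlgSt.ofSpMap q) (AlgSt.toOverCat T)) := Iso.refl _
        _ ≅ BasedFunctor.comp (AlgSt.ofSpMap s₀) (BasedFunctor.comp e (FibCat.fpFst y g)) :=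
            whiskerLeftIso _ iq.symm
        _ ≅ BasedFunctor.comp (AlgSt.toOverCat T₀) (BasedFunctor.comp (K735.SpFp.chart s₀)
              (BasedFunctor.comp e (FibCat.fpFst y g))) := Iso.refl _
        _ ≅ BasedFunctor.comp (AlgSt.toOverCat T₀) (BasedFunctor.comp (BasedFunctor.comp H e')
              (BasedFunctor.comp e (FibCat.fpFst y g))) :=
            whiskerLeftIso _ (whiskerRightIso k₀.symm _)
        _ ≅ BasedFunctor.comp (AlgSt.toOverCat T₀) (BasedFunctor.comp H (BasedFunctor.comp (BasedFunctor.comp e' e)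
              (FibCat.fpFst y g))) := Iso.refl _
        _ ≅ BasedFunctor.comp (AlgSt.toOverCat T₀) (BasedFunctor.comp H (FibCat.fpFst y g)) :=
            whiskerLeftIso _ (whiskerLeftIso _ (whiskerRightIso i₂ _))
        _ ≅ BasedFunctor.comp (AlgSt.toOverCat T₀) (AlgSt.overMap j) := whiskerLeftIso _ β
        _ ≅ _ := Iso.refl _
    have a2 := spMapOfOver_eq_of_iso a1
    rwa [spMapOfOver_ofSpMap_toOverCat, spMapOfOver_ofSpMap_toOverCat] at a2
  obtain ⟨s, hs, hs'⟩ := hj F.obj q F.property hq s₀ (𝟙 _) (by rw [hs₀, Category.comp_id])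
  refine ⟨BasedFunctor.comp (K735.SpFp.chart s) e, ⟨?_⟩, ⟨?_⟩⟩
  · calc BasedFunctor.comp (BasedFunctor.comp (K735.SpFp.chart s) e) (FibCat.fpFst y g)
        ≅ BasedFunctor.comp (K735.SpFp.chart s) (BasedFunctor.comp e (FibCat.fpFst y g)) := Iso.refl _
      _ ≅ BasedFunctor.comp (K735.SpFp.chart s) (BasedFunctor.comp (AlgSt.ofSpMap q) (AlgSt.toOverCat T)) :=
          whiskerLeftIso _ iq
      _ ≅ BasedFunctor.comp (K735.SpFp.chart (s ≫ q)) (AlgSt.toOverCat T) := Iso.refl _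
      _ ≅ BasedFunctor.comp (K735.SpFp.chart (𝟙 _)) (AlgSt.toOverCat T) := eqToIso (by rw [hs'])
      _ ≅ BasedFunctor.id (FibCat.overCat T) := Iso.refl _
  · calc BasedFunctor.comp (AlgSt.overMap j) (BasedFunctor.comp (K735.SpFp.chart s) e)
        ≅ BasedFunctor.comp (K735.SpFp.chart ((AlgSp.yon S).map j ≫ s)) e := Iso.refl _
      _ ≅ BasedFunctor.comp (K735.SpFp.chart s₀) e := eqToIso (by rw [hs])
      _ ≅ BasedFunctor.comp (BasedFunctor.comp H e') e := whiskerRightIso k₀.symm e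
      _ ≅ BasedFunctor.comp H (BasedFunctor.comp e' e) := Iso.refl _
      _ ≅ H := whiskerLeftIso H i₂

end Functors

section Nilpotent

theorem lft_comp_left {C : Type*} [Category* C] {A B D F G : C} {i : A ⟶ B} {i' : B ⟶ D} {f : F ⟶ G}
    (h : Lft i f) (h' : Lft i' f) : Lft (i ≫ i') f := by
  intro t b w
  obtain ⟨l, h1, h2⟩ := h t (i' ≫ b) (by rw [w, Category.assoc])
  obtain ⟨m, h3, h4⟩ := h' l b h2
  exact ⟨m, by rw [Category.assoc, h3, h1], h4⟩

/-- Lifting along `Spec E ⟶ Spec A` for surjections `A → E` with kernel `I`. -/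
def LftP {F G : AlgSp.Sp S} (f : F ⟶ G) ⦃A : Type u⦄ [CommRing A] (I : Ideal A) : Prop :=
  ∀ (E : Type u) [CommRing E] (q : A →+* E), Function.Surjective q → RingHom.ker q = I →
    ∀ (str : Spec (.of A) ⟶ S) (str' : Spec (.of E) ⟶ S) (j : Over.mk str' ⟶ Over.mk str),
      j.left = Spec.map (CommRingCat.ofHom q) → Lft ((AlgSp.yon S).map j) f

theorem lftP_of_isNilpotent {F G : AlgSp.Sp S} {f : F ⟶ G} (hf : AlgSp.IsFormallySmoothMor f) {A : Type u} [CommRing A]
    (I : Ideal A) (hI : IsNilpotent I) : LftP f I := by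
  refine Ideal.IsNilpotent.induction_on I hI (P := LftP f) ?_ ?_
  · intro A _ I hI2 E _ q hq hqI str str' j hj
    refine K634.FSLift.smooth_lft_of_spec hf (CommRingCat.ofHom q) hq ?_ j hj
    change RingHom.ker q ^ 2 = ⊥
    rw [hqI, hI2]
  · intro A _ I J hIJ h1 h2 E _ q hq hqI str str' j hj
    let q₂ := Ideal.Quotient.lift I q (fun a ha => by rw [← RingHom.mem_ker, hqI]; exact hIJ ha)
    have hqq : q₂.comp (Ideal.Quotient.mk I) = q := by ext x; rfl
    have e : Spec.map (CommRingCat.ofHom q₂) ≫ Spec.map (CommRingCat.ofHom (Ideal.Quotient.mk I)) =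
        Spec.map (CommRingCat.ofHom q) := by
      rw [← Spec.map_comp, ← CommRingCat.ofHom_comp, hqq]
    let j₁ : Over.mk (Spec.map (CommRingCat.ofHom (Ideal.Quotient.mk I)) ≫ str) ⟶ Over.mk str :=
      Over.homMk (Spec.map (CommRingCat.ofHom (Ideal.Quotient.mk I))) rfl
    let j₂ : Over.mk str' ⟶ Over.mk (Spec.map (CommRingCat.ofHom (Ideal.Quotient.mk I)) ≫ str) :=
      Over.homMk (Spec.map (CommRingCat.ofHom q₂)) (by
        have := Over.w j
        rw [hj] at this
        change Spec.map (CommRingCat.ofHom q) ≫ str = str' at this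
        change Spec.map (CommRingCat.ofHom q₂) ≫ Spec.map (CommRingCat.ofHom (Ideal.Quotient.mk I)) ≫ str = str'
        rw [← Category.assoc, e, this])
    have hjj : j = j₂ ≫ j₁ := by
      ext1
      exact hj.trans e.symm
    rw [hjj, Functor.map_comp]
    refine lft_comp_left (h2 _ q₂ ?_ ?_ _ _ j₂ rfl) (h1 _ _ Ideal.Quotient.mk_surjective (Ideal.mk_ker) _ _ j₁ rfl)
    · intro x
      obtain ⟨a, rfl⟩ := hq x
      exact ⟨Ideal.Quotient.mk I a, rfl⟩
    · ext x
      obtain ⟨a, rfl⟩ := Ideal.Quotient.mk_surjective x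
      rw [RingHom.mem_ker, Ideal.mem_map_iff_of_surjective _ Ideal.Quotient.mk_surjective]
      constructor
      · intro ha
        exact ⟨a, by rw [← hqI]; exact ha, rfl⟩
      · rintro ⟨b, hb, hab⟩
        rw [← hab]
        rw [← hqI] at hb
        exact hb

end Nilpotent

end K743.InfLift
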