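import Groth.Agent.AlgSt.K743.Comp
import Groth.Prelude.Def_AlgSpCov

/-!
# Composition of properties read on smooth chart squares
-/

set_option autoImplicit false
set_option backward.isDefEq.respectTransparency false
set_option backward.isDefEq.respectTransparency.types false

universe v₄ u₄ v₃ u₃ v₂ u₂ v u

open CategoryTheory CategoryTheory.Limits AlgebraicGeometry Opposite

namespace K743.LocQComp

open AlgSt K735.Fib K735.Fp K735.Rep K735.Pts K735.PtsSp K735.SpFp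

variable {S : Scheme.{u}} {𝒳 : BasedCategory.{v₂, u₂} (Over S)} {𝒴 : BasedCategory.{v₃, u₃} (Over S)}
  {𝒵 : BasedCategory.{v₄, u₄} (Over S)}

/-- Composition. -/
theorem locQ_comp {P : MorphismProperty (AlgSp.Sp S)}
    (hpre : ∀ ⦃U V W : Over S⦄ (f : U ⟶ V) (g : V ⟶ W), Smooth f.left → P ((AlgSp.yon S).map g) →
      P ((AlgSp.yon S).map (f ≫ g)))
    (hbc : ∀ ⦃U V U' V' : Over S⦄ (f : U ⟶ V) (g : V' ⟶ V) (f' : U' ⟶ V') (g' : U' ⟶ U), IsPullback g' f' f g →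
      Smooth g.left → P ((AlgSp.yon S).map f) → P ((AlgSp.yon S).map f'))
    (hcomp : ∀ ⦃U V W : Over S⦄ (f : U ⟶ V) (g : V ⟶ W), P ((AlgSp.yon S).map f) → P ((AlgSp.yon S).map g) →
      P ((AlgSp.yon S).map (f ≫ g)))
    (h𝒴 : FibCat.IsFibGrpd 𝒴.p) (f : 𝒳 ⥤ᵇ 𝒴) (g : 𝒴 ⥤ᵇ 𝒵)
    (hf : AlgSt.LocQ P f) (hg : AlgSt.LocQ P g) : AlgSt.LocQ P (BasedFunctor.comp f g) := by
  obtain ⟨U₁, V₁, x₁, y₁, h₁, α₁, hx₁, hs₁, hy₁, hh₁⟩ := hf
  obtain ⟨U₂, V₂, x₂, y₂, h₂, α₂, hx₂, hs₂, hy₂, hh₂⟩ := hg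
  obtain ⟨T, s, r, E, ⟨i⟩, ⟨j⟩, hs, hr, hE⟩ := K743.Comp.exists_chart₂ y₁ x₂ hx₂ hy₁
  have hsurj : Surjective s.left := by
    refine ⟨fun t => ?_⟩
    obtain ⟨u, hu⟩ := K743.Pt.surjective_of_rep h𝒴 x₂ hs₂ (Points.map y₁ (K743.Pt.pt t))
    obtain ⟨z, hz1, -⟩ := exists_fp (isFibGrpd_overCat U₂) (isFibGrpd_overCat V₁) h𝒴 y₁ x₂ (K743.Pt.pt t) u hu.symm
    obtain ⟨z, rfl⟩ := hE z
    obtain ⟨z, rfl⟩ : ∃ u', K743.Pt.pt u' = z := ⟨K743.Pt.toPt z, K743.Pt.pt_toPt z⟩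
    rw [← map_comp, map_congr i, K743.Pt.map_overMap_pt] at hz1
    exact ⟨z, K743.Pt.pt_injective hz1⟩
  have hW : IsPullback (pullback.fst h₁ s).left (pullback.snd h₁ s).left h₁.left s.left :=
    (IsPullback.of_hasPullback h₁ s).map (Over.forget S)
  have hsm : Smooth (pullback.fst h₁ s).left := MorphismProperty.of_isPullback hW.flip hs
  have hsu : Surjective (pullback.fst h₁ s).left := MorphismProperty.of_isPullback hW.flip hsurj
  refine ⟨pullback h₁ s, V₂, BasedFunctor.comp (AlgSt.overMap (pullback.fst h₁ s)) x₁, y₂,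
    pullback.snd h₁ s ≫ r ≫ h₂, ?_, ?_, ?_, hy₂, ?_⟩
  · have e1 : BasedFunctor.comp (AlgSt.overMap (pullback.fst h₁ s)) (BasedFunctor.comp x₁ f) ≅
        BasedFunctor.comp (BasedFunctor.comp (AlgSt.overMap (pullback.fst h₁ s)) (AlgSt.overMap h₁)) y₁ :=
      K735.Fib.whiskerLeftIso (AlgSt.overMap (pullback.fst h₁ s)) α₁
    have e2 : BasedFunctor.comp (AlgSt.overMap (pullback.fst h₁ s)) (AlgSt.overMap h₁) ≅
        BasedFunctor.comp (AlgSt.overMap (pullback.snd h₁ s)) (AlgSt.overMap s) :=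
      K743.Chart.overMapComp _ _ ≪≫ eqToIso (by rw [pullback.condition]) ≪≫ (K743.Chart.overMapComp _ _).symm
    have e3 : BasedFunctor.comp (AlgSt.overMap s) y₁ ≅ BasedFunctor.comp (AlgSt.overMap r) x₂ :=
      K735.Fib.whiskerRightIso i.symm y₁ ≪≫
        (K735.Fib.whiskerLeftIso E (FibCat.fpIso y₁ x₂)) ≪≫ K735.Fib.whiskerRightIso j x₂
    have e4 : BasedFunctor.comp (AlgSt.overMap r) (BasedFunctor.comp x₂ g) ≅
        BasedFunctor.comp (AlgSt.overMap (r ≫ h₂)) y₂ :=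
      K735.Fib.whiskerLeftIso (AlgSt.overMap r) α₂ ≪≫
        (K735.Fib.whiskerRightIso (K743.Chart.overMapComp r h₂) y₂ :
          BasedFunctor.comp (BasedFunctor.comp (AlgSt.overMap r) (AlgSt.overMap h₂)) y₂ ≅ _)
    have e5 : BasedFunctor.comp (BasedFunctor.comp (AlgSt.overMap (pullback.fst h₁ s)) x₁) f ≅
        BasedFunctor.comp (AlgSt.overMap (pullback.snd h₁ s)) (BasedFunctor.comp (AlgSt.overMap r) x₂) :=
      e1 ≪≫ K735.Fib.whiskerRightIso e2 y₁ ≪≫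
        (K735.Fib.whiskerLeftIso (AlgSt.overMap (pullback.snd h₁ s)) e3 :
          BasedFunctor.comp (BasedFunctor.comp (AlgSt.overMap (pullback.snd h₁ s)) (AlgSt.overMap s)) y₁ ≅ _)
    exact (K735.Fib.whiskerRightIso e5 g :
        BasedFunctor.comp (BasedFunctor.comp (BasedFunctor.comp (AlgSt.overMap (pullback.fst h₁ s)) x₁) f) g ≅ _) ≪≫
      (K735.Fib.whiskerLeftIso (AlgSt.overMap (pullback.snd h₁ s)) e4 :
        BasedFunctor.comp (AlgSt.overMap (pullback.snd h₁ s))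
          (BasedFunctor.comp (AlgSt.overMap r) (BasedFunctor.comp x₂ g)) ≅ _) ≪≫
      (K735.Fib.whiskerRightIso (K743.Chart.overMapComp (pullback.snd h₁ s) (r ≫ h₂)) y₂ :
        BasedFunctor.comp (BasedFunctor.comp (AlgSt.overMap (pullback.snd h₁ s)) (AlgSt.overMap (r ≫ h₂))) y₂ ≅ _)
  · exact K743.Comp.locP_overMap_comp K597.etLoc_smooth _ hsm x₁ hx₁
  · exact K743.Comp.surjective_overMap_comp _ hsu x₁ hs₁
  · exact hcomp _ _ (hbc _ _ _ _ (IsPullback.of_hasPullback h₁ s) hs hh₁) (hpre _ _ hr hh₂)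

end K743.LocQComp
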