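import Groth.Agent.AlgSt.K743.SetUp
import Groth.Agent.AlgSt.K743.FixPt
import Groth.Agent.AlgSt.K743.ChF

/-!
# The local structure of separated Deligne-Mumford stacks (helper743): S16964
-/

set_option autoImplicit false

universe u

open CategoryTheory CategoryTheory.Limits AlgebraicGeometry K746
open K734.Fib (IsVert)

namespace K743.Main964

open K743.DistV K743.Cst K743.DistSpec K743.DistEq K743.TwX K743.DistFun K743.GeoPt K743.FixPt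

variable (R : Type u) [CommRing R] {𝒳 : AlgSt.Cat (Spec (CommRingCat.of R))}

theorem autFam {U : Over (Spec (CommRingCat.of R))} {z : FibCat.overCat U ⥤ᵇ 𝒳} (h𝒳 : FibCat.IsFibGrpd 𝒳.p)
    {k : Type u} [Field k] {s : Spec (CommRingCat.of k) ⟶ Spec (CommRingCat.of R)} (u₀ : Over.mk s ⟶ U)
    {y : 𝒳.obj} (ψ : Xo z u₀ ≅ y) (hψ : IsVert 𝒳 ψ.hom) {G : Type u} [Group G]
    (eG : G ≃* Gerb.AutO y) : AutFam R z u₀ (fun g => ψ.hom ≫ (eG g).hom.1 ≫ ψ.inv) where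
  vert g := hψ.comp ((IsVert.of_lift (eG g).hom.2).comp hψ.inv)
  one := by
    have h1 : (eG 1).hom.1 = 𝟙 y := congrArg (fun m : Gerb.AutO y => m.hom.1) (map_one eG)
    rw [h1, Category.id_comp, Iso.hom_inv_id]
  mul g h := by
    have h1 : (eG (g * h)).hom.1 = (eG h).hom.1 ≫ (eG g).hom.1 :=
      congrArg (fun m : Gerb.AutO y => m.hom.1) (map_mul eG g h)
    rw [h1]
    simp only [Category.assoc, Iso.inv_hom_id_assoc]
  inj g h e := by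
    have h1 : (eG g).hom.1 = (eG h).hom.1 := by
      have h2 := (cancel_epi ψ.hom).1 e
      exact (cancel_mono ψ.inv).1 h2
    apply eG.injective
    apply Iso.ext
    exact Functor.Fiber.hom_ext h1
  surj β hβ := by
    have h1 : IsVert 𝒳 (ψ.inv ≫ β ≫ ψ.hom) := hψ.inv.comp (hβ.comp hψ)
    have h2 : IsIso (ψ.inv ≫ β ≫ ψ.hom) := K734.Fib.isIso_of_vert h𝒳 h1
    refine ⟨eG.symm (K747.AutO.ofIso (asIso (ψ.inv ≫ β ≫ ψ.hom)) h1), ?_⟩
    dsimp only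
    rw [MulEquiv.apply_symm_apply]
    change ψ.hom ≫ (ψ.inv ≫ β ≫ ψ.hom) ≫ ψ.inv = β
    simp only [Category.assoc, Iso.hom_inv_id_assoc, Iso.hom_inv_id, Category.comp_id]

theorem main (h𝒳 : AlgSt.IsDM Scheme.etalePrecoverage 𝒳) (hsep : AlgSt.IsSeparatedOver 𝒳)
    (k : Type u) [Field k] [IsAlgClosed k] (s : Spec (CommRingCat.of k) ⟶ Spec (CommRingCat.of R))
    (ξ : FibCat.overCat (Over.mk s) ⥤ᵇ 𝒳)
    (G : Type u) [Group G] [Fintype G] [DecidableEq G]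
    (eG : G ≃* Gerb.AutO (ξ.obj (Over.mk (𝟙 (Over.mk s))))) :
    ∃ (A : Type u) (_ : CommRing A) (_ : Algebra R A) (_ : MulSemiringAction G A) (_ : SMulCommClass G R A)
      (f : ConstAct.quotSt R A G Scheme.etalePrecoverage ⥤ᵇ 𝒳)
      (w : FibCat.overCat (Over.mk s) ⥤ᵇ ConstAct.quotSt R A G Scheme.etalePrecoverage)
      (_ : BasedFunctor.comp w f ≅ ξ),
      AlgSt.RepByAlgSpWith AlgSp.IsEtaleMor f ∧ AlgSt.RepByAlgSpWith AlgSp.IsAffineMor f ∧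
        ∀ T : Over (Over.mk s), Function.Bijective (Gerb.autMap f (w.obj T)) := by
  have hgr : FibCat.IsFibGrpd 𝒳.p := h𝒳.1.isStack.1
  obtain ⟨U₁, x, hx, hxs⟩ := h𝒳.2
  obtain ⟨U, hU, z, hz, v₀, ⟨φ⟩⟩ := SetUp.exists_lift hgr x hx hxs ξ
  have hΔ := SetUp.finite_diag h𝒳 hsep
  obtain ⟨E, Gc, hs, hsa⟩ := SetUp.exists_chartRep hgr hΔ hU z hz
  obtain ⟨A, I1, I2, I3, I4, r, hr, hu, het, haf, hact⟩ := exists_univ R (Gc.toOGpd hgr) G hU hs hsa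
  have hf1 := ChF.etale_tFun h𝒳.1 (eqD R hgr Gc hr hact) (faith R hgr Gc hr hact)
    (SetUp.etale_overMap_comp (r 1 ≫ Gc.s) het z hz)
  have hf2 := ChF.affine_tFun h𝒳.1 (eqD R hgr Gc hr hact) (faith R hgr Gc hr hact)
    (SetUp.affine_of_diag hgr hΔ (inferInstanceAs (IsAffine (Spec (CommRingCat.of A)))) _)
  let u₀ : Over.mk s ⟶ U := 𝟙 _ ≫ v₀
  have hα := autFam R (z := z) hgr u₀ (K734.Fib.app φ (K735.Fp.idObj (Over.mk s)))
    (K734.Fib.app_vert φ _) eG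
  obtain ⟨ρ, hρ⟩ := exists_rho0 R Gc hα
  obtain ⟨v, hv, -⟩ := hu ρ (isFam_rho R hgr Gc hα hρ)
  have key : Nonempty (BasedFunctor.comp (BasedFunctor.comp (AlgSt.overMap v) (ChF.ch R A G))
      (tFun (eqD R hgr Gc hr hact) h𝒳.1.isStack) ≅ ξ) := by
    let a := (AlgSt.ofOverCat (ConstAct.X R A)).obj ((AlgSt.overMap v).obj (K735.Fp.idObj (Over.mk s)))
    have h1 := θ₀_lift (eqD R hgr Gc hr hact) h𝒳.1.isStack a
    have h2 : IsIso (θ₀ (eqD R hgr Gc hr hact) h𝒳.1.isStack a) := K734.Fib.isIso_of_vert hgr (IsVert.of_lift h1)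
    have e1 : (v ≫ r 1) ≫ Gc.s = u₀ := (congrArg (· ≫ Gc.s) (hv 1)).trans (hρ 1).hs
    have h3 : 𝟙 _ ≫ u₀ = (𝟙 _ ≫ v) ≫ r 1 ≫ Gc.s :=
      (congrArg (𝟙 _ ≫ ·) (e1.symm.trans (Category.assoc v (r 1) Gc.s))).trans (Category.assoc _ _ _).symm
    have h4 := rs_lift z (𝟙 (Over.mk s)) h3
    let m := CategoryTheory.inv (θ₀ (eqD R hgr Gc hr hact) h𝒳.1.isStack a) ≫ rs z (𝟙 (Over.mk s)) h3 ≫
      (K734.Fib.app φ (K735.Fp.idObj (Over.mk s))).hom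
    have hm : IsVert 𝒳 m :=
      (IsVert.of_lift h1).isIso_inv.comp ((IsVert.of_lift h4).comp (K734.Fib.app_vert φ _))
    exact ⟨K735.Fp.yonIso hgr _ ξ m hm⟩
  obtain ⟨i⟩ := key
  refine ⟨A, I1, I2, I3, I4, tFun (eqD R hgr Gc hr hact) h𝒳.1.isStack, BasedFunctor.comp (AlgSt.overMap v) (ChF.ch R A G),
    i, hf1, hf2, fun T => ?_⟩
  refine autMap_bijective (eqD R hgr Gc hr hact) h𝒳.1.isStack (faith R hgr Gc hr hact)
    ((AlgSt.ofOverCat (ConstAct.X R A)).obj ((AlgSt.overMap v).obj T)) fun β hβ => ?_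
  exact full R hgr Gc hα hρ hr hact hu hv hs T.hom β (IsVert.of_lift hβ)

end K743.Main964
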