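import Groth.Prelude.Def_AlgSt2
import Groth.Agent.AlgSt.K734.Fib
import Groth.Agent.AlgSt.K747.Fib

/-!
# Naming objects of a category over `(Sch/S)` represented by a sheaf

For an equivalence `e : ofSp F ⥤ᵇ 𝒬`, `Names e y η` says that the section `y ∈ F(T)` names the object `η` over `T`.
-/

set_option autoImplicit false
set_option backward.isDefEq.respectTransparency false
set_option backward.isDefEq.respectTransparency.types false

universe w v u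

open CategoryTheory CategoryTheory.Limits AlgebraicGeometry Opposite

namespace K743.Name

variable {S : Scheme.{u}} {F : AlgSp.Sp S} {𝒬 : BasedCategory.{v, w} (Over S)} (e : AlgSt.ofSp F ⥤ᵇ 𝒬)

/-- the section `y` names the object `η` -/
def Names {T : Over S} (y : F.obj.obj (op T)) (η : 𝒬.obj) : Prop :=
  ∃ ψ : e.obj (⟨T, y⟩ : (AlgSt.ofSp F).obj) ⟶ η, 𝒬.p.IsHomLift (𝟙 T) ψ

variable {e}

theorem exists_names (he : FibCat.IsEquivOver e) {T : Over S} (η : 𝒬.obj) (hη : 𝒬.p.obj η = T) :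
    ∃ y : F.obj.obj (op T), Names e y η := by
  obtain ⟨a, i, hi⟩ := K734.Fib.essSurjOver_of he η
  have h1 : a.base = T := by
    have h2 : 𝒬.p.obj (e.obj a) = a.base := e.w_obj a
    rw [← h2, ← hη]
    exact hi.obj_eq
  obtain ⟨B, y⟩ := a
  change B = T at h1
  subst h1
  exact ⟨y, i.hom, hi.lift (e.w_obj _)⟩

theorem names_hom (h𝒬 : FibCat.IsFibGrpd 𝒬.p) (he : FibCat.IsEquivOver e) {T T' : Over S} {y : F.obj.obj (op T)}
    {y' : F.obj.obj (op T')} {η η' : 𝒬.obj} (h : Names e y η) (h' : Names e y' η') (g : T' ⟶ T) (ψ : η' ⟶ η)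
    (hψ : 𝒬.p.IsHomLift g ψ) : F.obj.map g.op y = y' := by
  obtain ⟨α, hα⟩ := h
  obtain ⟨α', hα'⟩ := h'
  have hi : IsIso α := K747.Fib.isIso_of_vert h𝒬 α hα
  have hfull := K734.Fib.full_of he
  obtain ⟨χ, hχ⟩ := hfull.map_surjective (α' ≫ ψ ≫ inv α)
  have h1 : 𝒬.p.IsHomLift g (e.map χ) := by
    have h2 : e.map χ = α' ≫ ψ ≫ inv α := hχ
    rw [h2]
    have h3 : 𝒬.p.IsHomLift (𝟙 T) (inv α) := inferInstance
    have h4 : 𝒬.p.IsHomLift (𝟙 T' ≫ g ≫ 𝟙 T) (α' ≫ ψ ≫ inv α) := inferInstance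
    simpa using h4
  have h2 : (AlgSt.ofSp F).p.IsHomLift g χ := (BasedFunctor.isHomLift_iff e g χ).1 h1
  let g' : (AlgSt.ofSp F).p.obj (⟨T', y'⟩ : (AlgSt.ofSp F).obj) ⟶
      (AlgSt.ofSp F).p.obj (⟨T, y⟩ : (AlgSt.ofSp F).obj) := g
  have h2' : (AlgSt.ofSp F).p.IsHomLift g' χ := h2
  have h3 : g = χ.hom := IsHomLift.eq_of_isHomLift (AlgSt.ofSp F).p g' χ
  rw [h3]
  exact χ.map_sec

theorem names_of_hom (h𝒬 : FibCat.IsFibGrpd 𝒬.p) {T T' : Over S} {y : F.obj.obj (op T)}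
    {y' : F.obj.obj (op T')} {η η' : 𝒬.obj} (h : Names e y η) (h' : Names e y' η') (g : T' ⟶ T)
    (hg : F.obj.map g.op y = y') : ∃ ψ : η' ⟶ η, 𝒬.p.IsHomLift g ψ := by
  obtain ⟨α, hα⟩ := h
  obtain ⟨α', hα'⟩ := h'
  have hi : IsIso α' := K747.Fib.isIso_of_vert h𝒬 α' hα'
  let χ : (⟨T', y'⟩ : (AlgSt.ofSp F).obj) ⟶ ⟨T, y⟩ := ⟨g, hg⟩
  have h1 : (AlgSt.ofSp F).p.IsHomLift g χ := IsHomLift.map (AlgSt.ofSp F).p χ
  have h2 : 𝒬.p.IsHomLift g (e.map χ) := BasedFunctor.preserves_isHomLift e g χ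
  have h3 : 𝒬.p.IsHomLift (𝟙 T') (inv α') := inferInstance
  refine ⟨inv α' ≫ e.map χ ≫ α, ?_⟩
  have h4 : 𝒬.p.IsHomLift (𝟙 T' ≫ g ≫ 𝟙 T) (inv α' ≫ e.map χ ≫ α) := inferInstance
  simpa using h4

end K743.Name
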