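import Mathlib

/-!
# Finite fibre powers of a morphism in `Over S` (helper743)
-/

set_option autoImplicit false
set_option backward.isDefEq.respectTransparency false
set_option backward.isDefEq.respectTransparency.types false

universe u

open CategoryTheory CategoryTheory.Limits AlgebraicGeometry

namespace K743.PowU

variable {S : Scheme.{u}}

/-- `(W, c, r)` is the fibre power of `s` indexed by `ι` -/
def IsPow {U A : Over S} (s : A ⟶ U) {ι : Type u} {W : Over S} (c : W ⟶ U) (r : ι → (W ⟶ A)) : Prop :=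
  (∀ i, r i ≫ s = c) ∧ ∀ {T : Over S} (b : T ⟶ U) (ρ : ι → (T ⟶ A)), (∀ i, ρ i ≫ s = b) →
    ∃! w : T ⟶ W, w ≫ c = b ∧ ∀ i, w ≫ r i = ρ i

theorem exists_pow (P : MorphismProperty Scheme.{u}) [P.IsStableUnderBaseChange] [P.IsStableUnderComposition]
    [P.ContainsIdentities] {U A : Over S} (s : A ⟶ U) (hs : P s.left) (ι : Type u) [Finite ι] :
    ∃ (W : Over S) (c : W ⟶ U) (r : ι → (W ⟶ A)), IsPow s c r ∧ P c.left := by
  induction ι using Finite.induction_empty_option with
  | of_equiv e h =>
    obtain ⟨W, c, r, ⟨h1, h2⟩, h3⟩ := h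
    refine ⟨W, c, fun j => r (e.symm j), ⟨fun j => h1 _, fun {T} b ρ hρ => ?_⟩, h3⟩
    obtain ⟨w, ⟨hw1, hw2⟩, hw3⟩ := h2 b (fun i => ρ (e i)) (fun i => hρ _)
    refine ⟨w, ⟨hw1, fun j => ?_⟩, fun w' hw' => hw3 w' ⟨hw'.1, fun i => ?_⟩⟩
    · have := hw2 (e.symm j)
      simp only [Equiv.apply_symm_apply] at this
      exact this
    · have := hw'.2 (e i)
      simp only [Equiv.symm_apply_apply] at this
      exact this
  | h_empty =>
    refine ⟨U, 𝟙 U, fun i => i.elim, ⟨fun i => i.elim, fun {T} b ρ _ => ⟨b, ⟨Category.comp_id _, fun i => i.elim⟩,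
      fun w hw => by rw [← hw.1, Category.comp_id]⟩⟩, ?_⟩
    exact MorphismProperty.id_mem P _
  | h_option h =>
    obtain ⟨W, c, r, ⟨h1, h2⟩, h3⟩ := h
    let c' : pullback c s ⟶ U := pullback.fst c s ≫ c
    refine ⟨pullback c s, c', fun i => i.elim (pullback.snd c s) (fun j => pullback.fst c s ≫ r j),
      ⟨fun i => ?_, fun {T} b ρ hρ => ?_⟩, ?_⟩
    · cases i with
      | none => exact pullback.condition.symm
      | some j => exact (Category.assoc _ _ _).trans (congrArg (pullback.fst c s ≫ ·) (h1 j))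
    · obtain ⟨w, ⟨hw1, hw2⟩, hw3⟩ := h2 b (fun i => ρ (some i)) (fun i => hρ _)
      refine ⟨pullback.lift w (ρ none) (by rw [hw1, hρ]), ⟨?_, fun i => ?_⟩, fun w' hw' => ?_⟩
      · exact (pullback.lift_fst_assoc _ _ _ _).trans hw1
      · cases i with
        | none => exact pullback.lift_snd _ _ _
        | some j => exact (pullback.lift_fst_assoc _ _ _ _).trans (hw2 j)
      · apply pullback.hom_ext
        · rw [pullback.lift_fst]
          refine hw3 _ ⟨(Category.assoc _ _ _).trans hw'.1, fun i => (Category.assoc _ _ _).trans (hw'.2 (some i))⟩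
        · rw [pullback.lift_snd]
          exact hw'.2 none
    · change P ((pullback.fst c s).left ≫ c.left)
      refine P.comp_mem _ _ ?_ h3
      exact MorphismProperty.of_isPullback ((IsPullback.of_hasPullback c s).map (Over.forget _)).flip hs

end K743.PowU
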