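import Groth.Agent.AlgSt.K743.FppfDesc
import Groth.Agent.AlgSt.K744.SpQStk

/-!
# The classifying stack of a group algebraic space (torsors as sheaves): properties of the diagonal and of the unit

`K743.SpBG.main`: S18328 relative to S10104.
-/

set_option autoImplicit false
set_option backward.isDefEq.respectTransparency false
set_option backward.isDefEq.respectTransparency.types false

universe w v u

open CategoryTheory CategoryTheory.Limits MonoidalCategory CartesianMonoidalCategory MonObj GrpObj AlgebraicGeometry Opposite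
open AlgSt AlgSp K747 K747.Sc

namespace K743.SpBG

open K745.SpPt K745.SpRep K745.SpFp K745.SpMap FppfDesc

variable {S : Scheme.{u}} {B : AlgSp.Sp S} {G : Over B} [GrpObj G]
variable {X : Over B} {aX : AlgSp.GAction G X}
variable {P : MorphismProperty (Sp S)} [P.IsStableUnderBaseChange]

section

variable (h104 : H104 S) (hloc : IsLocalOnBase IsFppfCover P) (hB : IsAlgSpace B) (hG : IsAlgSpace G.left)
  (hP : P G.hom)

include h104 hloc hB hG hP

theorem prop_π (A : SpQuotObj Scheme.fppfPrecoverage G aX) : P A.π.left := by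
  obtain ⟨V, p, y, hf, hp, hs, hy⟩ := K744.SpAlg.exists_section A
  obtain ⟨a, sq⟩ := K744.SpAlg.isPullback_of_section A p y hy
  have sq' := K744.SpQ.isPullback_left sq
  have hA : IsAlgSpace (G ⊗ Over.mk ((yon S).map p ≫ A.b)).left :=
    K608.Comp.isAlgSpace_of_isPullback (K744.SpQ.isPullback_left (isPullback_fst_snd' G (Over.mk ((yon S).map p ≫ A.b))))
      hG (IsAlgSpace.yon_obj V) hB
  exact prop_descend hloc h104 hf hp hs sq' hA
    (MorphismProperty.of_isPullback (isPullback_G (Over.mk ((yon S).map p ≫ A.b))) hP)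

theorem prop_str {U : Over S} (y : FibCat.overCat U ⥤ᵇ SpQuotSt Scheme.fppfPrecoverage G aX) : P (str y) := by
  have h1 := prop_π h104 hloc hB hG hP (one y : SpQuotObj _ G aX)
  exact (P.cancel_right_of_respectsIso _ _).2 h1

theorem repByAlgSpWith_spQuotMap : RepByAlgSpWith P (spQuotMap Scheme.fppfPrecoverage G aX) := by
  intro U y
  obtain ⟨e, he, h1, h2⟩ := K745.SpFp.exists_isEquivOver y
  refine ⟨⟨_, K744.SpAlg.isAlgSpace_P h104 hB hG (one y : SpQuotObj _ G aX)⟩, e, he, ?_⟩
  rw [h1]
  rw [K735.Rep.spMapOfOver_ofSpMap_toOverCat]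
  exact prop_str h104 hloc hB hG hP y

end

section

variable (G : Over ((AlgSp.yon S).obj (Over.mk (𝟙 S)))) [GrpObj G]

/-- the trivial torsor as a functor from the slice category -/
noncomputable def unitFun : FibCat.overCat (Over.mk (𝟙 S)) ⥤ᵇ SpBG Scheme.fppfPrecoverage G :=
  BasedFunctor.comp (ofOverCat (Over.mk (𝟙 S))) (spQuotMap Scheme.fppfPrecoverage G (trivGAction G))

theorem exists_sec {T : Over S} (x : FibCat.overCat T ⥤ᵇ SpBG Scheme.fppfPrecoverage G) :
    ∃ (V : Over S) (s : Sec x (unitFun G) V), Flat s.t.left ∧ LocallyOfFinitePresentation s.t.left ∧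
      Surjective s.t.left := by
  obtain ⟨V, p, y, hf, hp, hs, hy⟩ := K744.SpAlg.exists_section (one x : SpQuotObj _ G (trivGAction G))
  obtain ⟨q, rfl⟩ := exists_sy y
  have h𝒳 : FibCat.IsFibGrpd (SpBG Scheme.fppfPrecoverage G).p := K744.SpQ.isFibGrpd
  have hl := (K745.SpFp.data x).lift V q
  have e1 : πp (str x) q = p ≫ eqToHom (one_base x) := by
    apply (AlgSp.yon S).map_injective
    rw [← sy_down, ← sy_comp, str, ← Category.assoc]
    refine (congrArg (· ≫ (AlgSp.yon S).map (eqToHom (one_base x))) hy).trans ?_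
    rw [← Functor.map_comp]
  obtain ⟨φ, ⟨hφ, -⟩, -⟩ := K747.Fib.existsUnique_fac h𝒳 hl
    (yTo_isHomLift x (Over.mk (πp (str x) q))) (𝟙 V) (Category.id_comp _)
  refine ⟨V, ⟨πp (str x) q, ((((one x : SpQuotObj _ G (trivGAction G)).φ.left.hom.app (op V) q : _) :
    ((AlgSp.yon S).obj (Over.mk (𝟙 S))).obj.obj (op V))).down, φ, hφ⟩, ?_, ?_, ?_⟩
  · change Flat (πp (str x) q).left
    rw [e1, Over.comp_left]
    infer_instance
  · change LocallyOfFinitePresentation (πp (str x) q).left
    rw [e1, Over.comp_left]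
    infer_instance
  · change Surjective (πp (str x) q).left
    rw [e1, Over.comp_left]
    infer_instance

theorem main {P : MorphismProperty (Sp S)} [P.IsStableUnderBaseChange] (h104 : H104 S)
    (hG : IsAlgSpace G.left) (hloc : IsLocalOnBase IsFppfCover P) (hP : P G.hom) :
    RepByAlgSpWith P (FibCat.diag (FibCat.toSelf (SpBG Scheme.fppfPrecoverage G))) ∧
      RepByAlgSpWith P (spQuotMap Scheme.fppfPrecoverage G (trivGAction G)) := by
  have h2 : RepByAlgSpWith P (spQuotMap Scheme.fppfPrecoverage G (trivGAction G)) :=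
    repByAlgSpWith_spQuotMap h104 hloc (IsAlgSpace.yon_obj _) hG hP
  refine ⟨?_, h2⟩
  have hs := K744.SpQ.isStack (trivGAction G)
  have hp : Stk.IsPrestack (AlgSp.J S) (SpBG Scheme.fppfPrecoverage G) := ⟨hs.1, fun U R hR => by
    have : (Stk.resSieve R (SpBG Scheme.fppfPrecoverage G)).IsEquivalence := hs.2 R hR
    exact ⟨inferInstance, inferInstance⟩⟩
  refine diag_with h104 hloc hp
    (U := Over.mk (𝟙 S)) (fun V => ⟨fun a b => Over.OverMorphism.ext ?_⟩)
    (z := unitFun G) ?_ (fun T x => exists_sec G x)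
  · have h1 : a.left ≫ 𝟙 S = V.hom := Over.w a
    have h2 : b.left ≫ 𝟙 S = V.hom := Over.w b
    exact (Category.comp_id _).symm.trans (h1.trans (h2.symm.trans (Category.comp_id _)))
  · exact (K734.Rep.repByAlgSpWith_precomp_iff (K735.Rep.isEquivOver_ofOverCat _) _).2 h2

end

end K743.SpBG
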