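import Groth.Prelude.Def_StGerb2
import Groth.Agent.AlgSt.K747.Inert
import Groth.Agent.AlgSt.K738.LftDiag
import Groth.Agent.S3020
import Groth.Agent.AlgSp.K597.QAff
import Groth.Agent.AlgSt.K738.YonProps

/-!
# The automorphism group scheme of a point and the presheaf of automorphisms; quasi-affine diagonal

* `K743.StabQA.autIso`: if `G` is the automorphism group scheme of `x : (Sch/T) ⟶ 𝒳` then `Isom(x, x)` is represented by `G`.
* `K743.StabQA.main`: S16859.
-/

set_option autoImplicit false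
set_option backward.isDefEq.respectTransparency false
set_option backward.isDefEq.respectTransparency.types false
universe w v₂ u₂ v u

open CategoryTheory Opposite K734.Fib AlgebraicGeometry Limits K747 K747.Sc

namespace K743.StabQA

variable {S : Scheme.{u}} {𝒳 : BasedCategory.{u, w} (Over S)} (h𝒳 : FibCat.IsFibGrpd 𝒳.p)
variable {T : Over S} (x : FibCat.overCat T ⥤ᵇ 𝒳) (G : Over T.left) [GrpObj G] (hG : Gerb.AutRep x (Gerb.ptsGrp T G))

/-- the group scheme as a scheme over `S` -/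
abbrev tot (T : Over S) (G : Over T.left) : Over S := Over.mk (G.hom ≫ T.hom)

/-- the structure morphism as a morphism over `S` -/
abbrev str (T : Over S) (G : Over T.left) : tot T G ⟶ T := Over.homMk G.hom

/-- a morphism to the total space as a point over `T` -/
abbrev toPt {V : Over S} (g : V ⟶ tot T G) : (Over.iteratedSliceForward T).obj (Over.mk (g ≫ str T G)) ⟶ G :=
  Over.homMk g.left (by
    change g.left ≫ G.hom = (g ≫ str T G).left
    rw [Over.comp_left]
    rfl)

omit [GrpObj G] in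
theorem vert_of {a : FibCat.overCat T ⥤ᵇ 𝒳} {t : Over T} (α : Gerb.AutO (a.obj t)) : IsVert 𝒳 α.hom.1 := by
  have := α.hom.2
  exact IsVert.of_lift this

/-- the section attached to a point -/
noncomputable def sec {V : Over S} (g : V ⟶ tot T G) : (I h𝒳 x x).obj (op V) :=
  autSec h𝒳 x (g ≫ str T G) (hG.iso (Over.mk (g ≫ str T G)) (toPt G g)).hom.1 (vert_of _)

/-- the morphism from the representable presheaf -/
noncomputable def autHom : (AlgSp.pyon S).obj (tot T G) ⟶ I h𝒳 x x where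
  app V := ↾fun g => sec h𝒳 x G hG g.down
  naturality V V' h := by
    ext g
    refine Eq.symm ((isoPsh_map_eq_iff h𝒳).2 ⟨(Category.assoc _ _ _).symm, (Category.assoc _ _ _).symm, ?_⟩)
    have := hG.natural (T' := Over.mk ((h.unop ≫ g.down) ≫ str T G)) (T := Over.mk (g.down ≫ str T G))
      (Over.homMk h.unop (Category.assoc _ _ _).symm) (toPt G g.down)
    exact this

theorem sec_injective {V : Over S} {g g' : V ⟶ tot T G} (h : sec h𝒳 x G hG g = sec h𝒳 x G hG g') : g = g' := by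
  have ht : g ≫ str T G = g' ≫ str T G := congrArg (fun k => k.1.down.t) h
  have key : ∀ (t t' : V ⟶ T) (e : t = t') (a : (Gerb.ptsGrp T G).obj (op (Over.mk t)))
      (a' : (Gerb.ptsGrp T G).obj (op (Over.mk t'))),
      autSec h𝒳 x t (hG.iso (Over.mk t) a).hom.1 (vert_of _) = autSec h𝒳 x t' (hG.iso (Over.mk t') a').hom.1 (vert_of _) →
      (show (Over.iteratedSliceForward T).obj (Over.mk t) ⟶ G from a).left =
        (show (Over.iteratedSliceForward T).obj (Over.mk t') ⟶ G from a').left := by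
    rintro t _ rfl a a' h
    have h1 := autSec_inj h
    have h2 : hG.iso (Over.mk t) a = hG.iso (Over.mk t) a' := by
      apply Aut.ext
      apply Functor.Fiber.hom_ext
      exact h1
    rw [(hG.iso (Over.mk t)).injective h2]
  exact Over.OverMorphism.ext (key _ _ ht _ _ h)

theorem sec_surjective {V : Over S} (s : (I h𝒳 x x).obj (op V)) : ∃ g : V ⟶ tot T G, sec h𝒳 x G hG g = s := by
  obtain ⟨t, φ, hφ, rfl⟩ := exists_autSec s
  have hb : 𝒳.p.obj (x.obj (Over.mk t)) = V := x.w_obj _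
  have hφ1 : 𝒳.p.IsHomLift (𝟙 (𝒳.p.obj (x.obj (Over.mk t)))) φ := hφ.lift rfl
  have hi : IsIso φ := K747.Fib.isIso_of_vert h𝒳 φ hφ1
  have hφ2 : 𝒳.p.IsHomLift (𝟙 (𝒳.p.obj (x.obj (Over.mk t)))) (inv φ) :=
    (IsVert.isIso_inv hφ).lift rfl
  let α : Gerb.AutO (x.obj (Over.mk t)) :=
    { hom := ⟨φ, hφ1⟩
      inv := ⟨inv φ, hφ2⟩
      hom_inv_id := Functor.Fiber.hom_ext (IsIso.hom_inv_id φ)
      inv_hom_id := Functor.Fiber.hom_ext (IsIso.inv_hom_id φ) }
  obtain ⟨a, ha⟩ := (hG.iso (Over.mk t)).surjective α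
  let a' : (Over.iteratedSliceForward T).obj (Over.mk t) ⟶ G := a
  have hw : a'.left ≫ G.hom = t.left := Over.w a'
  let g : V ⟶ tot T G := Over.homMk a'.left (by
    change a'.left ≫ G.hom ≫ T.hom = V.hom
    rw [← Category.assoc, hw]
    exact Over.w t)
  have hg : g ≫ str T G = t := Over.OverMorphism.ext hw
  refine ⟨g, ?_⟩
  have key : ∀ (t' : V ⟶ T) (e : t' = t) (b : (Gerb.ptsGrp T G).obj (op (Over.mk t')))
      (_ : (show (Over.iteratedSliceForward T).obj (Over.mk t') ⟶ G from b).left = a'.left),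
      autSec h𝒳 x t' (hG.iso (Over.mk t') b).hom.1 (vert_of _) = autSec h𝒳 x t φ hφ := by
    rintro _ rfl b hb
    have : b = a := Over.OverMorphism.ext hb
    subst this
    have h1 : (hG.iso (Over.mk _) b).hom.1 = φ := congrArg (fun k => k.hom.1) ha
    congr 1
  exact key _ hg _ rfl

/-- the representation of the presheaf of automorphisms -/
instance : IsIso (autHom h𝒳 x G hG) := by
  rw [NatTrans.isIso_iff_isIso_app]
  intro V
  rw [isIso_iff_bijective]
  refine ⟨fun g g' h => ?_, fun s => ?_⟩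
  · exact ULift.ext _ _ (sec_injective h𝒳 x G hG h)
  · obtain ⟨g, hg⟩ := sec_surjective h𝒳 x G hG s
    exact ⟨⟨g⟩, hg⟩

theorem autHom_prI : autHom h𝒳 x G hG ≫ prI h𝒳 x x = (AlgSp.pyon S).map (str T G) := rfl

/-- **properties of the stabilizer group scheme from properties of the diagonal** -/
theorem prop_str (h𝒳 : FibCat.IsFibGrpd 𝒳.p) (hG : Gerb.AutRep x (Gerb.ptsGrp T G)) (Q : MorphismProperty (AlgSp.Sp S)) [Q.RespectsIso]
    (hd : AlgSt.RepByAlgSpWith Q (FibCat.diag (FibCat.toSelf 𝒳))) : Q ((AlgSp.yon S).map (str T G)) := by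
  obtain ⟨h, -, hQ⟩ := diag_with h𝒳 Q hd x x
  let e : (AlgSp.yon S).obj (tot T G) ⟶ (⟨I h𝒳 x x, h⟩ : AlgSp.Sp S) := ObjectProperty.homMk (autHom h𝒳 x G hG)
  have he : IsIso e := by
    have : IsIso ((sheafToPresheaf (AlgSp.J S) _).map e) := inferInstanceAs (IsIso (autHom h𝒳 x G hG))
    exact isIso_of_reflects_iso e (sheafToPresheaf (AlgSp.J S) _)
  have h1 : (AlgSp.yon S).map (str T G) = e ≫ prI' h𝒳 x x h := rfl
  rw [h1]
  exact (Q.cancel_left_of_respectsIso _ _).2 hQ

theorem isQuasiAffineMor_eq : (AlgSp.IsQuasiAffineMor : MorphismProperty (AlgSp.Sp S)) =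
    AlgSp.RepWith Groth.Agent.Ega2.QuasiAffine.QAff := by
  ext F G f
  exact K597.QAff.isQuasiAffineMor_iff

instance : (AlgSp.IsQuasiAffineMor : MorphismProperty (AlgSp.Sp S)).IsStableUnderBaseChange := by
  rw [isQuasiAffineMor_eq]
  infer_instance

instance : (AlgSp.IsQuasiAffineMor : MorphismProperty (AlgSp.Sp S)).IsMultiplicative := by
  rw [isQuasiAffineMor_eq]
  infer_instance

theorem isQuasiAffine_of {T W : Over S} {j : W ⟶ T} (hT : IsAffine T.left)
    (h : AlgSp.IsQuasiAffineMor ((AlgSp.yon S).map j)) : W.left.IsQuasiAffine := by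
  obtain ⟨W', i, fst, sq, hW'⟩ := h hT (𝟙 _)
  have h1 : IsIso fst := sq.isIso_fst_of_isIso
  obtain ⟨f, rfl⟩ := (AlgSp.yon S).map_surjective fst
  have h2 : IsIso f := isIso_of_reflects_iso f (AlgSp.yon S)
  have h3 : IsIso (inv f).left := inferInstance
  exact Scheme.IsQuasiAffine.of_isAffineHom (inv f).left

theorem main {𝒳 : AlgSt.Cat S} (h𝒳 : AlgSt.IsAlgStack Scheme.fppfPrecoverage 𝒳)
    (hΔ : AlgSt.RepByAlgSpWith AlgSp.IsQuasiAffineMor (FibCat.diag (FibCat.toSelf 𝒳)))
    (k : Type u) [Field k] (p : Spec (CommRingCat.of k) ⟶ S)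
    (x : FibCat.overCat (Over.mk p) ⥤ᵇ 𝒳) (G : Over (Over.mk p).left) [GrpObj G]
    (hG : Gerb.AutRep x (Gerb.ptsGrp (Over.mk p) G)) :
    IsAffine G.left ∧ LocallyOfFiniteType G.hom := by
  have hgr : FibCat.IsFibGrpd 𝒳.p := h𝒳.isStack.1
  have h1 := prop_str x G hgr hG AlgSp.IsQuasiAffineMor hΔ
  have h2 := prop_str x G hgr hG (AlgSp.LocP @LocallyOfFiniteType) (K738.Lft.repByAlgSpWith_lft_diag_toSelf h𝒳)
  have hA : IsAffine (Over.mk p).left := inferInstanceAs (IsAffine (Spec (CommRingCat.of k)))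
  have h3 : (tot (Over.mk p) G).left.IsQuasiAffine := isQuasiAffine_of hA h1
  have h3 : G.left.IsQuasiAffine := h3
  have h4 : LocallyOfFiniteType G.hom := (K738.locP_lft_yon_iff _).1 h2
  have h5 : QuasiCompact G.hom := by
    have : CompactSpace G.left := inferInstance
    exact (HasAffineProperty.iff_of_isAffine (P := @QuasiCompact) (f := (show G.left ⟶ Spec (CommRingCat.of k) from G.hom))).2 this
  exact ⟨Groth.Agent.S3020.result k G, h4⟩

end K743.StabQA
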