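import Groth.Agent.AlgSt.K750.Twist
import Groth.Agent.AlgSt.K746.ChartRep

/-!
# Functors out of the quotient category `[X/G]` (helper743)

`x : (Sch/X) ⟶ 𝒳` with an equivariance structure `EqD` (morphisms `ρ g p : x(p) ⟶ x(g p)` for the points `g` of `G`, `p` of
`X`, natural, with `ρ 1 = 1` and the cocycle condition) extends to a functor `tFun : [X/G] ⟶ 𝒳` over `(Sch/S)`.
(Generalizes helper750's `K750.Twist`, the case `X = S`.)
-/

set_option autoImplicit false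
set_option backward.isDefEq.respectTransparency false
set_option backward.isDefEq.respectTransparency.types false

universe v₂ u₂ u

open CategoryTheory CategoryTheory.Limits MonoidalCategory CartesianMonoidalCategory MonObj GrpObj AlgebraicGeometry
open AlgSt K750.TorsPts K750.Cone K751.FG K746

namespace K743.TwX

open K750.Twist (sv pt pt_π tr act_tr)

variable {S : Scheme.{u}} {G X : Over S} [GrpObj G] (aX : AlgGrp.Action G X) {𝒳 : BasedCategory.{v₂, u₂} (Over S)}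
  (x : FibCat.overCat X ⥤ᵇ 𝒳)

/-- an equivariance structure on an `X`-point of `𝒳` -/
structure EqD where
  ρ : ∀ {T : Over S} (g : T ⟶ G) (p p' : T ⟶ X), K750.TorsPts.act aX g p = p' → (Xo x p ⟶ Xo x p')
  ρ_lift : ∀ {T : Over S} (g : T ⟶ G) (p p' : T ⟶ X) (h : K750.TorsPts.act aX g p = p'),
    𝒳.p.IsHomLift (𝟙 T) (ρ g p p' h)
  nat : ∀ {T T' : Over S} (f : T' ⟶ T) (g : T ⟶ G) (p p' : T ⟶ X) (h : K750.TorsPts.act aX g p = p')
    (g' : T' ⟶ G) (q q' : T' ⟶ X) (_ : f ≫ g = g') (hq : f ≫ p = q) (hq' : f ≫ p' = q')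
    (h' : K750.TorsPts.act aX g' q = q'), ρ g' q q' h' ≫ rs x f hq' = rs x f hq ≫ ρ g p p' h
  one : ∀ {T : Over S} (p : T ⟶ X) (h : K750.TorsPts.act aX 1 p = p), ρ 1 p p h = 𝟙 _
  mul : ∀ {T : Over S} (g h : T ⟶ G) (p p' p'' : T ⟶ X) (e1 : K750.TorsPts.act aX h p = p')
    (e2 : K750.TorsPts.act aX g p' = p'') (e3 : K750.TorsPts.act aX (g * h) p = p''),
    ρ (g * h) p p'' e3 = ρ h p p' e1 ≫ ρ g p' p'' e2

variable {aX x} (O : EqD aX x)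

namespace EqD

theorem ρ_congr {T : Over S} {g g' : T ⟶ G} (hg : g = g') (p p' : T ⟶ X) (h : K750.TorsPts.act aX g p = p')
    (h' : K750.TorsPts.act aX g' p = p') : O.ρ g p p' h = O.ρ g' p p' h' := by
  subst hg; rfl

theorem ρ_inv {T : Over S} (g : T ⟶ G) (p p' : T ⟶ X) (h : K750.TorsPts.act aX g p = p')
    (h' : K750.TorsPts.act aX g⁻¹ p' = p) : O.ρ g p p' h ≫ O.ρ g⁻¹ p' p h' = 𝟙 _ := by
  have h1 : K750.TorsPts.act aX (g⁻¹ * g) p = p := by rw [act_mul, h, h']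
  rw [← O.mul g⁻¹ g p p' p h h' h1, O.ρ_congr (inv_mul_cancel g) p p h1 (by rw [act_one])]
  exact O.one p _

theorem ρ_inv' {T : Over S} (g : T ⟶ G) (p p' : T ⟶ X) (h : K750.TorsPts.act aX g p = p')
    (h' : K750.TorsPts.act aX g⁻¹ p' = p) : O.ρ g⁻¹ p' p h' ≫ O.ρ g p p' h = 𝟙 _ := by
  have h1 : K750.TorsPts.act aX (g * g⁻¹) p' = p' := by rw [act_mul, h', h]
  rw [← O.mul g g⁻¹ p' p p' h' h h1, O.ρ_congr (mul_inv_cancel g) p' p' h1 (by rw [act_one])]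
  exact O.one p' _

theorem act_inv_of {T : Over S} {g : T ⟶ G} {p p' : T ⟶ X} (h : K750.TorsPts.act aX g p = p') :
    K750.TorsPts.act aX g⁻¹ p' = p := by
  rw [← h, ← act_mul, inv_mul_cancel, act_one]

instance isIso_ρ {T : Over S} (g : T ⟶ G) (p p' : T ⟶ X) (h : K750.TorsPts.act aX g p = p') : IsIso (O.ρ g p p' h) :=
  ⟨O.ρ g⁻¹ p' p (act_inv_of h), O.ρ_inv g p p' h _, O.ρ_inv' g p p' h _⟩

theorem desc_id {T : Over S} (k : T ⟶ G) (hk : k = 1) (q a : T ⟶ X) (h : K750.TorsPts.act aX k q = a)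
    (b : 𝟙 T ≫ q = a) : O.ρ k q a h ≫ rs x (𝟙 T) b = 𝟙 _ := by
  subst hk
  have hq' : q = a := by rw [← b, Category.id_comp]
  subst hq'
  rw [O.one, Category.id_comp, rs_id]

theorem desc_comp {T₁ T₂ T₃ : Over S} (f : T₁ ⟶ T₂) (g : T₂ ⟶ T₃) (q₁ : T₁ ⟶ X) (q₂ : T₂ ⟶ X) (q₃ : T₃ ⟶ X)
    (k₁ : T₁ ⟶ G) (k₂ : T₂ ⟶ G) (k : T₁ ⟶ G) (hk : k = (f ≫ k₂) * k₁) (a₁ : T₁ ⟶ X)
    (h₁ : K750.TorsPts.act aX k₁ q₁ = a₁) (b₁ : f ≫ q₂ = a₁) (a₂ : T₂ ⟶ X) (h₂ : K750.TorsPts.act aX k₂ q₂ = a₂)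
    (b₂ : g ≫ q₃ = a₂) (a₃ : T₁ ⟶ X) (h₃ : K750.TorsPts.act aX k q₁ = a₃) (b₃ : (f ≫ g) ≫ q₃ = a₃) :
    O.ρ k q₁ a₃ h₃ ≫ rs x (f ≫ g) b₃ = (O.ρ k₁ q₁ a₁ h₁ ≫ rs x f b₁) ≫ O.ρ k₂ q₂ a₂ h₂ ≫ rs x g b₂ := by
  subst hk
  have e1 : f ≫ a₂ = a₃ := by rw [← b₃, ← b₂, Category.assoc]
  have e2 : K750.TorsPts.act aX (f ≫ k₂) a₁ = a₃ := by rw [← h₃, act_mul, h₁]
  rw [O.mul _ _ _ _ _ h₁ e2 h₃, Category.assoc, Category.assoc]
  congr 1
  rw [← reassoc_of% (O.nat f k₂ q₂ a₂ h₂ (f ≫ k₂) a₁ a₃ rfl b₁ e1 e2), rs_comp x g f b₂ e1 b₃]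

end EqD

section Torsor

variable {P B : Over S} (a : AlgGrp.Action G P) (π : P ⟶ B) (φ : P ⟶ X)

/-- a family of morphisms `x(φ p) ⟶ y` over `p ≫ π ≫ f`, for the points `p : V ⟶ P`, compatible with the action -/
structure Tw {T : Over S} (f : B ⟶ T) (y : 𝒳.obj) where
  θ : ∀ {V : Over S} (p : V ⟶ P) (q : V ⟶ X), p ≫ φ = q → (Xo x q ⟶ y)
  lift : ∀ {V : Over S} (p : V ⟶ P) (q : V ⟶ X) (h : p ≫ φ = q), 𝒳.p.IsHomLift (p ≫ π ≫ f) (θ p q h)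
  comp : ∀ {V' V : Over S} (t : V' ⟶ V) (p : V ⟶ P) (p' : V' ⟶ P) (_ : t ≫ p = p') (q : V ⟶ X) (q' : V' ⟶ X)
    (hq : p ≫ φ = q) (hq' : p' ≫ φ = q') (htq : t ≫ q = q'), θ p' q' hq' = rs x t htq ≫ θ p q hq
  act : ∀ {V : Over S} (g : V ⟶ G) (p p' : V ⟶ P) (_ : K750.TorsPts.act a g p = p') (q q' : V ⟶ X) (hq : p ≫ φ = q)
    (hq' : p' ≫ φ = q') (e : K750.TorsPts.act aX g q = q'), O.ρ g q q' e ≫ θ p' q' hq' = θ p q hq

variable {a π φ} (hc : IsPullback a.act (snd G P) π π) (hφ : a.act ≫ φ = (G ◁ φ) ≫ aX.act)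

include hφ in
theorem tr_eq {o o' : (sv π).arrows.category} (f : o ⟶ o') :
    K750.TorsPts.act aX (tr hc f) (pt o ≫ φ) = (f.hom.left ≫ pt o') ≫ φ := by
  rw [← act_eqv a aX φ hφ, act_tr]

/-- the descent datum -/
noncomputable def descFun : Stk.sieveCat (sv π) ⥤ᵇ 𝒳 :=
  mkFunctor (fun o => Xo x (pt o ≫ φ)) (fun {o o'} f =>
      O.ρ (tr hc f) (pt o ≫ φ) ((f.hom.left ≫ pt o') ≫ φ) (tr_eq hc hφ f) ≫
        rs x f.hom.left (u := pt o' ≫ φ) (u' := (f.hom.left ≫ pt o') ≫ φ) (Category.assoc _ _ _).symm)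
    (fun {o o'} f => by
      have h1 := O.ρ_lift (tr hc f) (pt o ≫ φ) ((f.hom.left ≫ pt o') ≫ φ) (tr_eq hc hφ f)
      have h2 := rs_lift x f.hom.left (u := pt o' ≫ φ) (u' := (f.hom.left ≫ pt o') ≫ φ) (Category.assoc _ _ _).symm
      exact IsHomLift.comp_lift_id_left 𝒳.p f.hom.left _ _)
    (fun o => by
      refine O.desc_id _ ?_ _ _ _ _
      symm
      apply eq_dif a hc
      rw [act_one]
      exact (Category.id_comp _).symm)
    (fun {o o' o''} f g => by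
      refine O.desc_comp f.hom.left g.hom.left _ _ _ _ _ _ ?_ _ _ _ _ _ _ _ _ _
      symm
      apply eq_dif a hc
      rw [act_mul, act_tr, ← comp_act, act_tr]
      exact (Category.assoc _ _ _).symm)

variable {J : GrothendieckTopology (Over S)} (h𝒳 : Stk.IsStack J 𝒳) (hJ : sv π ∈ J B)

namespace Eff

open K750.Twist.Eff (ob ge act_ge)

variable {O hc hφ}
variable (E : K751.Test.Eff (descFun O hc hφ))

theorem nat' {o o' : (sv π).arrows.category} (f : o ⟶ o') :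
    O.ρ (tr hc f) (pt o ≫ φ) ((f.hom.left ≫ pt o') ≫ φ) (tr_eq hc hφ f) ≫
      rs x f.hom.left (u := pt o' ≫ φ) (u' := (f.hom.left ≫ pt o') ≫ φ) (Category.assoc _ _ _).symm ≫ E.ι o' =
        E.ι o := by
  rw [← E.nat f]
  exact (Category.assoc _ _ _).symm

include hφ in
theorem ge_eq {V : Over S} (p : V ⟶ P) (q : V ⟶ X) (h : p ≫ φ = q) :
    K750.TorsPts.act aX (ge hc p)⁻¹ q = pt (ob (π := π) p) ≫ φ := by
  apply EqD.act_inv_of
  rw [← act_eqv a aX φ hφ, act_ge, h]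

/-- the morphism attached to a point -/
noncomputable def θ {V : Over S} (p : V ⟶ P) (q : V ⟶ X) (h : p ≫ φ = q) : Xo x q ⟶ E.pt :=
  O.ρ (ge hc p)⁻¹ q (pt (ob (π := π) p) ≫ φ) (ge_eq (hφ := hφ) p q h) ≫ E.ι (ob p)

theorem θ_lift {V : Over S} (p : V ⟶ P) (q : V ⟶ X) (h : p ≫ φ = q) : 𝒳.p.IsHomLift (p ≫ π) (θ E p q h) := by
  have h1 := O.ρ_lift (ge hc p)⁻¹ q (pt (ob (π := π) p) ≫ φ) (ge_eq (hφ := hφ) p q h)
  have h2 : 𝒳.p.IsHomLift (p ≫ π) (E.ι (ob p)) := E.lift (ob p)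
  exact IsHomLift.comp_lift_id_left 𝒳.p (p ≫ π) _ _

theorem θ_eq {V : Over S} (p : V ⟶ P) (q : V ⟶ X) (hq : p ≫ φ = q) (o : (sv π).arrows.category)
    (s : V ⟶ o.obj.left) (g : V ⟶ G) (h : K750.TorsPts.act a g (s ≫ pt o) = p) (b : V ⟶ X)
    (hb : s ≫ pt o ≫ φ = b) (e : K750.TorsPts.act aX g⁻¹ q = b) :
    θ E p q hq = O.ρ g⁻¹ q b e ≫ rs x s hb ≫ E.ι o := by
  have hs : s ≫ o.obj.hom = p ≫ π := by
    rw [← h, act_comp_π a hc, Category.assoc, pt_π]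
  let f : ob (π := π) p ⟶ o := homM s hs
  obtain ⟨k, hk⟩ : ∃ k : V ⟶ G, k = tr hc f := ⟨_, rfl⟩
  have hk' : K750.TorsPts.act a k (pt (ob (π := π) p)) = s ≫ pt o := by
    rw [hk]
    exact act_tr hc f
  have h1 : ge hc p = g * k := by
    symm
    apply eq_dif a hc
    rw [act_mul, hk', h]
  have h2 := nat' E f
  have h3 : (ge hc p)⁻¹ = k⁻¹ * g⁻¹ := by rw [h1, _root_.mul_inv_rev]
  have e1 : K750.TorsPts.act aX k (pt (ob (π := π) p) ≫ φ) = b := by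
    rw [← act_eqv a aX φ hφ, hk', Category.assoc, hb]
  have e2 : K750.TorsPts.act aX k⁻¹ b = pt (ob (π := π) p) ≫ φ := EqD.act_inv_of e1
  have e3 : K750.TorsPts.act aX (k⁻¹ * g⁻¹) q = pt (ob (π := π) p) ≫ φ := by rw [act_mul, e, e2]
  have h4 : O.ρ k (pt (ob (π := π) p) ≫ φ) b e1 ≫ rs x s hb ≫ E.ι o = E.ι (ob p) := by
    have key : ∀ (k' : V ⟶ G) (b' : V ⟶ X) (e' : K750.TorsPts.act aX k' (pt (ob (π := π) p) ≫ φ) = b')
        (hb' : s ≫ pt o ≫ φ = b'), k' = k → b' = b →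
        O.ρ k' (pt (ob (π := π) p) ≫ φ) b' e' ≫ rs x s hb' ≫ E.ι o =
          O.ρ k (pt (ob (π := π) p) ≫ φ) b e1 ≫ rs x s hb ≫ E.ι o := by
      rintro k' b' e' hb' rfl rfl
      rfl
    refine (key (tr hc f) _ (tr_eq hc hφ f) (Category.assoc _ _ _).symm hk.symm ?_).symm.trans h2
    exact (Category.assoc _ _ _).trans hb
  rw [θ, O.ρ_congr h3 q _ _ e3, O.mul _ _ _ _ _ e e2, Category.assoc, ← h4]
  congr 1
  rw [← Category.assoc (O.ρ k⁻¹ _ _ e2), O.ρ_inv' k _ _ e1 e2, Category.id_comp]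

theorem θ_comp {V' V : Over S} (t : V' ⟶ V) (p : V ⟶ P) (p' : V' ⟶ P) (ht : t ≫ p = p') (q : V ⟶ X) (q' : V' ⟶ X)
    (hq : p ≫ φ = q) (hq' : p' ≫ φ = q') (htq : t ≫ q = q') : θ E p' q' hq' = rs x t htq ≫ θ E p q hq := by
  subst ht
  have e0 : K750.TorsPts.act a (ge hc p) (pt (ob (π := π) p)) = p := act_ge hc p
  have e1 := ge_eq (hφ := hφ) (hc := hc) p q hq
  have e2 : K750.TorsPts.act aX (t ≫ ge hc p)⁻¹ q' = t ≫ pt (ob (π := π) p) ≫ φ := by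
    rw [← e1, comp_act, comp_inv, htq]
  have key := O.nat t (ge hc p)⁻¹ q _ e1 (t ≫ ge hc p)⁻¹ q' _ (comp_inv _ _) htq rfl e2
  refine (θ_eq E (t ≫ p) q' hq' (ob p) t (t ≫ ge hc p) (by rw [← comp_act, e0]) _ rfl e2).trans ?_
  exact (Category.assoc _ _ _).symm.trans ((congrArg (fun z => z ≫ E.ι (ob (π := π) p)) key).trans (Category.assoc _ _ _))

theorem θ_act {V : Over S} (g : V ⟶ G) (p p' : V ⟶ P) (hp : K750.TorsPts.act a g p = p') (q q' : V ⟶ X)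
    (hq : p ≫ φ = q) (hq' : p' ≫ φ = q') (e : K750.TorsPts.act aX g q = q') :
    O.ρ g q q' e ≫ θ E p' q' hq' = θ E p q hq := by
  subst hp
  have e0 : K750.TorsPts.act a (ge hc p) (pt (ob (π := π) p)) = p := act_ge hc p
  have e1 := ge_eq (hφ := hφ) (hc := hc) p q hq
  have e2 : K750.TorsPts.act aX (g * ge hc p)⁻¹ q' = pt (ob (π := π) p) ≫ φ := by
    rw [← e1, ← e, ← act_mul, _root_.mul_inv_rev, _root_.mul_assoc, inv_mul_cancel, _root_.mul_one]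
  have e3 : K750.TorsPts.act aX g⁻¹ q' = q := EqD.act_inv_of e
  have e4 : K750.TorsPts.act aX ((ge hc p)⁻¹ * g⁻¹) q' = pt (ob (π := π) p) ≫ φ := by rw [act_mul, e3, e1]
  rw [θ_eq E _ q' hq' (ob p) (𝟙 V) (g * ge hc p) (by
      rw [act_mul]
      congr 1) (pt (ob (π := π) p) ≫ φ) (Category.id_comp _) e2, rs_id,
    Category.id_comp, O.ρ_congr (_root_.mul_inv_rev g (ge hc p)) q' _ e2 e4, O.mul _ _ _ _ _ e3 e1 e4, θ,
    Category.assoc, ← Category.assoc, O.ρ_inv g q q' e e3, Category.id_comp]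

/-- the trivializing family -/
noncomputable def tw : Tw O a π φ (𝟙 B) E.pt where
  θ p q h := θ E p q h
  lift p q h := by
    rw [Category.comp_id]
    exact θ_lift E p q h
  comp t p p' ht q q' hq hq' htq := θ_comp E t p p' ht q q' hq hq' htq
  act g p p' hp q q' hq hq' e := θ_act E g p p' hp q q' hq hq' e

end Eff

include hc hφ h𝒳 hJ in
/-- **Existence of the twisted form**, with its universal property. -/
theorem exists_tw : ∃ (y : 𝒳.obj) (_ : 𝒳.p.obj y = B) (τ : Tw O a π φ (𝟙 B) y),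
    ∀ {T : Over S} (f : B ⟶ T) (y' : 𝒳.obj) (_ : 𝒳.p.obj y' = T) (τ' : Tw O a π φ f y'),
      ∃! m : y ⟶ y', 𝒳.p.IsHomLift f m ∧ ∀ {V : Over S} (p : V ⟶ P) (q : V ⟶ X) (h : p ≫ φ = q),
        τ.θ p q h ≫ m = τ'.θ p q h := by
  obtain ⟨E⟩ := K751.Test.exists_eff h𝒳 hJ (descFun O hc hφ)
  refine ⟨E.pt, E.pt_obj, Eff.tw E, fun {T} f y' hy' τ' => ?_⟩
  obtain ⟨m, ⟨hm1, hm2⟩, hm3⟩ := E.existsUnique_desc' (K751.Test.isPrestack_of_isStack h𝒳) hJ f hy'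
    (fun o => τ'.θ (pt o) (pt o ≫ φ) rfl) (fun o => by
      have := τ'.lift (pt o) (pt o ≫ φ) rfl
      rwa [← Category.assoc, pt_π] at this) (fun {o o'} t => by
      refine (Category.assoc _ _ _).trans ?_
      refine (congrArg (fun z => O.ρ (tr hc t) (pt o ≫ φ) ((t.hom.left ≫ pt o') ≫ φ) (tr_eq hc hφ t) ≫ z)
        (τ'.comp t.hom.left (pt o') (t.hom.left ≫ pt o') rfl (pt o' ≫ φ) ((t.hom.left ≫ pt o') ≫ φ) rfl rfl
          (Category.assoc _ _ _).symm).symm).trans ?_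
      exact τ'.act (tr hc t) (pt o) (t.hom.left ≫ pt o') (act_tr hc t) _ _ rfl rfl (tr_eq hc hφ t))
  refine ⟨m, ⟨hm1, fun {V} p q h => ?_⟩, ?_⟩
  · have e1 := Eff.ge_eq (hφ := hφ) (hc := hc) p q h
    change (O.ρ (K750.Twist.Eff.ge hc p)⁻¹ q _ e1 ≫ E.ι (K750.Twist.Eff.ob p)) ≫ m = τ'.θ p q h
    rw [Category.assoc, hm2]
    have e2 : K750.TorsPts.act a (K750.Twist.Eff.ge hc p)⁻¹ p = pt (K750.Twist.Eff.ob (π := π) p) := by
      apply EqD.act_inv_of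
      exact K750.Twist.Eff.act_ge hc p
    exact τ'.act _ p _ e2 q _ h rfl e1
  · rintro m' ⟨h1, h2⟩
    refine hm3 m' ⟨h1, fun o => ?_⟩
    have e1 : K750.TorsPts.act aX (1 : _ ⟶ G)⁻¹ (pt o ≫ φ) = pt o ≫ φ := by rw [inv_one, act_one]
    have h3 : Eff.θ E (pt o) (pt o ≫ φ) rfl = E.ι o := by
      rw [Eff.θ_eq E (pt o) (pt o ≫ φ) rfl o (𝟙 _) 1 (by rw [act_one, Category.id_comp]) (pt o ≫ φ)
        (Category.id_comp _) e1, rs_id, Category.id_comp, O.ρ_congr inv_one _ _ _ (act_one _ _), O.one,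
        Category.id_comp]
    rw [← h3]
    exact h2 (pt o) _ rfl

end Torsor

section Functor

variable {K : Precoverage Scheme.{u}} (h𝒳 : Stk.IsStack (QuotSh.J K S) 𝒳)

/-- pull-back of a trivializing family along a morphism of torsors -/
def Tw.pre {A B : QuotObj K G aX} (h : A ⟶ B) {y : 𝒳.obj} (τ : Tw O B.act B.π B.φ (𝟙 B.base) y) :
    Tw O A.act A.π A.φ h.base y where
  θ p q e := τ.θ (p ≫ h.top) q (by rw [Category.assoc, h.wφ, e])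
  lift p q e := by
    have h1 := τ.lift (p ≫ h.top) q (by rw [Category.assoc, h.wφ, e])
    rw [Category.comp_id, Category.assoc, h.cart.w] at h1
    exact h1
  comp t p p' ht q q' hq hq' htq := τ.comp t _ _ (by rw [← ht, Category.assoc]) _ _ _ _ htq
  act g p p' hp q q' hq hq' e := τ.act g _ _ (by rw [← hp, act_eqv A.act B.act h.top h.eqv]) _ _ _ _ e

include h𝒳 in
theorem exists_tw' (A : QuotObj K G aX) :
    ∃ (y : 𝒳.obj) (_ : 𝒳.p.obj y = A.base) (τ : Tw O A.act A.π A.φ (𝟙 A.base) y),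
    ∀ {T : Over S} (f : A.base ⟶ T) (y' : 𝒳.obj) (_ : 𝒳.p.obj y' = T) (τ' : Tw O A.act A.π A.φ f y'),
      ∃! m : y ⟶ y', 𝒳.p.IsHomLift f m ∧ ∀ {V : Over S} (p : V ⟶ A.P) (q : V ⟶ X) (h : p ≫ A.φ = q),
        τ.θ p q h ≫ m = τ'.θ p q h :=
  exists_tw O A.cart A.eqv h𝒳 (K750.Twist.sv_mem A.loc)

/-- the twisted form of `x` by the torsor `A` -/
noncomputable def yo (A : QuotObj K G aX) : 𝒳.obj := (exists_tw' O h𝒳 A).choose

theorem yo_obj (A : QuotObj K G aX) : 𝒳.p.obj (yo O h𝒳 A) = A.base := (exists_tw' O h𝒳 A).choose_spec.choose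

/-- the trivializing family of the twisted form -/
noncomputable def yτ (A : QuotObj K G aX) : Tw O A.act A.π A.φ (𝟙 A.base) (yo O h𝒳 A) :=
  (exists_tw' O h𝒳 A).choose_spec.choose_spec.choose

theorem existsUnique_yo (A : QuotObj K G aX) {T : Over S} (f : A.base ⟶ T) (y' : 𝒳.obj) (hy : 𝒳.p.obj y' = T)
    (τ' : Tw O A.act A.π A.φ f y') : ∃! m : yo O h𝒳 A ⟶ y', 𝒳.p.IsHomLift f m ∧
      ∀ {V : Over S} (p : V ⟶ A.P) (q : V ⟶ X) (h : p ≫ A.φ = q), (yτ O h𝒳 A).θ p q h ≫ m = τ'.θ p q h :=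
  (exists_tw' O h𝒳 A).choose_spec.choose_spec.choose_spec f y' hy τ'

/-- the morphism of twisted forms attached to a morphism of torsors -/
noncomputable def ym {A B : QuotObj K G aX} (h : A ⟶ B) : yo O h𝒳 A ⟶ yo O h𝒳 B :=
  (existsUnique_yo O h𝒳 A h.base (yo O h𝒳 B) (yo_obj O h𝒳 B) (Tw.pre O h (yτ O h𝒳 B))).choose

theorem ym_lift {A B : QuotObj K G aX} (h : A ⟶ B) : 𝒳.p.IsHomLift h.base (ym O h𝒳 h) :=
  (existsUnique_yo O h𝒳 A h.base (yo O h𝒳 B) (yo_obj O h𝒳 B) (Tw.pre O h (yτ O h𝒳 B))).choose_spec.1.1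

theorem θ_ym {A B : QuotObj K G aX} (h : A ⟶ B) {V : Over S} (p : V ⟶ A.P) (q : V ⟶ X) (e : p ≫ A.φ = q) :
    (yτ O h𝒳 A).θ p q e ≫ ym O h𝒳 h = (yτ O h𝒳 B).θ (p ≫ h.top) q (by rw [Category.assoc, h.wφ, e]) :=
  (existsUnique_yo O h𝒳 A h.base (yo O h𝒳 B) (yo_obj O h𝒳 B) (Tw.pre O h (yτ O h𝒳 B))).choose_spec.1.2 p q e

theorem eq_ym {A B : QuotObj K G aX} (h : A ⟶ B) (m : yo O h𝒳 A ⟶ yo O h𝒳 B) (h1 : 𝒳.p.IsHomLift h.base m)
    (h2 : ∀ {V : Over S} (p : V ⟶ A.P) (q : V ⟶ X) (e : p ≫ A.φ = q), (yτ O h𝒳 A).θ p q e ≫ m =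
      (yτ O h𝒳 B).θ (p ≫ h.top) q (by rw [Category.assoc, h.wφ, e])) : m = ym O h𝒳 h :=
  (existsUnique_yo O h𝒳 A h.base (yo O h𝒳 B) (yo_obj O h𝒳 B) (Tw.pre O h (yτ O h𝒳 B))).choose_spec.2 m ⟨h1, h2⟩

theorem Tw.θ_congr {P B : Over S} {a : AlgGrp.Action G P} {π : P ⟶ B} {φ : P ⟶ X} {O : EqD aX x} {T : Over S}
    {f : B ⟶ T} {y : 𝒳.obj} (τ : Tw O a π φ f y) {V : Over S} {p p' : V ⟶ P} (h : p = p') (q : V ⟶ X)
    (e : p ≫ φ = q) (e' : p' ≫ φ = q) : τ.θ p q e = τ.θ p' q e' := by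
  subst h; rfl

/-- **The functor `[X/G] ⥤ᵇ 𝒳` attached to an equivariant `X`-point of `𝒳`.** -/
noncomputable def tFun : QuotSt K G aX ⥤ᵇ 𝒳 :=
  mkFunctor (fun A => yo O h𝒳 A) (fun h => ym O h𝒳 h) (fun h => ym_lift O h𝒳 h)
    (fun A => by
      symm
      apply eq_ym O h𝒳
      · exact IsHomLift.id (yo_obj O h𝒳 A)
      · intro V p q e
        rw [Category.comp_id]
        exact (yτ O h𝒳 A).θ_congr (Category.comp_id p).symm q _ _)
    (fun {A B D} h k => by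
      symm
      apply eq_ym O h𝒳
      · have h1 := ym_lift O h𝒳 h
        have h2 := ym_lift O h𝒳 k
        exact IsHomLift.comp 𝒳.p h.base k.base (ym O h𝒳 h) (ym O h𝒳 k)
      · intro V p q e
        rw [← Category.assoc, θ_ym, θ_ym]
        exact (yτ O h𝒳 D).θ_congr (Category.assoc _ _ _) q _ _)

variable [K.HasIsos]

/-- the point of the trivial torsor -/
noncomputable abbrev e1 (V : Over S) : V ⟶ G ⊗ V := lift (1 : V ⟶ G) (𝟙 V)

theorem e1_φ (a : (ofSch X).obj) : e1 a.base ≫ ((quotMap K G aX).obj a).φ = a.sec.down := by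
  change lift (1 : a.base ⟶ G) (𝟙 a.base) ≫ (G ◁ a.sec.down) ≫ aX.act = _
  rw [← Category.assoc, lift_whiskerLeft, Category.id_comp]
  exact act_one aX a.sec.down

theorem e1_π (a : (ofSch X).obj) : e1 a.base ≫ ((quotMap K G aX).obj a).π = 𝟙 a.base := lift_snd _ _

/-- comparison of `x` with its value through the quotient -/
noncomputable def θ₀ (a : (ofSch X).obj) : Xo x a.sec.down ⟶ yo O h𝒳 ((quotMap K G aX).obj a) :=
  (yτ O h𝒳 ((quotMap K G aX).obj a)).θ (e1 a.base) a.sec.down (e1_φ a)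

theorem θ₀_lift (a : (ofSch X).obj) : 𝒳.p.IsHomLift (𝟙 a.base) (θ₀ O h𝒳 a) := by
  have h3 := (yτ O h𝒳 ((quotMap K G aX).obj a)).lift (e1 a.base) a.sec.down (e1_φ a)
  have h4 : e1 a.base ≫ ((quotMap K G aX).obj a).π ≫ 𝟙 _ = 𝟙 a.base := by
    rw [Category.comp_id]
    exact e1_π a
  rw [h4] at h3
  exact h3

theorem θ₀_nat {a b : (ofSch X).obj} (f : a ⟶ b) (hf : f.hom ≫ b.sec.down = a.sec.down) :
    rs x f.hom hf ≫ θ₀ O h𝒳 b = θ₀ O h𝒳 a ≫ ym O h𝒳 ((quotMap K G aX).map f) := by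
  rw [θ₀, θ₀, θ_ym]
  refine ((yτ O h𝒳 ((quotMap K G aX).obj b)).comp f.hom (e1 b.base) _ ?_ b.sec.down a.sec.down (e1_φ b) _ hf).symm
  change f.hom ≫ e1 b.base = e1 a.base ≫ (G ◁ f.hom)
  apply CartesianMonoidalCategory.hom_ext
  · rw [Category.assoc, lift_fst, comp_one, Category.assoc, whiskerLeft_fst, lift_fst]
  · rw [Category.assoc, lift_snd, Category.assoc, whiskerLeft_snd, lift_snd_assoc, Category.id_comp,
      Category.comp_id]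

/-- the restriction of the functor to trivial torsors -/
theorem nonempty_iso : Nonempty (BasedFunctor.comp (quotMap K G aX) (tFun O h𝒳) ≅
    BasedFunctor.comp (toOverCat X) x) := by
  let α : BasedFunctor.comp (toOverCat X) x ⟶ BasedFunctor.comp (quotMap K G aX) (tFun O h𝒳) :=
    mkNatTrans (fun a => θ₀ O h𝒳 a) (fun a => θ₀_lift O h𝒳 a) (fun {a b} f => θ₀_nat O h𝒳 f (congrArg ULift.down f.map_sec))
  have : IsIso α := isIso_natTrans h𝒳.1 α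
  exact ⟨(asIso α).symm⟩

end Functor

end K743.TwX
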