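import Mathlib.AlgebraicGeometry.ValuativeCriterion
import Mathlib.AlgebraicGeometry.Morphisms.UniversallyOpen

/-!
# Valuation rings realising specializations
-/

set_option autoImplicit false

universe u

open CategoryTheory CategoryTheory.Limits AlgebraicGeometry IsLocalRing

namespace K743.Val

set_option backward.isDefEq.respectTransparency.types false in
/-- A specialization `g x ⤳ y` is realised by a valuation ring with fraction field the residue field of `x`. -/
theorem exists_valuationRing_of_specializes {U V : Scheme.{u}} (g : U ⟶ V) (x : U) (y : V) (h : g x ⤳ y) :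
    ∃ (A : Type u) (_ : CommRing A) (_ : IsDomain A) (_ : ValuationRing A) (m : Spec (CommRingCat.of A) ⟶ V)
      (n : Spec (CommRingCat.of (FractionRing A)) ⟶ U),
      n ≫ g = Spec.map (CommRingCat.ofHom (algebraMap A (FractionRing A))) ≫ m ∧
      m (closedPoint A) = y ∧ ∀ z, n z = x := by
  let σ : V.presheaf.stalk y ⟶ U.residueField x :=
    V.presheaf.stalkSpecializes h ≫ g.stalkMap x ≫ U.residue x
  obtain ⟨A, hA, hA_local⟩ := exists_factor_valuationRing σ.hom
  let τ : V.presheaf.stalk y ⟶ .of A := CommRingCat.ofHom (σ.hom.codRestrict _ hA)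
  have w : U.fromSpecResidueField x ≫ g =
      Spec.map (CommRingCat.ofHom (algebraMap A (U.residueField x))) ≫
        Spec.map τ ≫ V.fromSpecStalk y := by
    rw [Scheme.fromSpecResidueField, Category.assoc, ← Scheme.SpecMap_stalkMap_fromSpecStalk,
      ← Scheme.SpecMap_stalkSpecializes_fromSpecStalk h]
    simp_rw [← Spec.map_comp_assoc]
    rfl
  let ε : FractionRing A ≃ₐ[A] U.residueField x := FractionRing.algEquiv A (U.residueField x)
  have hε : (ε : FractionRing A →+* U.residueField x).comp (algebraMap A (FractionRing A)) =
      algebraMap A (U.residueField x) := ε.toAlgHom.comp_algebraMap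
  have hε' : (ε.symm : U.residueField x →+* FractionRing A).comp (algebraMap A (U.residueField x)) =
      algebraMap A (FractionRing A) := ε.symm.toAlgHom.comp_algebraMap
  refine ⟨A, inferInstance, inferInstance, inferInstance, Spec.map τ ≫ V.fromSpecStalk y,
    Spec.map (CommRingCat.ofHom (ε.symm : U.residueField x →+* FractionRing A)) ≫ U.fromSpecResidueField x, ?_, ?_, ?_⟩
  · rw [Category.assoc, w, ← Spec.map_comp_assoc]
    congr 2
    rw [← CommRingCat.ofHom_comp]
    congr 1
  · rw [Scheme.Hom.comp_apply]
    have : Spec.map τ (closedPoint A) = closedPoint (V.presheaf.stalk y) :=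
      comap_closedPoint (S := A) (σ.hom.codRestrict A.toSubring hA)
    rw [this, V.fromSpecStalk_closedPoint]
  · intro z
    rw [Scheme.Hom.comp_apply]
    exact Scheme.fromSpecResidueField_apply _ _

/-- A flat morphism to the spectrum of a valuation ring hitting the closed point receives an extension of valuation
rings. -/
theorem exists_valuationRing_of_flat {A : Type u} [CommRing A] [IsDomain A] [ValuationRing A] {W : Scheme.{u}}
    (h : W ⟶ Spec (CommRingCat.of A)) [Flat h] (w : W) (hw : h w = closedPoint A) :
    ∃ (A' : Type u) (_ : CommRing A') (_ : IsDomain A') (_ : ValuationRing A') (φ : A →+* A')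
      (g : Spec (CommRingCat.of A') ⟶ W),
      Function.Injective φ ∧ IsLocalHom φ ∧ g ≫ h = Spec.map (CommRingCat.ofHom φ) := by
  let η : Spec (CommRingCat.of A) := (⊥ : PrimeSpectrum A)
  have hη : η ⤳ h w := by
    rw [hw]
    exact specializes_closedPoint (R := A) _
  obtain ⟨w', hw', hw'η⟩ := Flat.generalizingMap h hη
  obtain ⟨A', _, _, _, m, n, hmn, hm, hn⟩ := exists_valuationRing_of_specializes (𝟙 W) w' w hw'
  refine ⟨A', inferInstance, inferInstance, inferInstance, (Spec.preimage (m ≫ h)).hom, m, ?_, ?_, ?_⟩
  · have h1 : (Spec.preimage (m ≫ h)).hom = (Spec.preimage (m ≫ h)).hom := rfl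
    have h2 : PrimeSpectrum.comap (Spec.preimage (m ≫ h)).hom ⊥ = ⊥ := by
      have h3 : (m ≫ h) (⊥ : PrimeSpectrum A') = η := by
        have h4 : Spec.map (CommRingCat.ofHom (algebraMap A' (FractionRing A')))
            (closedPoint (FractionRing A')) = (⊥ : PrimeSpectrum A') := by
          change PrimeSpectrum.comap (algebraMap A' (FractionRing A')) (closedPoint (FractionRing A')) = ⊥
          apply PrimeSpectrum.ext
          change Ideal.comap (algebraMap A' (FractionRing A')) (maximalIdeal (FractionRing A')) = ⊥
          rw [maximalIdeal_eq_bot]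
          exact (RingHom.injective_iff_ker_eq_bot _).1 (IsFractionRing.injective A' (FractionRing A'))
        rw [← h4]
        have h7 : m (Spec.map (CommRingCat.ofHom (algebraMap A' (FractionRing A')))
            (closedPoint (FractionRing A'))) = w' := by
          have h8 := congrArg (fun k => k.base (closedPoint (FractionRing A'))) hmn
          exact h8.symm.trans (hn _)
        exact (congrArg h h7).trans hw'η
      have h5 : Spec.map (Spec.preimage (m ≫ h)) = m ≫ h := Spec.map_preimage _
      rw [← h5] at h3
      exact h3
    have h6 := congrArg PrimeSpectrum.asIdeal h2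
    change Ideal.comap (Spec.preimage (m ≫ h)).hom ⊥ = ⊥ at h6
    exact (RingHom.injective_iff_ker_eq_bot _).2 h6
  · rw [isLocalHom_iff_comap_closedPoint]
    have h5 : Spec.map (Spec.preimage (m ≫ h)) = m ≫ h := Spec.map_preimage _
    have h3 : (m ≫ h) (closedPoint A') = closedPoint A := (congrArg h hm).trans hw
    rw [← h5] at h3
    exact h3
  · exact (Spec.map_preimage (m ≫ h)).symm

end K743.Val
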